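import Cfsg.Agent.O83.Basic

/-! From the singular vectors to the action of the normaliser. -/

set_option autoImplicit false
set_option linter.unusedSectionVars false
set_option maxRecDepth 100000
set_option synthInstance.maxSize 4096

namespace Cfsg.Agent.O83.Bs

open Subgroup Cfsg.Agent.Char Cfsg.Agent.Local Cfsg.Agent.P43 Cfsg.Agent.P43.L
open scoped Pointwise

attribute [local irreducible] Mat.memN r1 r2 r3 z s sg qq eL Mat.cmul Mat.cinv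
attribute [local instance 10000] List.decidableBAll

/-- The identity matrix. -/
def m1 : M := ((1, 0, 0, 0), (0, 1, 0, 0), (0, 0, 1, 0), (0, 0, 0, 1))

/-- A cyclic permutation of the coordinates. -/
def mC : M := ((1, 0, 0, 0), (0, 0, 1, 0), (0, 0, 0, 1), (0, 1, 0, 0))

/-- The reflection in a vector of norm two. -/
def rf (u : V) : M :=
  ((1, 0, 0, 0) - u.1 • u, (0, 1, 0, 0) - u.2.1 • u, (0, 0, 1, 0) - u.2.2.1 • u, (0, 0, 0, 1) - u.2.2.2 • u)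

/-- The matrices induced by `Q`. -/
def L9 : List M := [m1, mC, mm mC mC].flatMap fun p => [p, mm p δ, mm p (mm δ δ)]

/-- Long roots. -/
def lg : List V := [(1, 1, 0, 0), (1, 2, 0, 0), (1, 0, 1, 0), (1, 0, 2, 0), (1, 0, 0, 1), (1, 0, 0, 2), (0, 1, 1, 0), (0, 1, 2,
  0), (0, 1, 0, 1), (0, 1, 0, 2), (0, 0, 1, 1), (0, 0, 1, 2)]

/-- Products of reflections. -/
def wds : List (List ℕ) := [[], [11, 10], [11], [10], [9, 8], [7, 6], [10, 7, 6], [11, 7, 6], [7], [11, 10, 6], [9, 7], [8, 7], [9, 8, 6], [6],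
  [8, 6], [9, 6], [11, 7], [10, 6], [9], [8, 7, 6], [10, 7], [11, 6], [8], [9, 7, 6], [5, 4], [3, 2], [10, 3, 2], [11,
  3, 2], [1, 0], [11, 10, 1, 0], [11, 1, 0], [10, 1, 0], [7, 5, 4], [6, 1, 0], [8, 6, 1, 0], [9, 6, 1, 0], [7, 1, 0],
  [6, 5, 4], [9, 7, 1, 0], [8, 7, 1, 0], [10, 7, 1, 0], [11, 6, 1, 0], [8, 1, 0], [9, 3, 2], [11, 7, 1, 0], [10, 6, 1,
  0], [9, 1, 0], [8, 3, 2], [1], [11, 10, 1], [11, 1], [10, 1], [9, 8, 0], [7, 6, 0], [10, 7, 6, 0], [11, 7, 6, 0],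
  [3, 1], [9, 8, 2, 0], [5, 3, 1], [4, 3, 1], [9, 8, 3, 0], [2, 1], [4, 2, 1], [5, 2, 1], [11, 3, 1], [10, 2, 1], [5,
  1], [7, 6, 4, 0], [10, 3, 1], [11, 2, 1], [4, 1], [7, 6, 5, 0], [5, 4, 0], [3, 2, 0], [10, 3, 2, 0], [11, 3, 2, 0],
  [0], [11, 10, 0], [11, 0], [10, 0], [5, 4, 2, 0], [2, 0], [4, 2, 0], [5, 2, 0], [3, 0], [11, 10, 2, 0], [5, 3, 0],
  [4, 3, 0], [10, 3, 0], [11, 2, 0], [4, 0], [5, 3, 2, 0], [11, 3, 0], [10, 2, 0], [5, 0], [4, 3, 2, 0], [7, 1], [6,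
  5, 4, 0], [9, 7, 1], [8, 7, 1], [9, 8, 6, 0], [6, 0], [8, 6, 0], [9, 6, 0], [3], [11, 10, 2], [5, 3], [4, 3], [9, 8,
  3], [2, 1, 0], [4, 2, 1, 0], [5, 2, 1, 0], [9, 3], [8, 2, 1, 0], [7, 5, 1], [6, 4, 0], [8, 3], [9, 2, 1, 0], [7, 4,
  1], [6, 5, 0], [7, 5, 4, 0], [6, 1], [8, 6, 1], [9, 6, 1], [7, 0], [11, 10, 6, 0], [9, 7, 0], [8, 7, 0], [5, 4, 2],
  [2], [4, 2], [5, 2], [3, 1, 0], [9, 8, 2], [5, 3, 1, 0], [4, 3, 1, 0], [8, 3, 1, 0], [9, 2], [7, 4, 0], [6, 5, 1],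
  [9, 3, 1, 0], [8, 2], [7, 5, 0], [6, 4, 1], [11, 7, 1], [10, 6, 1], [9, 1], [8, 3, 2, 0], [10, 7, 0], [11, 6, 0],
  [8, 0], [9, 7, 6, 0], [11, 3], [10, 2], [5], [4, 3, 2], [10, 3, 1, 0], [11, 2, 1, 0], [4, 1, 0], [7, 6, 5], [9, 3,
  1], [8, 2, 0], [7, 5], [6, 4, 1, 0], [8, 3, 0], [9, 2, 1], [7, 4, 1, 0], [6, 5], [10, 7, 1], [11, 6, 1], [8, 1], [9,
  3, 2, 0], [11, 7, 0], [10, 6, 0], [9, 0], [8, 7, 6, 0], [10, 3], [11, 2], [4], [5, 3, 2], [11, 3, 1, 0], [10, 2, 1,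
  0], [5, 1, 0], [7, 6, 4], [8, 3, 1], [9, 2, 0], [7, 4], [6, 5, 1, 0], [9, 3, 0], [8, 2, 1], [7, 5, 1, 0], [6, 4]]

theorem W4_eq : W4 = wds.map fun l => l.foldr (fun k m => mm (rf (lg.getD k (1, 1, 0, 0))) m) m1 := by
  decide +kernel

theorem W4_tr : ∀ v, ip v v = 0 → v ≠ 0 → ∃ m ∈ W4, ap m v = (0, 1, 1, 1) := by decide +kernel

attribute [local irreducible] W W3 W4

theorem L9_W : ∀ m ∈ L9, m ∈ W := by
  simp only [mem_W]
  decide +kernel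

theorem ap_rf (u v : V) : ap (rf u) v = v - ip v u • u := by
  simp only [ap, rf, ip, Prod.fst_sub, Prod.snd_sub, Prod.smul_fst, Prod.smul_snd, smul_eq_mul, Prod.ext_iff]
  refine ⟨?_, ?_, ?_, ?_⟩ <;> ring

theorem ap_sub (m : M) (u v : V) (k : ZMod 3) : ap m (v - k • u) = ap m v - k • ap m u := by
  simp only [ap, Prod.fst_sub, Prod.snd_sub, Prod.smul_fst, Prod.smul_snd, smul_eq_mul, Prod.ext_iff]
  refine ⟨?_, ?_, ?_, ?_⟩ <;> ring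

theorem sim {m : M} (h : ∀ v, ip v v = 0 → ip (ap m v) (ap m v) = 0) {b : V} (hb : ip b b ≠ 0) (e : ap m b = b) :
    m ∈ W := by
  have k : ∀ v : V, ip (ap m v) (ap m v) = v.1 * v.1 * ip m.1 m.1 + v.2.1 * v.2.1 * ip m.2.1 m.2.1 +
      v.2.2.1 * v.2.2.1 * ip m.2.2.1 m.2.2.1 + v.2.2.2 * v.2.2.2 * ip m.2.2.2 m.2.2.2 +
      2 * (v.1 * v.2.1 * ip m.1 m.2.1 + v.1 * v.2.2.1 * ip m.1 m.2.2.1 + v.1 * v.2.2.2 * ip m.1 m.2.2.2 +
        v.2.1 * v.2.2.1 * ip m.2.1 m.2.2.1 + v.2.1 * v.2.2.2 * ip m.2.1 m.2.2.2 +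
        v.2.2.1 * v.2.2.2 * ip m.2.2.1 m.2.2.2) := fun v => by
    simp only [ip, ap]; ring
  have k1 : ∀ a x y w : ZMod 3, a + 2 * (x + y + w) = 0 → a + 2 * (x - y - w) = 0 → a + 2 * (-x + y - w) = 0 →
      a + 2 * (-x - y + w) = 0 → a = 0 ∧ x = 0 ∧ y = 0 ∧ w = 0 := by decide
  have k2 := k b
  simp only [k] at h
  rw [e] at k2
  rw [mem_W]
  generalize ip m.1 m.1 = p1, ip m.2.1 m.2.1 = p2, ip m.2.2.1 m.2.2.1 = p3, ip m.2.2.2 m.2.2.2 = p4,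
    ip m.1 m.2.1 = q12, ip m.1 m.2.2.1 = q13, ip m.1 m.2.2.2 = q14, ip m.2.1 m.2.2.1 = q23,
    ip m.2.1 m.2.2.2 = q24, ip m.2.2.1 m.2.2.2 = q34 at h k2 ⊢
  obtain ⟨a1, rfl, rfl, rfl⟩ := k1 (p2 + p3 + p4) q23 q24 q34 (by linear_combination h (0, 1, 1, 1) rfl)
    (by linear_combination h (0, 1, 1, -1) rfl) (by linear_combination h (0, 1, -1, 1) rfl)
    (by linear_combination h (0, -1, 1, 1) rfl)
  obtain ⟨a2, rfl, rfl, -⟩ := k1 (p1 + p3 + p4) q13 q14 0 (by linear_combination h (1, 0, 1, 1) rfl)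
    (by linear_combination h (1, 0, 1, -1) rfl) (by linear_combination h (1, 0, -1, 1) rfl)
    (by linear_combination h (-1, 0, 1, 1) rfl)
  obtain ⟨a3, rfl, -, -⟩ := k1 (p1 + p2 + p4) q12 0 0 (by linear_combination h (1, 1, 0, 1) rfl)
    (by linear_combination h (1, 1, 0, -1) rfl) (by linear_combination h (1, -1, 0, 1) rfl)
    (by linear_combination h (-1, 1, 0, 1) rfl)
  obtain ⟨rfl, rfl, rfl⟩ := (by decide : ∀ a b c d : ZMod 3, b + c + d = 0 → a + c + d = 0 → a + b + d = 0 →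
    b = a ∧ c = a ∧ d = a) _ _ _ _ a1 a2 a3
  obtain rfl := (by decide : ∀ a x : ZMod 3, x ≠ 0 → x = x * a → a = 1) p4 _ hb (by
    unfold ip at k2 ⊢; linear_combination k2)
  simp

variable {G : Type*} [Group G] {J : Subgroup G} {e : V → G} {f : L →* G} {g d : G} {m : M}

theorem ac_of (hp : Param J e) {u1 u2 u3 u4 : V}
    (hs : ∀ v, ∃ i < 3, ∃ j < 3, ∃ k < 3, ∃ l < 3, v = i • u1 + j • u2 + k • u3 + l • u4)
    (h1 : g * e u1 * g⁻¹ = e (ap m u1)) (h2 : g * e u2 * g⁻¹ = e (ap m u2)) (h3 : g * e u3 * g⁻¹ = e (ap m u3))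
    (h4 : g * e u4 * g⁻¹ = e (ap m u4)) : Ac e g (ap m) := fun v => by
  let A : AddSubgroup V :=
    { carrier := {v | g * e v * g⁻¹ = e (ap m v)}
      zero_mem' := by simpa [ap, show e (0, 0, 0, 0) = 1 from hp.zero] using hp.zero
      add_mem' := fun {a b} (ha : _ = _) (hb : _ = _) => by
        rw [Set.mem_setOf, ap_add, hp.add, hp.add, ← ha, ← hb, conj_mul]
      neg_mem' := fun {a} (ha : _ = _) => by rw [Set.mem_setOf, ap_neg, hp.neg, hp.neg, ← ha, conj_inv] }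
  obtain ⟨i, -, j, -, k, -, l, -, rfl⟩ := hs v
  exact A.add_mem (A.add_mem (A.add_mem (A.nsmul_mem h1 i) (A.nsmul_mem h2 j)) (A.nsmul_mem h3 k)) (A.nsmul_mem h4 l)

theorem exists_ap (hp : Param J e) (hg : g ∈ normalizer (J : Set G)) : ∃ m, Ac e g (ap m) := by
  choose c hc using fun v => (hp.mem _).mp (conj_mem_of_mem_normalizer hg (hp.mem' v))
  refine ⟨(c (1, 0, 0, 0), c (0, 1, 0, 0), c (0, 0, 1, 0), c (0, 0, 0, 1)), ac_of hp (u1 := (1, 0, 0, 0))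
    (u2 := (0, 1, 0, 0)) (u3 := (0, 0, 1, 0)) (u4 := (0, 0, 0, 1)) (by decide +kernel) ?_ ?_ ?_ ?_⟩ <;>
    simp [ap, hc]

/-- The coordinates. -/
structure B1 (J : Subgroup G) (e : V → G) (f : L →* G) (d : G) : Prop extends Dd e f d where
  par : Param J e
  inj : Function.Injective f
  ee : ∀ v, f (eL v) = e (emb v)
  ca : ∀ l k, f l * e (k, 0, 0, 0) = e (k, 0, 0, 0) * f l

namespace B1

variable (h : B1 J e f d)
include h

theorem ez : f z = e (0, 1, 1, 1) := by rw [← eL_val.2.2.1, h.ee]; rfl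

theorem ac_L {l : L} {p : V27 → V27} (h1 : ∀ v, l * eL v * l⁻¹ = eL (p v)) :
    Ac e (f l) fun v => (v.1, 0, 0, 0) + emb (p (pr v)) := fun v => by
  conv_lhs => rw [emb_pr v]
  rw [h.par.add, ← conj_mul, mul_inv_eq_iff_eq_mul.mpr (h.ca l _), ← h.ee, map_cj f (h1 _), h.ee, h.par.add]

theorem ac_s : Ac e (f s) (ap (rf (0, 0, 2, 1))) := (h.ac_L s_act).congr (by decide +kernel)

theorem ac9 (hm : m ∈ L9) : ∃ g ∈ closure {f sg, d}, Ac e g (ap m) := by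
  have h1 : f sg ∈ closure {f sg, d} := subset_closure (by simp)
  have h2 : d ∈ closure {f sg, d} := subset_closure (by simp)
  have k : ∀ {m n : M}, (∃ g ∈ closure {f sg, d}, Ac e g (ap m)) → (∃ g ∈ closure {f sg, d}, Ac e g (ap n)) →
      ∃ g ∈ closure {f sg, d}, Ac e g (ap (mm m n)) := fun ⟨a, a1, a2⟩ ⟨b, b1, b2⟩ =>
    ⟨a * b, mul_mem a1 b1, (a2.mul b2).congr fun v => (ap_mm _ _ v).symm⟩
  have k1 : ∃ g ∈ closure {f sg, d}, Ac e g (ap m1) := ⟨1, one_mem _, Ac.one.congr (by decide +kernel)⟩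
  have k2 : ∃ g ∈ closure {f sg, d}, Ac e g (ap mC) := ⟨_, h1, (h.ac_L sg_act).congr (by decide +kernel)⟩
  have k3 : ∃ g ∈ closure {f sg, d}, Ac e g (ap δ) := ⟨_, h2, h.act⟩
  simp only [L9, List.flatMap_cons, List.flatMap_nil, List.mem_append, List.mem_cons, List.not_mem_nil, or_false] at hm
  rcases hm with (rfl | rfl | rfl) | (rfl | rfl | rfl) | rfl | rfl | rfl
  exacts [k1, k k1 k3, k k1 (k k3 k3), k2, k k2 k3, k k2 (k k3 k3), k k2 k2, k (k k2 k2) k3, k (k k2 k2) (k k3 k3)]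

end B1

/-- The coordinates together with the fusion of `z`. -/
structure B0 (J : Subgroup G) (e : V → G) (f : L →* G) (d : G) : Prop extends B1 J e f d where
  cent : ∀ g, g * f z = f z * g → ∃ l h, g = f l * h ∧ h ∈ normalizer (J : Set G) ∧
    ∀ o, inQ (o ^ 4) → h * f o = f o * h
  cJ : ∀ g, (∀ j ∈ J, g * j = j * g) → g ∈ J
  wn : WN J ⊤
  sig : ∀ X : Subgroup G, ¬ 3 ∣ Nat.card X → J ≤ normalizer (X : Set G) → ∀ g ∈ X, g * f z = f z * g → g = 1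
  sing : ∀ v, IsConj (f z) (e v) ↔ ip v v = 0 ∧ v ≠ 0
  mv : ∃ n ∈ normalizer (J : Set G), ∃ b ∈ J, n * b = b * n ∧ b ≠ 1 ∧ ¬ IsConj (f z) b ∧
    n * f z * n⁻¹ ∉ zpowers (f z)

namespace B0

variable [Finite G] (h : B0 J e f d)
include h

theorem nor0 (hg : g ∈ normalizer (J : Set G)) {b : V} (hb : ip b b ≠ 0) (e1 : g * e b = e b * g) :
    ∃ m ∈ W, Ac e g (ap m) := by
  obtain ⟨m, hm⟩ := exists_ap h.par hg
  refine ⟨m, sim (fun v hv => ?_) hb (hm.fix h.par e1), hm⟩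
  obtain rfl | h0 := eq_or_ne v 0
  · simp [ap, ip]
  · exact ((h.sing _).mp (((h.sing v).mpr ⟨hv, h0⟩).trans (isConj_iff.mpr ⟨g, hm v⟩))).1

theorem refl {u : V} (hu : ip u u = 2) : ∃ g, Ac e g (ap (rf u)) := by
  have tr : ∀ {u g m}, m ∈ W → Ac e g (ap m) → (∃ k, Ac e k (ap (rf u))) → ∀ v, ap m u = v ∨ ap m u = -v →
      ∃ k, Ac e k (ap (rf v)) := fun {u g m} hm hg ⟨k, hk⟩ v hv => by
    obtain ⟨n, -, e1, -⟩ := W_inv m hm
    refine ⟨_, ((hg.mul hk).mul (hg.inv e1)).congr fun x => ?_⟩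
    rw [ap_rf, ap_sub, ← ip_ap hm, e1, ap_rf]
    rcases hv with e | e <;> rw [e]
    simp [ip, ← add_smul, ← neg_smul, add_comm, add_left_comm, add_assoc]
  have t9 : ∀ {u}, (∃ k, Ac e k (ap (rf u))) → ∀ v, (∃ q ∈ L9, ap q u = v ∨ ap q u = -v) →
      ∃ k, Ac e k (ap (rf v)) := fun hk v ⟨q, hq, hv⟩ =>
    let ⟨_, _, hg⟩ := h.ac9 hq
    tr (L9_W q hq) hg hk v hv
  have h1 : ∃ k, Ac e k (ap (rf (0, 0, 2, 1))) := ⟨_, h.ac_s⟩
  obtain ⟨n, n1, b, b1, b2, b3, b4, b5⟩ := h.mv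
  obtain ⟨b, rfl⟩ := (h.par.mem b).mp b1
  obtain ⟨m, hm, hn⟩ := h.nor0 n1 (fun e => b4 ((h.sing b).mpr ⟨e, fun e => b3 (e ▸ h.par.zero)⟩)) b2
  have h2 := tr hm hn h1 _ (.inl rfl)
  have h3 := tr hm hn (t9 h1 (0, 1, 0, 2) (by decide +kernel)) _ (.inl rfl)
  have h4 : ap m (0, 1, 1, 1) = ap m (0, 1, 0, 2) + -ap m (0, 0, 2, 1) := by rw [← ap_neg, ← ap_add]; rfl
  have h5 := (par_zp h.par V3 (v := (0, 1, 1, 1)) (w := ap m (0, 1, 1, 1)) (by decide)).not.mp (by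
    rwa [← hn, ← h.ez])
  have h6 := ip_ap hm (0, 1, 1, 1) (0, 1, 1, 1)
  rw [h4] at h5 h6
  rcases (by decide +kernel : ∀ u1 : V, ip u1 u1 = 2 → ∀ u2 : V, ip u2 u2 = 2 → ip (u2 + -u1) (u2 + -u1) = 0 →
    ¬ (u2 + -u1 = 0 ∨ u2 + -u1 = (0, 1, 1, 1) ∨ u2 + -u1 = -(0, 1, 1, 1)) →
    ip u1 (0, 1, 1, 1) ≠ 0 ∨ ip u2 (0, 1, 1, 1) ≠ 0) _ (ip_ap hm _ _) _ (ip_ap hm _ _) h6 h5 with e1 | e1 <;>
  rcases (by decide +kernel : ∀ u : V, ip u u = 2 → (∃ q ∈ L9, ap q (0, 0, 2, 1) = u ∨ ap q (0, 0, 2, 1) = -u) ∨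
    ∀ v : V, ip v v = 2 → ip v (0, 1, 1, 1) ≠ 0 → ∃ q ∈ L9, ap q v = u ∨ ap q v = -u) u hu with e2 | e2
  exacts [t9 h1 u e2, t9 h2 u (e2 _ (ip_ap hm _ _) e1), t9 h1 u e2, t9 h3 u (e2 _ (ip_ap hm _ _) e1)]

theorem real (m : M) (hm : m ∈ W4) : ∃ g, Ac e g (ap m) := by
  rw [W4_eq] at hm
  obtain ⟨l, -, rfl⟩ := List.mem_map.mp hm
  clear hm
  induction l with
  | nil => exact ⟨1, Ac.one.congr (by decide +kernel)⟩
  | cons k l ih =>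
    obtain ⟨a, ha⟩ := ih
    obtain ⟨b, hb⟩ := h.refl (u := lg.getD k (1, 1, 0, 0)) ((by decide +kernel : ∀ u ∈ (1, 1, 0, 0) :: lg, ip u u = 2) _
      (by
        rw [List.getD_eq_getElem?_getD]
        cases e : lg[k]?
        exacts [List.mem_cons_self, List.mem_cons_of_mem _ (List.mem_of_getElem? e)]))
    exact ⟨b * a, (hb.mul ha).congr fun v => (ap_mm _ _ v).symm⟩

theorem nor (g : G) (hg : g ∈ normalizer (J : Set G)) : ∃ m ∈ W, Ac e g (ap m) := by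
  obtain ⟨v, hv⟩ := (h.par.mem _).mp (conj_mem_of_mem_normalizer hg (h.par.mem' (0, 1, 1, 1)))
  obtain ⟨h1, h2⟩ := (h.sing v).mp (isConj_iff.mpr ⟨g, h.ez ▸ hv.symm⟩)
  obtain ⟨m, hm, e1⟩ := W4_tr v h1 h2
  obtain ⟨k, hk⟩ := h.real m hm
  obtain ⟨l, c, e2, c1, c2⟩ := h.cent (k * g) (mul_inv_eq_iff_eq_mul.mp (by
    rw [h.ez, show k * g * e (0, 1, 1, 1) * (k * g)⁻¹ = k * (g * e (0, 1, 1, 1) * g⁻¹) * k⁻¹ by group, ← hv, hk, e1]))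
  obtain ⟨m1, h3, h4⟩ := h.nor0 c1 (b := (0, 0, 2, 1)) (by decide) (by
    have := c2 _ oL.2.2.2.2.1
    rwa [h.ee] at this)
  obtain ⟨m2, h5, h6⟩ := h.nor0 (g := f l) ((mul_mem_cancel_right c1).mp (e2 ▸ mul_mem (hk.norm h.par) hg))
    (b := (1, 0, 0, 0)) (by decide) (h.ca l 1)
  obtain ⟨n, h7, e3, -⟩ := W_inv m (W4_le hm)
  refine ⟨_, mm_mem h7 (mm_mem h5 h3), ?_⟩
  rw [show g = k⁻¹ * (f l * c) by rw [← e2]; group]
  exact ((hk.inv e3).mul (h6.mul h4)).congr fun v => by rw [ap_mm, ap_mm]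

theorem toB : B J e f := by
  refine ⟨h.par, h.inj, h.ee, fun l => h.ca l 1, h.cent, fun g hg => h.cJ g fun j hj => ?_, ⟨fun x => ⟨1, ?_⟩,
    h.par.comm, h.wn, fun X h1 h2 => le_bot_iff.mp (le_of_centralizer_le_of_rank_two (a := e (1, 0, 1, 2))
      (b := e (0, 1, 1, 1)) Nat.prime_three (h2 (h.par.mem' _)) (h2 (h.par.mem' _))
      (h.par.comm _ (h.par.mem' _) _ (h.par.mem' _)) (h.par.cube V3 _)
      (orderOf_eq_prime (h.par.cube V3 _) (h.par.ne_one (by decide)))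
      ((par_zp h.par V3 (by decide)).not.mpr (by decide)) h1 fun x hx x1 g hg => ?_)⟩, h.nor, h.real⟩
  · obtain ⟨v, rfl⟩ := (h.par.mem j).mp hj
    exact hg.comm rfl
  · obtain ⟨v, hv⟩ := (h.par.mem _).mp x.2
    exact Subtype.ext (hv ▸ h.par.cube V3 v : (x : G) ^ 3 = 1)
  obtain ⟨v, rfl, h3⟩ : ∃ v, x = e v ∧ ip v (1, 0, 1, 2) = 0 ∧ ip v (0, 1, 1, 1) = 0 := by
    refine closure_induction (fun x hx => ?_) ⟨0, h.par.zero.symm, by decide⟩ ?_ ?_ hx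
    · rcases hx with rfl | rfl
      exacts [⟨_, rfl, by decide⟩, ⟨_, rfl, by decide⟩]
    · rintro _ _ - - ⟨u, rfl, a1, a2⟩ ⟨v, rfl, a3, a4⟩
      refine ⟨u + v, (h.par.add u v).symm, ?_, ?_⟩ <;> simp only [ip, Prod.fst_add, Prod.snd_add] at *
      exacts [by linear_combination a1 + a3, by linear_combination a2 + a4]
    · rintro _ - ⟨u, rfl, a1, a2⟩
      refine ⟨-u, (h.par.neg u).symm, ?_, ?_⟩ <;> simp only [ip, Prod.fst_neg, Prod.snd_neg] at *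
      exacts [by linear_combination -a1, by linear_combination -a2]
  obtain ⟨m, hm, e1⟩ := W4_tr v ((by decide +kernel : ∀ v : V, ip v (1, 0, 1, 2) = 0 ∧ ip v (0, 1, 1, 1) = 0 →
    ip v v = 0) v h3) fun e => x1 (e ▸ h.par.zero)
  obtain ⟨k, hk⟩ := h.real m hm
  have h4 := hk.norm h.par
  refine conj_eq_one_iff.mp (h.sig (MulAut.conj k • X) (by rwa [card_conj_smul]) (fun j hj =>
    mem_normalizer_of_conj_mem ?_) (k * g * k⁻¹) (conj_mem_conj_smul k hg.1) (by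
      rw [h.ez, ← e1, ← hk, conj_mul, conj_mul, mem_centralizer_singleton_iff.mp hg.2]))
  rintro _ ⟨x, hx, rfl⟩
  refine Local.mem_conj_smul_iff.mpr ?_
  convert conj_mem_of_mem_normalizer (h2 (inv_conj_mem_of_mem_normalizer h4 hj)) hx using 1
  simp [mul_assoc]

end B0

end Cfsg.Agent.O83.Bs
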