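import Cfsg.Agent.O83.BsLoc
import Cfsg.Agent.O83.BsCo

/-! From the hypotheses of the recognition theorem to the frame. -/

set_option autoImplicit false
set_option linter.unusedSectionVars false
set_option maxRecDepth 100000
set_option synthInstance.maxSize 4096

namespace Cfsg.Agent.O83

open Subgroup Cfsg.Agent.Char Cfsg.Agent.Local Cfsg.Agent.P43 Cfsg.Agent.P43.L
open Cfsg.Agent.L43 (om Ei cm_mul cm_inv cm_pow cm_zp cj_of_cm cm_of_cj)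

attribute [local irreducible] Mat.memN r1 r2 r3 z s sg qq eL Mat.cmul Mat.cinv W W3 W4
attribute [local instance 10000] List.decidableBAll

namespace Bs

theorem LF : (∀ v : V27, eL v = r1 ^ v.1.val * r3 ^ v.2.1.val * (s * r3 * s⁻¹) ^ v.2.2.val) ∧
    (∀ o : L, inQ (o ^ 4) → ∃ b ∈ [1, s, qq, qq * s, r1 * qq * r1⁻¹, r1 * qq * r1⁻¹ * s, r1⁻¹ * qq * r1,
      r1⁻¹ * qq * r1 * s], (s * b = b * s ∧ b ^ 4 = 1) ∧ inQ (o * b)) ∧
    (∀ a : L, inQ a → ∃ i < 3, ∃ j < 3, ∃ k < 3, a = sg ^ i * eL (0, 1, 2) ^ j * z ^ k) ∧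
    sg * eL (0, 1, 2) ≠ eL (0, 1, 2) * sg ∧ s * eL (0, 1, 2) * s⁻¹ = (eL (0, 1, 2))⁻¹ ∧
    z = (r1 * r3 * (s * r3 * s⁻¹))⁻¹ := by decide +kernel

theorem L_ind {H : Subgroup L} (h1 : r1 ∈ H) (h2 : r2 ∈ H) (h3 : r3 ∈ H) (l : L) : l ∈ H := by
  obtain ⟨w, rfl⟩ := Mat.el_surj l
  exact el_L w ▸ Mat.ev_mem (by simp [h1, h2, h3]) w

theorem sl_surj {σ ι : SL23} (h1 : σ ^ 3 = 1) (h2 : σ ≠ 1) (h3 : ι * ι = -1) (τ : SL23) :
    ∃ n m p : ℕ, σ ^ n * (σ * (ι * σ * ι⁻¹)⁻¹) ^ m * σ ^ p * τ = 1 := by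
  obtain ⟨p, -, e1⟩ := (by decide +kernel : ∀ σ : SL23, σ ^ 3 = 1 → σ ≠ 1 → ∀ τ, ∃ p < 3, (σ ^ p * τ) ^ 4 = 1) σ h1 h2 τ
  obtain ⟨n, -, m, -, e2⟩ := (by decide +kernel : ∀ σ : SL23, σ ^ 3 = 1 → σ ≠ 1 → ∀ κ : SL23, κ * κ = -1 →
    ∀ τ, τ ^ 4 = 1 → ∃ n < 3, ∃ m < 4, σ ^ n * κ ^ m * σ ^ (2 * n) * τ = 1) σ h1 h2 _
    ((by decide +kernel : ∀ σ : SL23, σ ^ 3 = 1 → σ ≠ 1 → ∀ ι : SL23, ι * ι = -1 →
      σ * (ι * σ * ι⁻¹)⁻¹ * (σ * (ι * σ * ι⁻¹)⁻¹) = -1) σ h1 h2 ι h3) _ e1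
  exact ⟨n, m, 2 * n + p, by rw [← e2, pow_add]; group⟩

variable {G : Type*} [Group G] [Finite G]

theorem conj_inv' {a b : G} (h : IsConj a b) : IsConj a⁻¹ b⁻¹ :=
  let ⟨g, e⟩ := isConj_iff.mp h
  isConj_iff.mpr ⟨g, by rw [← conj_inv, e]⟩

theorem par_pow {J : Subgroup G} {e : V → G} (h : Param J e) (v : V) (n : ℕ) : e (n • v) = e v ^ n := by
  induction n with
  | zero => simpa using h.zero
  | succ n ih => rw [succ_nsmul, h.add, ih, pow_succ]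

namespace Loc

variable {x t r c i d : G} {Q K J : Subgroup G} {φ : G → SL23} (h : Loc x Q K φ t J r c i d)
include h

theorem σ3 : φ r ^ 3 = 1 := by rw [← h.H.phi_pow (h.JK h.rJ), h.cube r h.rJ, h.H.phi_one]

theorem σ1 : φ r ≠ 1 := fun e => h.rq ((h.H.ker r (h.JK h.rJ)).mp e)

theorem exists_hom : ∃ f : L →* G, f r1 = r ∧ f r2 = i * r * i⁻¹ ∧ f r3 = i * c * i⁻¹ * r * (i * c * i⁻¹)⁻¹ ∧
    f s = t := by
  have H := h.H
  have rK := h.JK h.rJ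
  have iK := h.i8.1
  have r3' := h.cube r h.rJ
  have rr : r * r = r⁻¹ := eq_inv_of_mul_eq_one_left ((pow_three' r).symm.trans r3')
  have j8 := Hf.e8cj rK h.tr h.i8
  have k8 := Hf.e8cj (inv_mem rK) (cm_inv h.tr.symm).symm h.i8
  have bK := Hy.cjK iK rK
  have br : r * (i * r * i⁻¹) * r = i * r * i⁻¹ * r * (i * r * i⁻¹) := by
    refine H.e8inj ?_ ?_ ?_
    · convert H.e8mul j8 (Hf.e8inv k8) using 1
      rw [show r * i * r⁻¹ * (r⁻¹ * i * r⁻¹⁻¹)⁻¹ = r * i * (r * r)⁻¹ * i⁻¹ * r by group, rr]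
      group
    · convert H.e8mul (H.e8mul (H.e8mul h.i8 (Hf.e8inv j8)) k8) (Hf.e8inv h.i8) using 1
      nth_rewrite 2 [← rr]
      rw [inv_inv]
      group
    · rw [H.mul _ (mul_mem rK bK) _ rK, H.mul _ rK _ bK, H.mul _ (mul_mem bK rK) _ bK, H.mul _ bK _ rK, H.phi_cj iK rK]
      exact (by decide : ∀ σ : SL23, σ ^ 3 = 1 → ∀ ι : SL23, ι * ι = -1 →
        σ * (ι * σ * ι⁻¹) * σ = ι * σ * ι⁻¹ * σ * (ι * σ * ι⁻¹)) _ h.σ3 _ h.ii
  have cm : i * c * i⁻¹ * (i * r * i⁻¹) * (i * c * i⁻¹)⁻¹ = i * r * i⁻¹ := by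
    rw [conj_mul, h.comm c h.cJ r h.rJ]; group
  obtain ⟨f, f1, f2, f3⟩ := exists_homL (a := r) (b := i * r * i⁻¹) (c := i * c * i⁻¹ * r * (i * c * i⁻¹)⁻¹) r3'
    (by rw [conj_pow, r3']; group) (by rw [conj_pow, r3']; group) br (by
      generalize i * c * i⁻¹ = g at cm
      rw [← cm, conj_mul, conj_mul, ← br, conj_mul, conj_mul, br])
    (h.comm _ h.rJ _ (conj_mem_of_mem_normalizer (h.QN (H.nC (H.Kz i iK) h.cQ)) h.rJ))
  refine ⟨f, f1, f2, f3, ?_⟩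
  rw [words.2.1]
  simp only [map_mul, map_inv, f1, f2]
  have p1 := mul_mem rK (inv_mem bK)
  refine H.e8inj ?_ H.e8t ?_
  · convert H.e8mul (H.e8mul j8 (Hf.e8inv h.i8)) (H.e8mul j8 (Hf.e8inv h.i8)) using 1
    group
  · rw [← mul_assoc, H.mul _ p1 _ p1, H.mul _ rK _ (inv_mem bK), H.phi_inv bK, H.phi_cj iK rK, H.tφ]
    exact (by decide : ∀ σ : SL23, σ ^ 3 = 1 → σ ≠ 1 → ∀ ι : SL23, ι * ι = -1 →
      σ * (ι * σ * ι⁻¹)⁻¹ * (σ * (ι * σ * ι⁻¹)⁻¹) = -1) _ h.σ3 h.σ1 _ h.ii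

set_option maxHeartbeats 1000000 in
theorem exists_B0 : ∃ e f, B0 J e f d := by
  have H := h.H
  obtain ⟨f, f1, f2, f3, f4⟩ := h.exists_hom
  have rK := h.JK h.rJ
  have iK := h.i8.1
  have rx := H.Kz r rK
  have k1 := h.k1
  have k2 := h.k2
  have eg := H.EK iK (H.invE h.cQ h.tc)
  have tg : t * (i * c * i⁻¹) * t⁻¹ = (i * c * i⁻¹)⁻¹ := by
    rw [← cj_mul', h.i8.2.1, cj_mul', h.tc, conj_inv]
  generalize i * c * i⁻¹ = g at f3 k1 k2 eg tg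
  have gN := h.QN eg.1
  have r3J := conj_mem_of_mem_normalizer gN h.rJ
  have fK : ∀ l, f l ∈ K := L_ind (H := K.comap f) (mem_comap.mpr (f1 ▸ rK)) (mem_comap.mpr (f2 ▸ Hy.cjK iK rK))
    (mem_comap.mpr (f3 ▸ h.JK r3J))
  have fJ : ∀ v, f (eL v) ∈ J := fun v => by
    simp only [LF.1 v, map_mul, map_pow, map_inv, f1, f3, f4]
    exact mul_mem (mul_mem (pow_mem h.rJ _) (pow_mem r3J _)) (pow_mem (conj_mem_of_mem_normalizer h.tN r3J) _)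
  have cq : ∀ p ∈ Q, p * r * p⁻¹ * r⁻¹ ∈ Q ∧ p * r * p⁻¹ * r⁻¹ ∈ J ∧
      p * (p * r * p⁻¹ * r⁻¹) * p⁻¹ = x ^ (-om x p (r * p * r⁻¹)).val * (p * r * p⁻¹ * r⁻¹) := fun p hp => by
    have e : p * r * p⁻¹ * r⁻¹ = p * (r * p * r⁻¹)⁻¹ := by group
    have h1 : p * r * p⁻¹ * r⁻¹ ∈ Q := e ▸ mul_mem hp (inv_mem (H.nC rx hp))
    refine ⟨h1, mul_mem (conj_mem_of_mem_normalizer (h.QN hp) h.rJ) (inv_mem h.rJ), ?_⟩
    rw [← mul_inv_eq_iff_eq_mul, H.spec hp h1, e, H.omR hp hp (inv_mem (H.nC rx hp)), H.omS hp, zero_add,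
      H.invR hp (H.nC rx hp)]
  have fz : f z = x ^ (om x g (r * g * r⁻¹)).val := by
    obtain ⟨c1, c2, c3⟩ := cq g eg.1
    have g3 : g⁻¹ = g * g := inv_eq_of_mul_eq_one_left ((pow_three' g).symm.trans (H.exp g eg.1))
    have e1 : t * (g * r * g⁻¹) * t⁻¹ = g * (g * r * g⁻¹ * r⁻¹) * g⁻¹ * (g * r * g⁻¹) := by
      rw [← conj_mul, ← conj_mul, cj_of_cm h.tr, ← conj_inv, tg, inv_inv]
      nth_rewrite 1 [g3]
      rw [← mul_right_cancel_iff (a := g * g), mul_assoc _ g, ← pow_three, H.exp g eg.1]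
      group
    rw [LF.2.2.2.2.2]
    simp only [map_mul, map_inv, f1, f3, f4]
    rw [e1, c3, show g * r * g⁻¹ = g * r * g⁻¹ * r⁻¹ * r by group, inv_eq_iff_mul_eq_one]
    simp only [mul_inv_cancel_right]
    generalize g * r * g⁻¹ * r⁻¹ = b at c1 c2
    have m1 : Commute r b := h.comm _ h.rJ _ c2
    have m2 : ∀ n, Commute (x ^ n) b := fun n => cm_pow (H.le b c1).symm n
    have m3 : ∀ n, Commute (x ^ n) r := fun n => cm_pow rx.symm n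
    calc _ = r ^ 3 * b ^ 3 * x ^ (-om x g (r * g * r⁻¹) + om x g (r * g * r⁻¹)).val := by
          rw [pow_val_add H.z3]
          simp only [pow_three, mul_assoc, m1.symm.left_comm, (m2 _).left_comm, (m3 _).eq]
      _ = 1 := by simp [h.cube r h.rJ, H.exp b c1]
  have zZ : f z ∈ zpowers x := fz ▸ pow_mem (mem_zpowers x) _
  have root : ∀ {X : Subgroup G}, f z ∈ X → x ∈ X := fun e =>
    cm_root (g := x) H.z3 (ZMod.val_lt _) (mt (ZMod.val_eq_zero _).mp k1) (fz ▸ e)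
  have z1 : f z ≠ 1 := fun e => by
    have := root (mem_bot.mpr e)
    simpa [mem_bot.mp this] using H.oz
  have inj := injL z1
  have zp : zpowers x = zpowers (f z) := le_antisymm (zpowers_le.mpr (root (mem_zpowers _))) (zpowers_le.mpr zZ)
  have cz : ∀ {k}, k * f z = f z * k → k * x = x * k := fun e =>
    (mem_centralizer_singleton_iff.mp (root (mem_centralizer_singleton_iff.mpr e.symm))).symm
  have xz : IsConj x (f z) := by
    rcases Local.mem_zpowers_three H.oz zZ with e | e | e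
    exacts [absurd e z1, e ▸ IsConj.refl _, e ▸ h.zi]
  let ψ : L →* SL23 := MonoidHom.mk' (fun l => φ (f l)) fun a b => by rw [map_mul, H.mul _ (fK a) _ (fK b)]
  have ψ1 : ψ r1 = φ r := congrArg φ f1
  have ψ2 : ψ r2 = φ i * φ r * (φ i)⁻¹ := (congrArg φ f2).trans (H.phi_cj iK rK)
  have ψ3 : ψ r3 = φ r := (congrArg φ f3).trans (by
    rw [H.phi_cj (H.QK eg.1) rK, (H.ker g (H.QK eg.1)).mpr eg.1]; group)
  have ψ4 : ψ s = -1 := (congrArg φ f4).trans H.tφ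
  have eb : Ei x Q t (-1) (f (eL (0, 1, 2))) := H.invE ((H.ker _ (fK _)).mp (by
    change ψ _ = 1
    rw [LF.1]
    simp only [map_mul, map_pow, map_inv, ψ1, ψ3, ψ4]
    exact (by decide : ∀ σ : SL23, σ ^ 3 = 1 → σ ^ (0 : ZMod 3).val * σ ^ (1 : ZMod 3).val *
      (-1 * σ * (-1)⁻¹) ^ (2 : ZMod 3).val = 1) _ h.σ3)) (by rw [← f4, map_cj f LF.2.2.2.2.1, map_inv])
  have es : Ei x Q t (-1) (f sg) := H.invE ((H.ker _ (fK _)).mp (by
    change ψ _ = 1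
    rw [words.2.2.1]
    simp only [map_mul, map_inv, ψ1, ψ3]
    group)) (by rw [← f4, map_cj f s_facts.2.2.2.2.2.2.1, map_inv])
  have sb : om x (f sg) (f (eL (0, 1, 2))) ≠ 0 := fun e => LF.2.2.2.1 (cm_of_map inj ((H.om0 es.1 eb.1).mp e))
  have CM : ∀ k, (∀ b, Ei x Q t (-1) b → k * b = b * k) → (∀ b, E8 K t b → k * b = b * k) →
      ∀ o, inQ (o ^ 4) → k * f o = f o * k := fun k h1 h2 o ho => by
    obtain ⟨b, -, ⟨b1, b2⟩, b3⟩ := LF.2.1 o ho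
    obtain ⟨n, -, m, -, l, -, e⟩ := LF.2.2.1 _ b3
    have h3 := h1 (f (o * b)) (by
      rw [e, map_mul, map_mul, map_pow, map_pow, map_pow]
      exact H.Emul (H.Emul (H.Epow es n) (H.Epow eb m)) (H.EZ (pow_mem zZ l)))
    simpa using (cm_mul h3.symm (cm_inv (h2 (f b) ⟨fK b, f4 ▸ map_cm f b1, by rw [← map_pow, b2, map_one]⟩).symm)).symm
  have CM1 : ∀ k, Ei x Q t 1 k → ∀ o, inQ (o ^ 4) → k * f o = f o * k := fun k hk =>
    CM k (fun b hb => (H.cm12 hb hk).symm) fun b hb => (H.e8cm hb hk).symm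
  have dec : ∀ k ∈ K, ∃ l a, k = f l * a ∧ Ei x Q t 1 a := fun k hk => by
    obtain ⟨n, m, p, e⟩ := sl_surj h.σ3 h.σ1 h.ii (φ k)
    rw [← ψ2, ← ψ1, ← map_inv, ← map_mul, ← map_pow, ← map_pow, ← map_pow, ← map_mul, ← map_mul] at e
    obtain ⟨b, hb, a, ha, tb, ta, e1⟩ := H.dec ((H.ker _ (mul_mem (fK _) hk)).mp ((H.mul _ (fK _) _ hk).trans e))
    have e2 := H.invE hb tb
    obtain ⟨u, -, e3⟩ := H.kill es.1 eb.1 hb sb
    have e4 := H.Emul e2 (H.Epow es u)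
    obtain ⟨v, -, e5⟩ := H.kill eb.1 es.1 e4.1 (by rwa [H.anti es.1 eb.1, neg_ne_zero])
    obtain ⟨w, e6⟩ := zp.le (H.perp eb es sb (H.Emul e4 (H.Epow eb v))
      (by rw [H.omL e4.1 (pow_mem eb.1 v) eb.1, e3, H.powL eb.1 eb.1, H.omS eb.1]; ring) e5)
    refine ⟨(r1 ^ n * (r1 * r2⁻¹) ^ m * r1 ^ p)⁻¹ * (z ^ w * (sg ^ u * eL (0, 1, 2) ^ v)⁻¹), a, ?_, Ht.cmE1 ha ta⟩
    rw [map_mul, map_inv, mul_assoc, eq_inv_mul_iff_mul_eq, e1, map_mul, map_zpow, show f z ^ w = _ from e6]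
    simp [mul_assoc]
  obtain ⟨a1, a2, a3⟩ := cq d h.dE.1
  rw [show -om x d (r * d * r⁻¹) = om x g (r * g * r⁻¹) by linear_combination -k2, ← fz] at a3
  obtain ⟨a, aE, aJ, da, dr⟩ : ∃ a, Ei x Q t 1 a ∧ a ∈ J ∧ d * a * d⁻¹ = a * f z ∧ d * r * d⁻¹ = a * ((f z)⁻¹ * r) := by
    have td := (H.E1cm h.dE).symm
    have p1 := cm_zp (H.le _ a1) zZ
    refine ⟨_, H.Emul (Ht.cmE1 a1 (cm_mul (cm_mul (cm_mul td h.tr.symm) (cm_inv td)) (cm_inv h.tr.symm)).symm)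
      (H.EZ zZ), mul_mem a2 (zpowers_le.mpr h.zJ zZ), ?_, by group⟩
    rw [← conj_mul (c := f z), a3, cj_of_cm (cm_zp (H.le d h.dE.1) zZ), p1]
  have a1 : a ∉ zpowers x := fun e => z1 (by simpa [cj_of_cm (cm_zp (H.le d h.dE.1) e)] using da)
  have a3 := H.exp a aE.1
  have ca : ∀ l, f l * a = a * f l := fun l => mem_centralizer_singleton_iff.mp
    (L_ind (H := (centralizer {a}).comap f) (mem_centralizer_singleton_iff.mpr (f1 ▸ h.comm _ h.rJ _ aJ))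
      (mem_centralizer_singleton_iff.mpr (f2 ▸ cm_mul (cm_mul (H.e8cm h.i8 aE) (h.comm _ h.rJ _ aJ))
        (cm_inv (H.e8cm h.i8 aE)))) (mem_centralizer_singleton_iff.mpr (f3 ▸ h.comm _ r3J _ aJ)) l)
  let e (v : V) : G := a ^ v.1.val * f (eL (pr v))
  have ee : ∀ v, f (eL v) = e (emb v) := fun v => by simp only [e, pr_emb]; simp [emb]
  have ek : ∀ k, e (k, 0, 0, 0) = a ^ k.val := fun k => by
    simp only [e, show pr (k, 0, 0, 0) = 0 from rfl, eL_zero, map_one, mul_one]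
  have add : ∀ u v, e (u + v) = e u * e v := fun u v => by
    simp only [e]
    rw [show pr (u + v) = pr u + pr v by simp only [pr, Prod.fst_add, Prod.snd_add, Prod.mk_add_mk, add_add_add_comm],
      eL_add, map_mul, Prod.fst_add, pow_val_add a3, mul_assoc, mul_assoc, ← mul_assoc (f _),
      ← cm_pow (ca _).symm, mul_assoc]
  have e0 : e 0 = 1 := (ek 0).trans (pow_zero a)
  have ez : f z = e (0, 1, 1, 1) := eL_val.2.2.1 ▸ ee (2, 2, 2)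
  have er : r = e (0, 1, 2, 2) := f1 ▸ eL_val.1 ▸ ee (1, 0, 0)
  have ea : a = e (1, 0, 0, 0) := ((ek 1).trans (pow_one a)).symm
  have ec : f (eL (0, 1, 2)) = e (0, 0, 2, 1) := ee (0, 1, 2)
  have par : Param J e := by
    refine ⟨add, (injective_iff_map_eq_one (MonoidHom.mk' (M := Multiplicative V) e add)).mpr fun v (hv : e v = 1) => ?_,
      fun k => ⟨fun hk => ?_, ?_⟩⟩
    · have p1 : ∀ l, eL (pr v) * l = l * eL (pr v) := fun l => cm_of_map inj (by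
        rw [eq_inv_of_mul_eq_one_right hv]; exact cm_inv (cm_pow (ca l).symm _))
      have p2 : f (eL (pr v)) ∈ zpowers x := by
        rcases center _ (p1 _) (p1 _) (p1 _) with e1 | e1 | e1 <;> rw [e1]
        exacts [map_one f ▸ one_mem _, zZ, map_inv f z ▸ inv_mem zZ]
      have p3 : v.1 = 0 := by
        by_contra hn
        exact a1 (cm_root (g := a) a3 (ZMod.val_lt _) (mt (ZMod.val_eq_zero _).mp hn)
          ((mul_mem_cancel_right p2).mp (hv.symm ▸ one_mem _ : e v ∈ zpowers x)))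
      simp only [e, p3, ZMod.val_zero, pow_zero, one_mul] at hv
      change v = (0 : V)
      rw [emb_pr v, p3, eL_inj _ 0 (inj (hv.trans (by rw [eL_zero, map_one])))]
      rfl
    · let R := (MonoidHom.mk' (M := Multiplicative V) e add).range
      refine (closure_le R).mpr ?_ (h.gen a aE aJ a1 _ eb (fJ _) (fun e => sb (by
        rw [H.anti eb.1 es.1, H.omZ e es.1, neg_zero])) hk)
      rintro _ (rfl | rfl | rfl | rfl)
      exacts [root ⟨_, ez.symm⟩, ⟨_, ea.symm⟩, ⟨_, ec.symm⟩, ⟨_, er.symm⟩]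
    · rintro ⟨v, rfl⟩
      exact mul_mem (pow_mem aJ _) (fJ _)
  have b1 : B1 J e f d := ⟨⟨H.exp d h.dE.1, ac_of par (u1 := (1, 0, 0, 0)) (u2 := (0, 1, 2, 2)) (u3 := (0, 1, 1, 1))
    (u4 := (0, 0, 2, 1)) (by decide +kernel) (by rw [← ea, da, ea, ez, ← add]; rfl)
    (by rw [← er, dr, ea, ez, er, ← par.neg, ← add, ← add]; rfl) (by rw [← ez, cj_of_cm (CM1 d h.dE z oL.2.2.2.1), ez]; rfl)
    (by rw [← ec, cj_of_cm (CM1 d h.dE _ oL.2.2.2.2.1), ec]; rfl), CM1 d h.dE⟩, par, inj, ee,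
    fun l k => ek k ▸ (cm_pow (ca l).symm _).symm⟩
  have c9 : ∀ m ∈ L9, ∃ k ∈ Q, Ac e k (ap m) := fun m hm =>
    let ⟨k, h1, h2⟩ := b1.ac9 hm
    ⟨k, (closure_le Q).mpr (by rintro _ (rfl | rfl); exacts [es.1, h.dE.1]) h1, h2⟩
  have pm : ∀ {u v}, u = v ∨ u = -v → IsConj x (e u) → IsConj x (e v) := by
    rintro u v (rfl | rfl) h1
    exacts [h1, h.zi.trans (by simpa [par.neg] using conj_inv' h1)]
  have sing : ∀ v, IsConj x (e v) → ip v v = 0 := fun v hv => by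
    by_contra hn
    have p1 : ∀ ε : ZMod 3, ε ≠ 0 → ¬ Ei x Q t ε (e v) := fun ε he e1 => by
      have := h.noE _ ε he hv e1
      rw [zp, ez, par_zp par V3 (by decide)] at this
      rcases this with rfl | rfl | rfl <;> exact hn rfl
    rcases (by decide +kernel : ∀ v : V, ip v v ≠ 0 → (∃ n < 3, ∃ m < 3, v = n • (0, 1, 1, 1) + m • (0, 0, 2, 1)) ∨
      (∃ n < 3, ∃ m < 3, v = n • (0, 1, 1, 1) + m • (1, 0, 0, 0)) ∨ ∃ q ∈ L9,
      (ap q v = (0, 1, 2, 2) + (0, 1, 1, 1) ∨ ap q v = -((0, 1, 2, 2) + (0, 1, 1, 1))) ∨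
      ap q v = (0, 1, 2, 2) + -(0, 1, 1, 1) ∨ ap q v = -((0, 1, 2, 2) + -(0, 1, 1, 1))) v hn with
      ⟨n, -, m, -, rfl⟩ | ⟨n, -, m, -, rfl⟩ | ⟨q, hq, e1⟩
    · exact p1 (-1) (by decide) (by
        rw [add, par_pow par, par_pow par, ← ez, ← ec]; exact H.Emul (H.EZ (pow_mem zZ n)) (H.Epow eb m))
    · exact p1 1 one_ne_zero (by
        rw [add, par_pow par, par_pow par, ← ez, ← ea]; exact H.Emul (H.EZ (pow_mem zZ n)) (H.Epow aE m))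
    obtain ⟨k, -, hk⟩ := c9 q hq
    have p2 := hv.trans (isConj_iff.mpr ⟨k, hk v⟩)
    rcases e1 with e1 | e1 <;> have p3 := pm e1 p2 <;> rw [add, ← er] at p3 <;>
      rcases Local.mem_zpowers_three H.oz zZ with e2 | e2 | e2
    exacts [z1 e2, h.rz1 (by rwa [← ez, e2] at p3), h.rz2 (by rwa [← ez, e2] at p3), z1 e2, h.rz2 (by rwa [par.neg, ← ez, e2] at p3),
      h.rz1 (by rwa [par.neg, ← ez, e2, inv_inv] at p3)]
  refine ⟨e, f, b1, fun k hk => ?_, h.cen, h.wn (par.card.trans (by simp)), fun X h1 h2 k hk e1 =>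
    h.sig X h1 h2 k hk (cz e1), fun v => ⟨fun hv => ⟨sing v (xz.trans hv), fun e1 => z1 (by
      rwa [e1, e0, isConj_one_left] at hv)⟩, fun ⟨h1, h2⟩ => xz.symm.trans ?_⟩, ?_⟩
  · obtain ⟨v, v1, v2, v3, v4, v5⟩ := h.out
    rcases v3 k (cz hk) with e1 | e1 <;> obtain ⟨l, b, e2, hb⟩ := dec _ e1
    · exact ⟨l, b, e2, h.QN hb.1, CM1 b hb⟩
    · exact ⟨l, b * v⁻¹, by rw [← mul_assoc, ← e2, mul_inv_cancel_right], mul_mem (h.QN hb.1) (inv_mem v1),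
        fun o ho => cm_mul (CM1 b hb o ho) (cm_inv (CM v v4 v5 o ho))⟩
  · obtain ⟨w, w1, w2, w3, w4⟩ := h.exw
    obtain ⟨w, rfl⟩ := (par.mem w).mp w1
    rw [zp, ez, par_zp par V3 (by decide)] at w3
    rcases (by decide +kernel : ∀ w : V, ip w w = 0 → ¬ (w = 0 ∨ w = (0, 1, 1, 1) ∨ w = -(0, 1, 1, 1)) →
      (∃ q ∈ L9, ap q w = (0, 1, 2, 2) ∨ ap q w = -(0, 1, 2, 2)) ∨ ∀ v : V, ip v v = 0 → v ≠ 0 → ∃ q ∈ L9,
        ∃ u ∈ [(0, 1, 1, 1), (0, 1, 2, 2), w, ap (rf (0, 0, 2, 1)) w], ap q u = v ∨ ap q u = -v) w (sing w w4) w3 with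
      ⟨q, hq, e1⟩ | e1
    · obtain ⟨k, hk, e2⟩ := c9 q hq
      have p1 := H.nC (H.le k hk) w2
      rw [e2] at p1
      rcases e1 with e1 | e1 <;> rw [e1] at p1
      exacts [absurd (er ▸ p1) h.rq, absurd (inv_mem_iff.mp (er ▸ par.neg _ ▸ p1)) h.rq]
    obtain ⟨q, hq, u, hu, e2⟩ := e1 v h1 h2
    obtain ⟨k, -, hk⟩ := c9 q hq
    refine pm e2 (IsConj.trans ?_ (isConj_iff.mpr ⟨k, hk u⟩))
    simp only [List.mem_cons, List.not_mem_nil, or_false] at hu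
    rcases hu with rfl | rfl | rfl | rfl
    exacts [ez ▸ xz, er ▸ h.rz, w4, w4.trans (isConj_iff.mpr ⟨_, b1.ac_s w⟩)]
  · obtain ⟨n, n1, b, b1, b2, b3, b4, b5⟩ := h.mv
    refine ⟨n, n1, b, b1, b2, b3, fun e1 => b4 (xz.trans e1), fun e1 => b5 ?_⟩
    simpa [L43.mem_cq] using root (X := L43.cq n⁻¹ Q) (by simpa [L43.mem_cq] using H.zle (zp.ge e1))

end Loc

end Bs

theorem base {G : Type*} [Group G] [Finite G]
    (S : Sylow 3 G) (Z : Subgroup G) (hZ : Z = (S : Subgroup G) ⊓ Subgroup.centralizer ((S : Subgroup G) : Set G))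
    (C : Subgroup G) (hCZ : C = Subgroup.centralizer (Z : Set G))
    (Q : Subgroup G) (hQ : Q = (Cfsg.pCore 3 C).map C.subtype)
    (hQex : Cfsg.IsExtraspecial 3 Q) (hQcard : Nat.card Q = 3 ^ 5) (hQexp : ∀ a ∈ Q, a ^ 3 = 1)
    (hCQ : Subgroup.centralizer (Q : Set G) ≤ Q)
    (hZQ : ∃ x : G, Z.map (MulAut.conj x).toMonoidHom ≤ Q ∧ Z.map (MulAut.conj x).toMonoidHom ≠ Z)
    (K : Subgroup G) (hK : K = ((Cfsg.pResidual 2 (C ⧸ Cfsg.pCore 3 C)).comap (QuotientGroup.mk' (Cfsg.pCore 3 C))).map C.subtype)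
    (r : ℕ) (A : Fin (r + 1) → Subgroup G) (hA0 : A 0 = Z) (hAr : A (Fin.last r) = Q)
    (hmono : ∀ i : Fin r, A i.castSucc < A i.succ)
    (hinv : ∀ i : Fin (r + 1), ∀ k ∈ K, ∀ a ∈ A i, k * a * k⁻¹ ∈ A i)
    (hmax : ∀ i : Fin r, ∀ B : Subgroup G, A i.castSucc < B → B < A i.succ → ∃ k ∈ K, ∃ b ∈ B, k * b * k⁻¹ ∉ B)
    (e : Nonempty (C ⧸ Cfsg.pCore 3 C ≃* Matrix.SpecialLinearGroup (Fin 2) (ZMod 3)) ∨
      Nonempty (C ⧸ Cfsg.pCore 3 C ≃* Matrix.SpecialLinearGroup (Fin 2) (ZMod 3) × Multiplicative (ZMod 2)))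
    (hone : ∃! i : Fin r, (∃ k ∈ K, ∃ a ∈ A i.succ, k * a * k⁻¹ * a⁻¹ ∉ A i.castSucc)) :
    ∃ (J : Subgroup G) (e : V → G) (φ : L →* G) (d : G), B J e φ ∧ Dd e φ d := by
  obtain ⟨x, ψ, t, y, h, h1, h2⟩ :=
    Bs.wrap S Z hZ C hCZ Q hQ hQex hQcard hQexp hCQ hZQ K hK r A hA0 hAr hmono hinv hmax e hone
  obtain ⟨J, r, c, i, d, h3⟩ := h.exists_loc h1 h2
  obtain ⟨e, f, h4⟩ := h3.exists_B0
  exact ⟨J, e, f, d, h4.toB, h4.toDd⟩

end Cfsg.Agent.O83
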