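import Cfsg.Agent.O83.Def

/-! Basic facts on the frame: lifts of matrices, the quaternion groups. -/

set_option autoImplicit false
set_option linter.unusedSectionVars false
set_option maxRecDepth 100000
set_option synthInstance.maxSize 4096

namespace Cfsg.Agent.O83

open Subgroup Cfsg.Agent.Char Cfsg.Agent.Local Cfsg.Agent.P43 Cfsg.Agent.P43.L

attribute [local irreducible] Mat.memN r1 r2 r3 z s sg qq eL Mat.cmul Mat.cinv
attribute [local instance 10000] List.decidableBAll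

/-- The inverse of `emb`. -/
def pr (v : V) : V27 := (v.2.2.1 + v.2.2.2, v.2.1 + v.2.2.2, v.2.1 + v.2.2.1)

theorem pr_emb : ∀ u, pr (emb u) = u := by decide +kernel

theorem emb_pr : ∀ v : V, v = (v.1, 0, 0, 0) + emb (pr v) := by decide +kernel

theorem V3 : ∀ v : V, v + v + v = 0 := by decide +kernel

/-- The swap of the last two coordinates. -/
abbrev sw (v : V) : V := (v.1, v.2.1, v.2.2.2, v.2.2.1)

/-- The six matrices fixing `z` and `c`. -/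
def C6 : List M := [((1, 0, 0, 0), (0, 1, 0, 0), (0, 0, 1, 0), (0, 0, 0, 1)), δ, mm δ δ,
  ((2, 0, 0, 0), (0, 1, 0, 0), (0, 0, 1, 0), (0, 0, 0, 1)),
  mm δ ((2, 0, 0, 0), (0, 1, 0, 0), (0, 0, 1, 0), (0, 0, 0, 1)),
  mm ((2, 0, 0, 0), (0, 1, 0, 0), (0, 0, 1, 0), (0, 0, 0, 1)) δ]

theorem oL : inQ (sg ^ 4) ∧ inQ (s ^ 4) ∧ inQ (qq ^ 4) ∧ inQ (z ^ 4) ∧ inQ (eL (0, 1, 2) ^ 4) ∧
    (∀ l : L, l ^ 4 = 1 → inQ (l ^ 4)) ∧ (∀ l : L, ∃ v ∈ [(0, 0, 0), (1, 0, 0), (2, 0, 0)], inQ ((l * eL v) ^ 4)) ∧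
    (∀ l : L, l * s = s * l → l ^ 4 = 1 ∨ inJ l ∨ inJ (l * s) ∨
      ∃ k ∈ [qq, r1 * qq * r1⁻¹, r1⁻¹ * qq * r1], inJ (k * l) ∨ inJ (k⁻¹ * l)) := by
  decide +kernel

theorem mem_W3 {m : M} : m ∈ W3 ↔ m ∈ W ∧ fr (ap m (1, 1, 1, 1)) = fr m.1 + 1 := by simp [W3]

theorem mem_W4 {m : M} : m ∈ W4 ↔ m ∈ W ∧ fr m.1 = 0 ∧ fr (ap m (1, 1, 1, 1)) = 1 := by simp [W4]

theorem δ_mem : δ ∈ W := mem_W.mpr (by decide)

theorem neg_mem {m : M} (h : m ∈ W) : (-m.1, m.2) ∈ W := by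
  obtain ⟨h1, ⟨h2, h3⟩, ⟨h4, h5, h6⟩, h7, h8, h9, h10⟩ := mem_W.mp h
  have k : ∀ u v, ip (-u) v = -ip u v := fun u v => by simp only [ip, Prod.fst_neg, Prod.snd_neg]; ring
  exact mem_W.mpr ⟨by rw [k, ip_comm, k, h1, neg_neg], ⟨h2, by rw [k, h3, neg_zero]⟩,
    ⟨h4, by rw [k, h5, neg_zero], h6⟩, h7, by rw [k, h8, neg_zero], h9, h10⟩

theorem W_split : ∀ m ∈ W, (m ∈ W3 ∨ (-m.1, m.2) ∈ W3) ∧
    (m ∈ W3 → m ∈ W4 ∨ mm δ m ∈ W4 ∨ mm δ (mm δ m) ∈ W4) := fun m hm => by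
  simp only [mem_W3, mem_W4, hm, neg_mem hm, mm_mem δ_mem hm, mm_mem δ_mem (mm_mem δ_mem hm), true_and]
  revert m
  decide +kernel

attribute [local irreducible] W W3 W4

variable {G : Type*} [Group G] {J : Subgroup G} {e : V → G} {φ : L →* G} {g k ι w d : G} {f f' : V → V}

theorem Ac.one : Ac e 1 fun v => v := fun v => by simp

theorem Ac.neg (hp : Param J e) (h : Ac e g f) (v : V) : f (-v) = -f v :=
  hp.inj (by rw [← h, hp.neg, hp.neg, ← h, conj_inv])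

theorem Ac.add (hp : Param J e) (h : Ac e g f) (u v : V) : f (u + v) = f u + f v :=
  hp.inj (by rw [← h, hp.add, hp.add, ← h, ← h, conj_mul])

namespace B

variable (h : B J e φ)
include h

theorem tt : φ s * φ s = 1 := ss φ

theorem t1 : φ s ≠ 1 := fun e1 => s_facts.2.1 (h.inj (e1.trans (map_one φ).symm))

theorem e3 (v : V) : e v ^ 3 = 1 := h.par.cube V3 v

theorem ecm (u v : V) : e u * e v = e v * e u := h.par.comm _ (h.par.mem' u) _ (h.par.mem' v)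

theorem oe {v : V} (hv : v ≠ 0) : orderOf (e v) = 3 := orderOf_eq_prime (h.e3 v) (h.par.ne_one hv)

theorem ak (l : L) (k : ZMod 3) : φ l * e (k, 0, 0, 0) = e (k, 0, 0, 0) * φ l := by
  obtain rfl | rfl | rfl := (by decide : ∀ k : ZMod 3, k = 0 ∨ k = 1 ∨ k = -1) k
  · rw [show e (0, 0, 0, 0) = 1 from h.par.zero, mul_one, one_mul]
  · exact h.ca l
  · rw [show e (-1, 0, 0, 0) = _ from h.par.neg (1, 0, 0, 0)]
    exact (Commute.inv_right (h.ca l)).eq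

theorem zk (l : L) (k j : ZMod 3) : φ l * e (k, j, j, j) = e (k, j, j, j) * φ l := by
  have h1 : φ l * e (0, 1, 1, 1) = e (0, 1, 1, 1) * φ l := h.ez ▸ map_cm φ (z_comm l)
  have h2 : φ l * e (0, j, j, j) = e (0, j, j, j) * φ l := by
    obtain rfl | rfl | rfl := (by decide : ∀ k : ZMod 3, k = 0 ∨ k = 1 ∨ k = -1) j
    · exact h.ak l 0
    · exact h1
    · rw [show e (0, -1, -1, -1) = _ from h.par.neg (0, 1, 1, 1)]
      exact (Commute.inv_right h1).eq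
  rw [show e (k, j, j, j) = e (k, 0, 0, 0) * e (0, j, j, j) by rw [← h.par.add]; simp]
  exact (Commute.mul_right (h.ak l k) h2).eq

theorem mem_L {l : L} {v : V} (e1 : φ l = e v) : v.1 = 0 ∧ l = eL (pr v) := by
  have h1 : φ (l * (eL (pr v))⁻¹) = e (v.1, 0, 0, 0) := by
    rw [map_mul, map_inv, e1, h.ee, mul_inv_eq_iff_eq_mul, ← h.par.add, ← emb_pr]
  have h2 : ∀ o, l * (eL (pr v))⁻¹ * o = o * (l * (eL (pr v))⁻¹) := fun o =>
    h.inj (by rw [map_mul, map_mul φ o, h1, h.ak])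
  have h3 : v.1 = 0 := by
    rcases center _ (h2 _) (h2 _) (h2 _) with e2 | e2 | e2 <;> rw [e2] at h1
    · exact congrArg Prod.fst (h.par.inj (h1.symm.trans ((map_one φ).trans h.par.zero.symm)))
    · exact congrArg Prod.fst (h.par.inj (h1.symm.trans h.ez))
    · rw [map_inv, h.ez, ← h.par.neg] at h1
      exact (congrArg Prod.fst (h.par.inj h1)).symm.trans neg_zero
  rw [h3, show e (0, 0, 0, 0) = φ 1 from h.par.zero.trans (map_one φ).symm] at h1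
  exact ⟨h3, mul_inv_eq_one.mp (h.inj h1)⟩

theorem ac_L {l : L} {f : V27 → V27} (h1 : ∀ v, l * eL v * l⁻¹ = eL (f v)) :
    Ac e (φ l) fun v => (v.1, 0, 0, 0) + emb (f (pr v)) := fun v => by
  conv_lhs => rw [emb_pr v]
  rw [h.par.add, ← conj_mul, mul_inv_eq_iff_eq_mul.mpr (h.ak l _), ← h.ee, map_cj φ (h1 _), h.ee, h.par.add]

theorem ac_sg : Ac e (φ sg) fun v => (v.1, v.2.2.2, v.2.1, v.2.2.1) :=
  (h.ac_L sg_act).congr (by decide +kernel)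

theorem coset (h1 : Ac e g f) (h2 : Ac e k f) : ∃ v, k = g * e v := by
  obtain ⟨v, hv⟩ := (h.par.mem _).mp (h.cJ (g⁻¹ * k) fun v => by
    rw [show g⁻¹ * k * e v * (g⁻¹ * k)⁻¹ = g⁻¹ * (k * e v * k⁻¹) * g by group, h2, ← h1]; group)
  exact ⟨v, by rw [hv, mul_inv_cancel_left]⟩

theorem ii (hι : Ac e ι fun v => -v) : ι * ι = 1 := by
  obtain ⟨v, hv⟩ := h.coset Ac.one ((hι.mul hι).congr neg_neg)
  have h1 : -v = v := hι.fix h.par (by rw [← one_mul (e v), ← hv, mul_assoc])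
  rw [hv, one_mul, show v = 0 by rw [← V3 v]; nth_rewrite 2 [← h1]; simp, h.par.zero]

theorem eq_of_ι (hι : Ac e ι fun v => -v) {v : V} (h1 : e v * ι = ι * e v) : v = 0 :=
  (by decide +kernel : ∀ v : V, -v = v → v = 0) v (hι.fix h.par h1.symm)

theorem lift_ext (hι : Ac e ι fun v => -v) (h1 : Ac e g f) (h2 : Ac e k f) (c1 : g * ι = ι * g)
    (c2 : k * ι = ι * k) : g = k := by
  obtain ⟨v, rfl⟩ := h.coset h1 h2
  rw [h.eq_of_ι hι (v := v) (mul_left_cancel (a := g) (by rw [← mul_assoc, c2, ← mul_assoc, ← c1, mul_assoc])),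
    h.par.zero, mul_one]

variable [Finite G]

theorem cj_ι (hι : Ac e ι fun v => -v) (h1 : Ac e g f) : Ac e (g * ι * g⁻¹) fun v => -v := fun v => by
  obtain ⟨u, hu⟩ := (h.par.mem _).mp ((mem_normalizer_iff''.mp (h1.norm h.par) _).mp (h.par.mem' v))
  rw [show g * ι * g⁻¹ * e v * (g * ι * g⁻¹)⁻¹ = g * (ι * (g⁻¹ * e v * g) * ι⁻¹) * g⁻¹ by group, ← hu, hι,
    h.par.neg, hu, h.par.neg]
  group

theorem lift (hι : Ac e ι fun v => -v) (h1 : Ac e g f) : ∃ v, Ac e (e v * g) f ∧ e v * g * ι = ι * (e v * g) := by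
  obtain ⟨u, hu⟩ := h.coset hι (h.cj_ι hι h1)
  refine ⟨-u, (ac_par h.par _).mul h1, ?_⟩
  have h2 : e (-u) * ι = ι * e u := by rw [← hι, inv_mul_cancel_right]
  have h3 : e u * e u = e (-u) := by
    rw [← h.par.add, eq_neg_of_add_eq_zero_left (V3 u)]
  rw [mul_assoc, mul_inv_eq_iff_eq_mul.mp hu, ← mul_assoc, ← mul_assoc, h2, mul_assoc ι, h3, mul_assoc]

theorem adj (hι : Ac e ι fun v => -v) (h1 : Ac e g f) (gg : g * g = 1) : ∃ ι', Ac e ι' (fun v => -v) ∧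
    g * ι' = ι' * g ∧ ∀ k, k * ι = ι * k → k * g = g * k → k * ι' = ι' * k := by
  obtain ⟨u, hu⟩ := h.coset hι (h.cj_ι hι h1)
  have h2 : g * e u * g⁻¹ = (e u)⁻¹ := by
    have : g * (g * ι * g⁻¹) * g⁻¹ = ι := by
      rw [show g * (g * ι * g⁻¹) * g⁻¹ = g * g * ι * (g * g)⁻¹ by group, gg]; simp
    rw [hu, ← conj_mul, hu, mul_assoc, mul_eq_left] at this
    exact eq_inv_of_mul_eq_one_right this
  have h3 : e u * e u = (e u)⁻¹ := eq_inv_of_mul_eq_one_left (by rw [← h.e3 u, pow_succ, pow_two])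
  refine ⟨ι * (e u)⁻¹, h.par.neg u ▸ hι.mul (ac_par h.par _), mul_inv_eq_iff_eq_mul.mp ?_, fun k k1 k2 => ?_⟩
  · rw [← conj_mul, hu, ← conj_inv, h2, inv_inv, mul_assoc, h3]
  · rw [show e u = ι⁻¹ * (g * ι * g⁻¹) by rw [hu, inv_mul_cancel_left]]
    exact (Commute.mul_right k1 (((Commute.inv_right k1).mul_right
      ((Commute.mul_right k2 k1).mul_right (Commute.inv_right k2))).inv_right)).eq

theorem iota : ∃ ι, Ac e ι (fun v => -v) ∧ φ s * ι = ι * φ s := by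
  obtain ⟨g, hg⟩ := h.real ((2, 0, 0, 0), (0, 2, 0, 0), (0, 0, 2, 0), (0, 0, 0, 2)) (by decide +kernel)
  obtain ⟨ι, h1, h2, -⟩ := h.adj (hg.congr (f' := fun v => -v) (by decide +kernel)) h.ac_s h.tt
  exact ⟨ι, h1, h2⟩

theorem iota' (hw : Ww e φ w) : ∃ ι, Ac e ι (fun v => -v) ∧ φ s * ι = ι * φ s ∧ w * ι = ι * w := by
  obtain ⟨ι, h1, h2⟩ := h.iota
  obtain ⟨ι', h3, h4, h5⟩ := h.adj h1 hw.act hw.ww
  exact ⟨ι', h3, h5 _ h2 (hw.cm s).symm, h4⟩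

omit [Finite G] in
/-- Lifts of commuting maps commute. -/
theorem lift_cm (hι : Ac e ι fun v => -v) (h1 : Ac e g f) (h2 : Ac e k f') (c1 : g * ι = ι * g)
    (c2 : k * ι = ι * k) (c : ∀ v, f (f' v) = f' (f v)) : g * k = k * g :=
  h.lift_ext hι (h1.mul h2) ((h2.mul h1).congr fun v => (c v).symm) (Commute.mul_left c1 c2).eq
    (Commute.mul_left c2 c1).eq

omit [Finite G] in
theorem lift_sq (hι : Ac e ι fun v => -v) (h1 : Ac e g f) (c1 : g * ι = ι * g) (c : ∀ v, f (f v) = v) :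
    g * g = 1 :=
  h.lift_ext hι ((h1.mul h1).congr c) Ac.one (Commute.mul_left c1 c1).eq (by simp)

theorem realT (h1 : Ac e g f) (c : ∀ v, f (sw v) = sw (f v)) : ∃ k, Ac e k f ∧ k * φ s = φ s * k := by
  obtain ⟨ι, h2, h3⟩ := h.iota
  obtain ⟨v, h4, h5⟩ := h.lift h2 h1
  exact ⟨_, h4, h.lift_cm h2 h4 h.ac_s h5 h3 c⟩

omit [Finite G] in
theorem C0 (h1 : k ∈ normalizer (J : Set G)) (h2 : ∀ o, inQ (o ^ 4) → k * φ o = φ o * k) :
    ∃ m ∈ C6, Ac e k (ap m) := by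
  obtain ⟨m, hm, h3⟩ := h.nor k h1
  refine ⟨m, (by decide +kernel : ∀ m ∈ W, ap m (0, 1, 1, 1) = (0, 1, 1, 1) → ap m (0, 0, 2, 1) = (0, 0, 2, 1) →
    m ∈ C6) m hm (h3.fix h.par (h.ez ▸ h2 z oL.2.2.2.1)) (h3.fix h.par ?_), h3⟩
  rw [show e (0, 0, 2, 1) = _ from (h.ee (0, 1, 2)).symm]
  exact h2 _ oL.2.2.2.2.1

omit [Finite G] in
theorem C0J {v : V} (h2 : ∀ o, inQ (o ^ 4) → e v * φ o = φ o * e v) : ∃ k j, v = (k, j, j, j) :=
  ⟨v.1, v.2.1, (by decide +kernel : ∀ v : V, (v.1, v.2.2.2, v.2.1, v.2.2.1) = v → v = (v.1, v.2.1, v.2.1, v.2.1)) v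
    (h.ac_sg.fix h.par (h2 sg oL.1).symm)⟩

omit [Finite G] in
/-- The centraliser of `z` and `a`. -/
theorem cent_za (h1 : g * φ z = φ z * g) (h2 : g * e (1, 0, 0, 0) = e (1, 0, 0, 0) * g) :
    ∃ l k, g = φ l * e (k, 0, 0, 0) := by
  obtain ⟨l, c, rfl, c1, c2⟩ := h.cent g h1
  obtain ⟨m, hm, c3⟩ := h.C0 c1 c2
  have c4 : c * e (1, 0, 0, 0) = e (1, 0, 0, 0) * c :=
    mul_left_cancel (a := φ l) (by rw [← mul_assoc, h2, ← mul_assoc, ← mul_assoc, h.ca])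
  obtain ⟨v, rfl⟩ := (h.par.mem _).mp (h.cJ c (c3.congr ((by decide +kernel : ∀ m ∈ C6,
    ap m (1, 0, 0, 0) = (1, 0, 0, 0) → ∀ v, ap m v = v) m hm (c3.fix h.par c4))))
  obtain ⟨k, j, rfl⟩ := h.C0J c2
  refine ⟨l * eL (-j, -j, -j), k, ?_⟩
  rw [map_mul, h.ee, mul_assoc, ← h.par.add]
  exact congrArg (φ l * e ·) ((by decide +kernel : ∀ k j : ZMod 3, (k, j, j, j) = emb (-j, -j, -j) + (k, 0, 0, 0)) k j)

omit [Finite G] in
theorem q8 {x : G} : x ∈ Q8 e (φ s) (zs 0) ↔ ∃ l, l * s = s * l ∧ l ^ 4 = 1 ∧ x = φ l := by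
  refine ⟨fun ⟨h1, h2, h3⟩ => ?_, ?_⟩
  · obtain ⟨l, k, rfl⟩ := h.cent_za (h.ez ▸ h3 (0, 1, 1, 1) rfl (by decide)) (h3 (1, 0, 0, 0) rfl (by decide))
    rw [(Commute.mul_pow (h.ak l k) 4), pow_succ (e _), h.e3, one_mul, ← map_pow, mul_eq_one_iff_eq_inv,
      ← h.par.neg] at h2
    obtain rfl : k = 0 := neg_eq_zero.mp (h.mem_L h2).1
    rw [show e (0, 0, 0, 0) = 1 from h.par.zero, mul_one] at h1 ⊢
    exact ⟨l, cm_of_map h.inj h1, h.inj (h2.trans (by rw [map_one, ← h.par.zero]; rfl)), rfl⟩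
  · rintro ⟨l, h1, h2, rfl⟩
    refine ⟨map_cm φ h1, by rw [← map_pow, h2, map_one], fun u u1 u2 => ?_⟩
    rw [(by decide +kernel : ∀ u : V, u.2.2.1 = u.2.2.2 → ip u (zs 0) = 0 → u = (u.1, u.2.1, u.2.1, u.2.1)) u u1 u2]
    exact h.zk l _ _

end B

theorem Q8_neg {t x : G} {v : V} (hx : x ∈ Q8 e t v) : x ∈ Q8 e t (-v) :=
  ⟨hx.1, hx.2.1, fun u u1 u2 => hx.2.2 u u1 ((by decide +kernel : ∀ u v : V, ip u (-v) = 0 → ip u v = 0) u v u2)⟩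

theorem W_inv : ∀ m ∈ W, ∃ n ∈ W, (∀ v, ap m (ap n v) = v) ∧ ∀ v, ap n (ap m v) = v := fun m hm => by
  have h1 : Function.Injective (ap m) := fun u v e1 =>
    (by decide +kernel : ∀ u v : V, ip u (1, 0, 0, 0) = ip v (1, 0, 0, 0) → ip u (0, 1, 0, 0) = ip v (0, 1, 0, 0) →
      ip u (0, 0, 1, 0) = ip v (0, 0, 1, 0) → ip u (0, 0, 0, 1) = ip v (0, 0, 0, 1) → u = v) u v
      (by rw [← ip_ap hm, e1, ip_ap hm]) (by rw [← ip_ap hm, e1, ip_ap hm]) (by rw [← ip_ap hm, e1, ip_ap hm])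
      (by rw [← ip_ap hm, e1, ip_ap hm])
  have h2 := Finite.injective_iff_surjective.mp h1
  obtain ⟨a, ha⟩ := h2 (1, 0, 0, 0)
  obtain ⟨b, hb⟩ := h2 (0, 1, 0, 0)
  obtain ⟨c, hc⟩ := h2 (0, 0, 1, 0)
  obtain ⟨d, hd⟩ := h2 (0, 0, 0, 1)
  have h3 : ∀ v, ap m (ap (a, b, c, d) v) = v := fun v => by
    rw [← ap_mm, mm, ha, hb, hc, hd]; simp [ap]
  refine ⟨(a, b, c, d), mem_W.mpr ?_, h3, fun v => h1 (h3 _)⟩
  simp only [← ip_ap hm a, ← ip_ap hm b, ← ip_ap hm c, ← ip_ap hm d, ha, hb, hc, hd]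
  decide

theorem B.Q8_conj (h : B J e φ) {m : M} (hm : m ∈ W) (h1 : Ac e g (ap m)) (h2 : g * φ s = φ s * g) {x : G} {v : V}
    (hx : x ∈ Q8 e (φ s) v) : g * x * g⁻¹ ∈ Q8 e (φ s) (ap m v) := by
  obtain ⟨n, -, n1, -⟩ := W_inv m hm
  refine ⟨((Commute.mul_left h2 hx.1).mul_left (Commute.inv_left h2)).eq, by rw [conj_pow, hx.2.1]; simp,
    fun u u1 u2 => ?_⟩
  have h3 : φ s * e (ap n u) = e (ap n u) * φ s := by
    rw [← h1.inv n1]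
    exact (((Commute.inv_right h2.symm).mul_right (h.ac_s.comm (Prod.ext rfl (Prod.ext rfl
      (Prod.ext u1.symm u1))))).mul_right (Commute.inv_right h2.symm).inv_right).eq
  have h4 := hx.2.2 (ap n u) (congrArg (·.2.2.2) (h.ac_s.fix h.par h3)) (by rw [← ip_ap hm, n1, u2])
  rw [← n1 u, ← h1, conj_mul, h4, conj_mul]

/-- Four commuting quaternion groups with common centre. -/
structure QF (t : G) (R : Fin 4 → Subgroup G) : Prop where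
  tt : t * t = 1
  t1 : t ≠ 1
  tR : ∀ i, t ∈ R i
  card : ∀ i, Nat.card (R i) = 8
  sq : ∀ i, ∀ x ∈ R i, x = 1 ∨ x = t ∨ (x * x = t ∧ ∃ y ∈ R i, x * y = y * x * t)
  cm1 : ∀ i, ∀ x ∈ R i, x * t = t * x ∧ ∀ y ∈ R i, x * y = y * x ∨ x * y = y * x * t
  cm : ∀ i j, i ≠ j → ∀ x ∈ R i, ∀ y ∈ R j, x * y = y * x

theorem QL_facts : ∀ a : L, a * s = s * a → a ^ 4 = 1 → (a⁻¹ * s = s * a⁻¹ ∧ a⁻¹ ^ 4 = 1) ∧
    (a = 1 ∨ a = s ∨ (a * a = s ∧ (∃ y ∈ [qq, r1 * qq * r1⁻¹], a * y = y * a * s) ∧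
      r1 * a * r1⁻¹ ≠ a ∧ r1 * a * r1⁻¹ ≠ a * s)) ∧
    a ∈ [1, s, qq, qq * s, r1 * qq * r1⁻¹, r1 * qq * r1⁻¹ * s, r1⁻¹ * qq * r1, r1⁻¹ * qq * r1 * s] ∧
    ∀ b : L, b * s = s * b → b ^ 4 = 1 → (a * b) ^ 4 = 1 ∧ (a * b = b * a ∨ a * b = b * a * s) := by
  decide +kernel

/-- The quaternion subgroup of `L`. -/
def QL : Subgroup L where
  carrier := {l | l * s = s * l ∧ l ^ 4 = 1}
  mul_mem' := fun {a b} ha hb => ⟨(Commute.mul_left ha.1 hb.1).eq, ((QL_facts a ha.1 ha.2).2.2.2 b hb.1 hb.2).1⟩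
  one_mem' := by simp
  inv_mem' := fun {a} ha => (QL_facts a ha.1 ha.2).1

theorem card_QL : Nat.card QL = 8 := by
  classical
  have h1 : (QL : Set L) = ([1, s, qq, qq * s, r1 * qq * r1⁻¹, r1 * qq * r1⁻¹ * s, r1⁻¹ * qq * r1,
      r1⁻¹ * qq * r1 * s].toFinset : Finset L) := Set.ext fun a => by
    rw [Finset.mem_coe, List.mem_toFinset]
    exact ⟨fun ha => (QL_facts a ha.1 ha.2).2.2.1, fun ha => (by decide +kernel : ∀ a ∈ [1, s, qq, qq * s,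
      r1 * qq * r1⁻¹, r1 * qq * r1⁻¹ * s, r1⁻¹ * qq * r1, r1⁻¹ * qq * r1 * s], a * s = s * a ∧ a ^ 4 = 1) a ha⟩
  rw [← SetLike.coe_sort_coe, Nat.card_coe_set_eq, h1, Set.ncard_coe_finset,
    List.toFinset_card_of_nodup (by decide +kernel)]
  rfl

theorem qq_QL : qq ∈ QL ∧ r1 * qq * r1⁻¹ ∈ QL := by
  refine ⟨⟨?_, ?_⟩, ?_, ?_⟩ <;> decide +kernel

/-- The quaternion groups as subgroups. -/
def R (e : V → G) (t : G) (i : Fin 4) : Subgroup G := closure (Q8 e t (zs i))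

theorem E_eq (e : V → G) (t : G) : E e t = ⨆ i, R e t i := closure_iUnion _

/-- Matrices moving `zs 0` to `zs i`. -/
def ms : Fin 4 → M := ![((1, 0, 0, 0), (0, 1, 0, 0), (0, 0, 1, 0), (0, 0, 0, 1)),
  ((1, 0, 0, 0), (0, 1, 0, 0), (0, 0, 2, 0), (0, 0, 0, 2)), ((0, 1, 0, 0), (1, 0, 0, 0), (0, 0, 1, 0), (0, 0, 0, 1)),
  ((0, 1, 0, 0), (1, 0, 0, 0), (0, 0, 2, 0), (0, 0, 0, 2))]

theorem ms_facts : ∀ i, ms i ∈ W4 ∧ ap (ms i) (zs 0) = zs i ∧ (∀ v, ap (ms i) (sw v) = sw (ap (ms i) v)) ∧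
    ∀ v, ap (ms i) (ap (ms i) v) = v := by decide +kernel

namespace B

variable [Finite G] (h : B J e φ)
include h

theorem exR (i : Fin 4) : ∃ g, Ac e g (ap (ms i)) ∧ g * φ s = φ s * g ∧
    ∀ x, x ∈ Q8 e (φ s) (zs i) ↔ ∃ l ∈ QL, x = g * φ l * g⁻¹ := by
  obtain ⟨m1, m2, m3, m4⟩ := ms_facts i
  obtain ⟨g, hg⟩ := h.real _ m1
  obtain ⟨k, h1, h2⟩ := h.realT hg m3
  refine ⟨k, h1, h2, fun x => ⟨fun hx => ?_, ?_⟩⟩
  · have := h.Q8_conj (W4_le m1) (h1.inv m4) (Commute.inv_left h2).eq hx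
    rw [← m2, m4] at this
    obtain ⟨l, a1, a2, a3⟩ := h.q8.mp this
    exact ⟨l, ⟨a1, a2⟩, by rw [← a3]; group⟩
  · rintro ⟨l, hl, rfl⟩
    exact m2 ▸ h.Q8_conj (W4_le m1) h1 h2 (h.q8.mpr ⟨l, hl.1, hl.2, rfl⟩)

theorem R_eq (i : Fin 4) : ∃ g, Ac e g (ap (ms i)) ∧ g * φ s = φ s * g ∧
    R e (φ s) i = QL.map ((MulAut.conj g).toMonoidHom.comp φ) ∧ (R e (φ s) i : Set G) = Q8 e (φ s) (zs i) := by
  obtain ⟨g, h1, h2, h3⟩ := h.exR i
  have h4 : Q8 e (φ s) (zs i) = QL.map ((MulAut.conj g).toMonoidHom.comp φ) := Set.ext fun x =>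
    (h3 x).trans ⟨fun ⟨l, a, b⟩ => ⟨l, a, b.symm⟩, fun ⟨l, a, b⟩ => ⟨l, a, b.symm⟩⟩
  exact ⟨g, h1, h2, by rw [R, h4, closure_eq], by rw [R, h4, closure_eq]⟩

theorem mem_R {i : Fin 4} {x : G} : x ∈ R e (φ s) i ↔ x ∈ Q8 e (φ s) (zs i) := by
  obtain ⟨-, -, -, -, h1⟩ := h.R_eq i
  rw [← h1]; rfl

theorem qf (hc : Cm e (φ s)) : QF (φ s) (R e (φ s)) := by
  have key : ∀ i, ∃ f : L →* G, Function.Injective f ∧ f s = φ s ∧ R e (φ s) i = QL.map f := fun i => by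
    obtain ⟨g, -, h2, h3, -⟩ := h.R_eq i
    exact ⟨_, (MulAut.conj g).injective.comp h.inj, mul_inv_eq_iff_eq_mul.mpr h2, h3⟩
  refine ⟨h.tt, h.t1, fun i => ?_, fun i => ?_, fun i x hx => ?_, fun i x hx => ?_,
    fun i j ij x hx y hy => hc i j ij x (h.mem_R.mp hx) y (h.mem_R.mp hy)⟩ <;> obtain ⟨f, f1, f2, f3⟩ := key i
  · exact f3 ▸ ⟨s, ⟨rfl, by decide +kernel⟩, f2⟩
  · rw [f3, card_map_of_injective f1, card_QL]
  · rw [f3] at hx ⊢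
    obtain ⟨a, ha, rfl⟩ := hx
    rcases (QL_facts a ha.1 ha.2).2.1 with rfl | rfl | ⟨a1, ⟨y, hy, a2⟩, -⟩
    · exact .inl (map_one f)
    · exact .inr (.inl f2)
    refine .inr (.inr ⟨by rw [← map_mul, a1, f2], f y, mem_map_of_mem f ?_, by
      rw [← map_mul, a2, map_mul, map_mul, f2]⟩)
    simp only [List.mem_cons, List.not_mem_nil, or_false] at hy
    rcases hy with rfl | rfl
    exacts [qq_QL.1, qq_QL.2]
  · refine ⟨(h.mem_R.mp hx).1, fun y hy => ?_⟩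
    rw [f3] at hx hy
    obtain ⟨a, ha, rfl⟩ := hx
    obtain ⟨b, hb, rfl⟩ := hy
    rw [← f2, ← map_mul, ← map_mul, ← map_mul]
    exact ((QL_facts a ha.1 ha.2).2.2.2 b hb.1 hb.2).2.imp (congrArg f) (congrArg f)

/-- A vector of `A` not orthogonal to `zs i` acts without fixed points on `R i / ⟨t⟩`. -/
theorem R_fpf {i : Fin 4} {u : V} (u1 : u.2.2.1 = u.2.2.2) (u2 : ip u (zs i) ≠ 0) {x : G} (hx : x ∈ R e (φ s) i)
    (hu : e u * x * (e u)⁻¹ = x ∨ e u * x * (e u)⁻¹ = x * φ s) : x = 1 ∨ x = φ s := by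
  obtain ⟨g, h1, h2, h3⟩ := h.exR i
  obtain ⟨m1, m2, m3, m4⟩ := ms_facts i
  obtain ⟨a, ha, rfl⟩ := (h3 x).mp (h.mem_R.mp hx)
  have h4 : e u = g * e (ap (ms i) u) * g⁻¹ := by rw [h1, m4]
  have h5 : g * φ s * g⁻¹ = φ s := mul_inv_eq_iff_eq_mul.mpr h2
  obtain ⟨k, j, h6⟩ := (by decide +kernel : ∀ i, ∀ u : V, u.2.2.1 = u.2.2.2 → ip u (zs i) ≠ 0 → ∃ k j,
    ap (ms i) u = emb (1, 0, 0) + (k, j, j, j) ∨ ap (ms i) u = -emb (1, 0, 0) + (k, j, j, j)) i u u1 u2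
  have h7 : e (k, j, j, j) * φ a * (e (k, j, j, j))⁻¹ = φ a := mul_inv_eq_iff_eq_mul.mpr (h.zk a k j).symm
  have h8 : e (ap (ms i) u) * φ a * (e (ap (ms i) u))⁻¹ = φ a ∨
      e (ap (ms i) u) * φ a * (e (ap (ms i) u))⁻¹ = φ a * φ s := by
    rw [h4, ← h5, conj_mul, conj_mul, conj_inv, conj_mul] at hu
    simpa only [mul_left_inj, mul_right_inj] using hu
  rcases (QL_facts a ha.1 ha.2).2.1 with rfl | rfl | ⟨-, -, a1, a2⟩
  · exact .inl (by simp)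
  · exact .inr h5
  exfalso
  have h9 : e (emb (1, 0, 0)) = φ r1 := by rw [← h.ee, eL_val.1]
  rcases h6 with h6 | h6 <;> rw [h6, h.par.add, mul_inv_rev, ← mul_assoc, mul_assoc (e _) (e _),
    mul_assoc (e _) (e _ * _), h7] at h8
  · rw [h9, ← map_inv, ← map_mul, ← map_mul, ← map_mul] at h8
    exact h8.elim (fun c => a1 (h.inj c)) fun c => a2 (h.inj c)
  · rw [h.par.neg, h9, ← map_inv, ← map_inv, ← map_mul, ← map_mul, ← map_mul] at h8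
    exact (by decide +kernel : ∀ a : L, (r1⁻¹ * a * r1⁻¹⁻¹ = a → r1 * a * r1⁻¹ = a) ∧
      (a * s = s * a → r1⁻¹ * a * r1⁻¹⁻¹ = a * s → r1 * a * r1⁻¹ = a * s)) a |>.elim fun c1 c2 =>
        h8.elim (fun c => a1 (c1 (h.inj c))) fun c => a2 (c2 ha.1 (h.inj c))

theorem R_le_T0 (i : Fin 4) : R e (φ s) i ≤ T0 J e (φ s) :=
  (E_eq e (φ s) ▸ le_iSup (R e (φ s)) i).trans le_sup_left

theorem mem_T0 (h1 : Ac e g f) (h2 : g * φ s = φ s * g) : g ∈ T0 J e (φ s) :=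
  mem_sup_right ⟨h1.norm h.par, mem_centralizer_singleton_iff.mpr h2⟩

theorem T0_le : T0 J e (φ s) ≤ centralizer {φ s} :=
  sup_le ((closure_le _).mpr (Set.iUnion_subset fun _ _ hx => mem_centralizer_singleton_iff.mpr hx.1)) inf_le_right

theorem ac_inJ {l : L} (h1 : inJ l) : φ l ∈ J := by
  obtain ⟨v, rfl⟩ := (inJ_iff l).mp h1
  exact h.ee v ▸ h.par.mem' _

/-- The centraliser of `t` and `z`. -/
theorem cent_zt0 (h1 : g * φ s = φ s * g) (h2 : g * φ z = φ z * g) : ∃ x ∈ R e (φ s) 0,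
    ∃ k ∈ normalizer (J : Set G), k * φ s = φ s * k ∧ g = x * k := by
  obtain ⟨l, c, rfl, c1, c2⟩ := h.cent g h2
  have c3 := c2 s oL.2.1
  have c4 : l * s = s * l := cm_of_map h.inj (mul_right_cancel (b := c)
    (by rw [mul_assoc, ← c3, ← mul_assoc, h1, mul_assoc]))
  have hJ : ∀ {l}, inJ l → φ l ∈ normalizer (J : Set G) := fun hl => le_normalizer (h.ac_inJ hl)
  have fin : ∀ a ∈ QL, φ (a⁻¹ * l) ∈ normalizer (J : Set G) → ∃ x ∈ R e (φ s) 0,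
      ∃ k ∈ normalizer (J : Set G), k * φ s = φ s * k ∧ φ l * c = x * k := fun a ha hn =>
    ⟨φ a, h.mem_R.mpr (h.q8.mpr ⟨a, ha.1, ha.2, rfl⟩), φ (a⁻¹ * l) * c, mul_mem hn c1,
      (Commute.mul_left (map_cm φ (Commute.mul_left (inv_mem ha).1 c4).eq) c3).eq, by simp [mul_assoc]⟩
  have q3 : ∀ k ∈ [qq, r1 * qq * r1⁻¹, r1⁻¹ * qq * r1], k * s = s * k ∧ k ^ 4 = 1 := by decide +kernel
  rcases oL.2.2.2.2.2.2.2 l c4 with a | a | a | ⟨k, hk, a | a⟩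
  · exact fin l ⟨c4, a⟩ (by simp)
  · exact fin 1 (one_mem _) (by simpa using hJ a)
  · refine fin 1 (one_mem _) ?_
    have := mul_mem (hJ a) (h.ac_s.norm h.par)
    rwa [map_mul, mul_assoc, h.tt, mul_one, ← one_mul l, ← inv_one] at this
  · exact fin k⁻¹ (inv_mem (q3 k hk)) (by simpa using hJ a)
  · exact fin k (q3 k hk) (hJ a)

theorem cent_zt {v : V} (hv : v.2.2.1 = v.2.2.2) (h0 : v ≠ 0) (h3 : ip v v = 0) (h1 : g * φ s = φ s * g)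
    (h2 : g * e v = e v * g) : g ∈ T0 J e (φ s) := by
  obtain ⟨i, hi⟩ := (by decide +kernel : ∀ v : V, v.2.2.1 = v.2.2.2 → v ≠ 0 → ip v v = 0 →
    ∃ i, zs i = v ∨ zs i = -v) v hv h0 h3
  have h4 : g * e (zs i) = e (zs i) * g := by
    rcases hi with hi | hi <;> rw [hi]
    exacts [h2, h.par.neg v ▸ (Commute.inv_right h2).eq]
  obtain ⟨k, k1, k2, -⟩ := h.exR i
  have k3 := h.mem_T0 k1 k2
  obtain ⟨x, hx, c, c1, c2, c3⟩ := h.cent_zt0 (g := k⁻¹ * g * k)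
    (((Commute.inv_left k2).mul_left h1).mul_left k2).eq (by
      rw [← (ms_facts i).2.1, ← k1] at h4
      rw [h.ez, show e (0, 1, 1, 1) = e (zs 0) from rfl]
      calc _ = k⁻¹ * (g * (k * e (zs 0) * k⁻¹)) * k := by group
        _ = _ := by rw [h4]; group)
  have := c3 ▸ mul_mem (h.R_le_T0 0 hx) (mem_sup_right ⟨c1, mem_centralizer_singleton_iff.mpr c2⟩)
  rwa [mul_mem_cancel_right k3, mul_mem_cancel_left (inv_mem k3)] at this

theorem cent_zv {u : V} (hu : ip u (0, 1, 1, 1) ≠ 0) (h1 : g * φ z = φ z * g) (h2 : g * e u * g⁻¹ ∈ J) :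
    g ∈ normalizer (J : Set G) := by
  obtain ⟨l, c, rfl, c1, c2⟩ := h.cent g h1
  obtain ⟨m, hm, c3⟩ := h.C0 c1 c2
  obtain ⟨v, hv⟩ := (h.par.mem _).mp h2
  have h3 : φ (l * eL (pr (ap m u)) * l⁻¹) = e (-((ap m u).1, 0, 0, 0) + v) := by
    rw [h.par.add, h.par.neg, hv, show φ l * c * e u * (φ l * c)⁻¹ = φ l * (c * e u * c⁻¹) * (φ l)⁻¹ by group, c3]
    generalize ap m u = y
    rw [show e y = e (y.1, 0, 0, 0) * e (emb (pr y)) by rw [← h.par.add, ← emb_pr], ← conj_mul,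
      mul_inv_eq_iff_eq_mul.mpr (h.ak l _), map_mul, map_mul, map_inv, h.ee, inv_mul_cancel_left]
  obtain ⟨a, -, h4⟩ := norm_J l ((by decide +kernel : ∀ l : L, ∀ p : V27, p.1 + p.2.1 + p.2.2 ≠ 0 →
    inJ (l * eL p * l⁻¹) → inJ (l * r1 * l⁻¹)) l _ ((by decide +kernel : ∀ m ∈ C6, ∀ u, ip u (0, 1, 1, 1) ≠ 0 →
      (pr (ap m u)).1 + (pr (ap m u)).2.1 + (pr (ap m u)).2.2 ≠ 0) m hm u hu)
        ((inJ_iff _).mpr ⟨_, (h.mem_L h3).2.symm⟩))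
  exact mul_mem ((h.ac_L h4).norm h.par) c1

theorem cent_A (h1 : ∀ v, g * e (ea v) = e (ea v) * g) : Ac e g (fun v => v) ∨ Ac e g sw := by
  obtain ⟨m, hm, h2⟩ := h.nor g (h.cent_zv (u := ea (1, 0, 0)) (by decide) (h.ez ▸ h1 (1, 2, 1))
    (by rw [h1, mul_inv_cancel_right]; exact h.par.mem' _))
  exact ((by decide +kernel : ∀ m ∈ W, ap m (ea (1, 0, 0)) = ea (1, 0, 0) → ap m (ea (0, 1, 0)) = ea (0, 1, 0) →
    ap m (ea (0, 0, 1)) = ea (0, 0, 1) → (∀ v, ap m v = v) ∨ ∀ v, ap m v = sw v) m hm (h2.fix h.par (h1 _))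
      (h2.fix h.par (h1 _)) (h2.fix h.par (h1 _))).imp h2.congr h2.congr

theorem cent_J0 (h1 : ∀ v, g * e (emb v) = e (emb v) * g) :
    Ac e g (fun v => v) ∨ Ac e g fun v => (-v.1, v.2) := by
  obtain ⟨m, hm, h2⟩ := h.nor g (h.cent_zv (u := emb (1, 0, 0)) (by decide) (h.ez ▸ h1 (2, 2, 2))
    (by rw [h1, mul_inv_cancel_right]; exact h.par.mem' _))
  exact ((by decide +kernel : ∀ m ∈ W, ap m (emb (1, 0, 0)) = emb (1, 0, 0) → ap m (emb (0, 1, 0)) = emb (0, 1, 0) →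
    ap m (emb (0, 0, 1)) = emb (0, 0, 1) → (∀ v, ap m v = v) ∨ ∀ v, ap m v = (-v.1, v.2)) m hm
      (h2.fix h.par (h1 _)) (h2.fix h.par (h1 _)) (h2.fix h.par (h1 _))).imp h2.congr h2.congr

omit [Finite G] in
theorem real3 (hd : Dd e φ d) {m : M} (hm : m ∈ W3) : ∃ g, Ac e g (ap m) := by
  have h2 : ∀ v, ap δ (ap δ (ap δ v)) = v := by decide +kernel
  rcases (W_split m (W3_le hm)).2 hm with h1 | h1 | h1 <;> obtain ⟨g, hg⟩ := h.real _ h1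
  · exact ⟨g, hg⟩
  · exact ⟨_, (hd.act.mul (hd.act.mul hg)).congr fun v => by rw [ap_mm, h2]⟩
  · exact ⟨_, (hd.act.mul hg).congr fun v => by rw [ap_mm, ap_mm, h2]⟩

omit [Finite G] in
theorem realW (hd : Dd e φ d) (hw : Ww e φ w) {m : M} (hm : m ∈ W) : ∃ g, Ac e g (ap m) := by
  rcases (W_split m hm).1 with h1 | h1 <;>
    obtain ⟨g, hg⟩ := h.real3 hd h1
  exacts [⟨g, hg⟩, ⟨_, (hg.mul hw.act).congr fun v => by simp [ap]⟩]

theorem exists_w (hd : Dd e φ d) {m : M} (hm : m ∈ W) (h3 : m ∉ W3) (hg : Ac e g (ap m)) : ∃ w, Ww e φ w := by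
  obtain ⟨n, hn, n1, n2⟩ := W_inv m hm
  obtain ⟨k, hk⟩ := h.real3 hd ((W_split m hm).1.resolve_left h3)
  have h1 : Ac e (g⁻¹ * k) fun v => (-v.1, v.2) := ((hg.inv n1).mul hk).congr fun v => by
    rw [show ap (-m.1, m.2) v = ap m (-v.1, v.2) by simp [ap], n2]
  generalize g⁻¹ * k = x at h1
  obtain ⟨l, c, rfl, c1, c2⟩ := h.cent x (h.ez ▸ h1.comm rfl)
  obtain ⟨a, ha, c3⟩ := h.C0 c1 c2
  have c4 : c * e (1, 0, 0, 0) * c⁻¹ = e (2, 0, 0, 0) := by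
    have := h1 (1, 0, 0, 0)
    rw [show φ l * c * e (1, 0, 0, 0) * (φ l * c)⁻¹ = φ l * (c * e (1, 0, 0, 0) * c⁻¹) * (φ l)⁻¹ by group,
      mul_inv_eq_iff_eq_mul, ← h.ak] at this
    exact mul_left_cancel this
  have c5 := c3.congr ((by decide +kernel : ∀ a ∈ C6, ap a (1, 0, 0, 0) = (2, 0, 0, 0) → ∀ v, ap a v = (-v.1, v.2))
    a ha (h.par.inj ((c3 _).symm.trans c4)))
  obtain ⟨v, hv⟩ := (h.par.mem _).mp (h.cJ _ ((c5.mul c5).congr fun v => by simp))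
  refine ⟨c * (c * c), ?_, (c5.mul (c5.mul c5)).congr fun v => by simp, fun l => ?_⟩
  · rw [← h.e3 v, hv]; simp only [pow_succ, pow_zero, one_mul, mul_assoc]
  · obtain ⟨p, hp, h2⟩ := oL.2.2.2.2.2.2.1 l
    have h4 : Commute c (φ l) := by
      have h5 : Commute c (φ (eL p)) := h.ee p ▸ c5.comm (by simp [emb])
      simpa using (Commute.mul_right (c2 _ h2) h5.inv_right)
    exact (h4.mul_left (h4.mul_left h4)).eq

omit [Finite G] in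
theorem conj (hg : g ∈ normalizer (J : Set G)) :
    B J (fun v => g * e v * g⁻¹) ((MulAut.conj g).toMonoidHom.comp φ) := by
  have k1 : ∀ {k f}, Ac e k f → Ac (fun v => g * e v * g⁻¹) (g * k * g⁻¹) f := fun {k f} hk v => by
    simp only [← hk v]; group
  have k2 : ∀ {x y : G}, x * y = y * x → g * x * g⁻¹ * (g * y * g⁻¹) = g * y * g⁻¹ * (g * x * g⁻¹) :=
    fun c => by rw [conj_mul, c, conj_mul]
  have k3 : ∀ k, k = g * (g⁻¹ * k * g) * g⁻¹ := fun k => by group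
  refine ⟨⟨fun u v => by rw [h.par.add, conj_mul], fun u v c => h.par.inj (by simpa using c), fun x => ?_⟩,
    (MulAut.conj g).injective.comp h.inj, fun v => congrArg (g * · * g⁻¹) (h.ee v), fun l => k2 (h.ca l),
    fun x hx => ?_, fun x hx => ?_, h.wj, fun x hx => ?_, fun m hm => (h.real m hm).elim fun k hk => ⟨_, k1 hk⟩⟩
  · rw [mem_normalizer_iff''.mp hg x, h.par.mem]
    exact exists_congr fun v => ⟨fun c => by rw [c]; group, fun c => by rw [← c]; group⟩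
  · obtain ⟨l, c, c0, c1, c2⟩ := h.cent (g⁻¹ * x * g) (by
      have hx' : x * (g * φ z * g⁻¹) = g * φ z * g⁻¹ * x := hx
      calc _ = g⁻¹ * (x * (g * φ z * g⁻¹)) * g := by group
        _ = _ := by rw [hx']; group)
    exact ⟨l, g * c * g⁻¹, by rw [k3 x, c0, ← conj_mul]; rfl, mul_mem (mul_mem hg c1) (inv_mem hg),
      fun o ho => k2 (c2 o ho)⟩
  · refine (mem_normalizer_iff''.mp hg x).mpr (h.cJ _ fun v => ?_)
    calc _ = g⁻¹ * (x * (g * e v * g⁻¹) * x⁻¹) * g := by group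
      _ = _ := by rw [hx v]; group
  · obtain ⟨m, hm, c⟩ := h.nor (g⁻¹ * x * g) (mul_mem (mul_mem (inv_mem hg) hx) hg)
    exact ⟨m, hm, k3 x ▸ k1 c⟩

theorem conj' (hg : Ac e g f) : B J (fun v => e (f v)) ((MulAut.conj g).toMonoidHom.comp φ) :=
  (funext hg : (fun v => g * e v * g⁻¹) = _) ▸ h.conj (hg.norm h.par)

theorem b3 (hd : Dd e φ d) : B3 J e φ :=
  have h1 : d * φ s * d⁻¹ = φ s := mul_inv_eq_iff_eq_mul.mpr (hd.cm s oL.2.1)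
  ⟨h, ⟨_, h.conj' hd.act, h1⟩, _, h.conj' (hd.act.mul hd.act), by
    change d * d * φ s * (d * d)⁻¹ = _
    rw [mul_inv_rev, ← mul_assoc, mul_assoc d d, mul_assoc d (d * _), h1, h1]⟩

end B

end Cfsg.Agent.O83
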