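import Cfsg.Agent.O83.E

/-! Four commuting quaternion groups permuted by a group. -/

set_option autoImplicit false

namespace Cfsg.Agent.O83

open Subgroup Cfsg.Agent.Char Cfsg.Agent.Local
open scoped Pointwise

variable {G : Type*} [Group G] [Finite G]

theorem bk_half {L X : Subgroup G} (h : ∀ a ∈ X, ∀ b ∈ X, a ∉ L → b ∉ L → a * b ∈ L) :
    Nat.card X ≤ 2 * Nat.card ↥(X ⊓ L) := by
  by_cases h1 : X ≤ L
  · rw [inf_eq_left.mpr h1]
    omega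
  obtain ⟨a, ha, h2⟩ := SetLike.not_le_iff_exists.1 h1
  have h3 : (X : Set G) ⊆ (X ⊓ L : Subgroup G) ∪ (fun x => a⁻¹ * x) '' (X ⊓ L : Subgroup G) :=
    fun b hb => by
      by_cases h4 : b ∈ L
      exacts [.inl ⟨hb, h4⟩, .inr ⟨_, ⟨mul_mem ha hb, h a ha b hb h2 h4⟩, by simp⟩]
  have h4 := (Set.ncard_le_ncard h3).trans (Set.ncard_union_le _ _)
  rw [Set.ncard_image_of_injective _ (mul_right_injective _)] at h4
  change (X : Set G).ncard ≤ 2 * ((X ⊓ L : Subgroup G) : Set G).ncard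
  omega

theorem bk_lt {L X : Subgroup G} (hL : L ≤ X) {a : G} (ha : a ∈ X) (h1 : a ∉ L) :
    2 * Nat.card L ≤ Nat.card X := by
  have h3 := card_mul_relIndex hL
  have h4 : L.relIndex X ≠ 1 := fun e => h1 (relIndex_eq_one.mp e ha)
  have h5 : L.relIndex X ≠ 0 := fun e => by rw [e, mul_zero] at h3; exact Nat.card_pos.ne h3
  rw [← h3, mul_comm]
  exact Nat.mul_le_mul_left _ (by omega)

omit [Finite G] in
theorem bk_zp {x a : G} (xx : x * x = 1) (ha : a ∈ zpowers x) : a = 1 ∨ a = x := by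
  obtain ⟨k, rfl⟩ := ha
  have h2 : x ^ (2 : ℤ) = 1 := by rw [zpow_two, xx]
  obtain ⟨m, rfl | rfl⟩ := Int.even_or_odd' k
  · left; simp [zpow_mul, h2]
  · right; simp [zpow_add, zpow_mul, h2]

omit [Finite G] in
theorem bk_card2 {t : G} (tt : t * t = 1) (t1 : t ≠ 1) : Nat.card (zpowers t) = 2 := by
  rw [Nat.card_zpowers, orderOf_eq_prime (p := 2) (by rw [pow_two, tt]) t1]

theorem bk_ext {K : Subgroup G} {x : G} (pK : IsPGroup 2 K) (hn : x ∈ normalizer (K : Set G))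
    (hx : x ∉ K) (xx : x * x = 1) :
    IsPGroup 2 (K ⊔ zpowers x : Subgroup G) ∧ 2 * Nat.card K ≤ Nat.card ↥(K ⊔ zpowers x) :=
  ⟨IsPGroup.to_sup_of_normal_left' pK (IsPGroup.of_card_dvd_pow (n := 1) (by
      rw [Nat.card_zpowers]; exact orderOf_dvd_of_pow_eq_one (by rw [pow_one, sq, xx])))
    (zpowers_le.2 hn), bk_lt le_sup_left (mem_sup_right (mem_zpowers x)) hx⟩

omit [Finite G] in
theorem bk_pow {E : Subgroup G} {f a : G} (hf : f ∈ E) (ha : a ∈ normalizer (E : Set G)) (n : ℕ) :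
    (f * a) ^ n * (a ^ n)⁻¹ ∈ E := by
  induction n with
  | zero => simp
  | succ n ih =>
    rw [show (f * a) ^ (n + 1) * (a ^ (n + 1))⁻¹ = f * (a * ((f * a) ^ n * (a ^ n)⁻¹) * a⁻¹) by
      rw [pow_succ', pow_succ']; group]
    exact mul_mem hf (conj_mem_of_mem_normalizer ha ih)

theorem bk_two {E : Subgroup G} {f a : G} (hf : f ∈ E) (ha : a ∈ normalizer (E : Set G)) (a3 : a ^ 3 = 1)
    {n : ℕ} (h : (f * a) ^ 2 ^ n = 1) : f * a ∈ E := by
  have h1 := bk_pow hf ha (2 ^ n)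
  rw [h, one_mul, inv_mem_iff] at h1
  exact mul_mem hf (mem_of_pow_mem_of_coprime (Nat.Coprime.pow_right n
    (Nat.Coprime.coprime_dvd_left (orderOf_dvd_of_pow_eq_one a3) (by norm_num))) h1)

/-- The elements acting trivially on `D` modulo `t`. -/
def TrS {t : G} (tt : t * t = 1) (D : Subgroup G) : Subgroup G where
  carrier := {g | g * t = t * g ∧ ∀ q ∈ D, g * q * g⁻¹ = q ∨ g * q * g⁻¹ = q * t}
  one_mem' := ⟨by simp, fun q _ => .inl (by simp)⟩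
  mul_mem' := by
    rintro a b ⟨a1, a2⟩ ⟨b1, b2⟩
    refine ⟨(Commute.mul_left a1 b1).eq, fun q hq => ?_⟩
    rw [show a * b * q * (a * b)⁻¹ = a * (b * q * b⁻¹) * a⁻¹ by group]
    rcases b2 q hq with e | e <;> rw [e]
    · exact a2 q hq
    · rw [← conj_mul, a1, mul_inv_cancel_right]
      exact (a2 q hq).symm.imp (fun e => by rw [e, mul_assoc, tt, mul_one]) fun e => by rw [e]
  inv_mem' := by
    rintro a ⟨a1, a2⟩
    refine ⟨(Commute.inv_left a1).eq, fun q hq => (a2 q hq).imp (fun e => ?_) fun e => ?_⟩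
    · nth_rewrite 1 [← e]; group
    · calc _ = a⁻¹ * (q * (t * t)) * a := by rw [tt]; group
        _ = a⁻¹ * (q * t) * (t * a) := by group
        _ = a⁻¹ * (a * q * a⁻¹) * (a * t) := by rw [e, a1]
        _ = _ := by group

/-- `g` permutes the blocks as `σ`. -/
def Bl (R : Fin 4 → Subgroup G) (g : G) (σ : Equiv.Perm (Fin 4)) : Prop :=
  ∀ i, ∀ x ∈ R i, g * x * g⁻¹ ∈ R (σ i)

variable {t g k x : G} {R : Fin 4 → Subgroup G} {σ τ : Equiv.Perm (Fin 4)}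

omit [Finite G] in
theorem Bl.mul (h1 : Bl R g σ) (h2 : Bl R k τ) : Bl R (g * k) (σ * τ) := fun i x hx => by
  rw [show g * k * x * (g * k)⁻¹ = g * (k * x * k⁻¹) * g⁻¹ by group]
  exact h1 _ _ (h2 i x hx)

theorem Bl.norm (h : Bl R g σ) {i : Fin 4} (e : σ i = i) : g ∈ normalizer (R i : Set G) :=
  mem_normalizer_of_conj_mem fun x hx => e ▸ h i x hx

namespace QF

variable (h : QF t R)
include h

theorem inter {i j : Fin 4} (ij : i ≠ j) (hi : x ∈ R i) (hj : x ∈ R j) : x = 1 ∨ x = t :=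
  (h.ex j).cen x hj fun _ hy => h.cm i j ij _ hi _ hy

theorem exists_nc (i : Fin 4) : ∃ x ∈ R i, x ≠ 1 ∧ x ≠ t := by
  by_contra! e
  have := card_le_of_le (show R i ≤ zpowers t from fun x hx => by
    by_cases h1 : x = 1
    exacts [h1 ▸ one_mem _, e x hx h1 ▸ mem_zpowers _])
  rw [h.card, bk_card2 h.tt h.t1] at this
  omega

theorem bl_pt (gt : g * t = t * g) {i j l : Fin 4} (h1 : ∀ x ∈ R i, g * x * g⁻¹ ∈ R j)
    (h2 : ∀ x ∈ R i, g * x * g⁻¹ ∈ R l) : j = l := by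
  by_contra e
  obtain ⟨x, hx, x1, x2⟩ := h.exists_nc i
  rcases h.inter e (h1 x hx) (h2 x hx) with e1 | e1
  · exact x1 (conj_eq_one_iff.mp e1)
  · exact x2 (mul_left_cancel ((mul_inv_eq_iff_eq_mul.mp e1).trans gt.symm))

theorem bl_uniq (gt : g * t = t * g) (h1 : Bl R g σ) (h2 : Bl R g τ) : σ = τ :=
  Equiv.ext fun i => h.bl_pt gt (h1 i) (h2 i)

theorem bl_fix (gt : g * t = t * g) (h1 : Bl R g σ) {i : Fin 4} (h2 : g ∈ normalizer (R i : Set G)) :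
    σ i = i := h.bl_pt gt (h1 i) fun _ => conj_mem_of_mem_normalizer h2

theorem bl_inv (h1 : Bl R g σ) : Bl R g⁻¹ σ⁻¹ := fun i x hx => by
  have h2 : MulAut.conj g • R (σ⁻¹ i) = R i := eq_of_le_of_card_ge (by
    rintro _ ⟨y, hy, rfl⟩
    simpa using h1 _ y hy) (by rw [card_conj_smul, h.card, h.card])
  rw [inv_inv]
  exact Local.mem_conj_smul_iff.mp (h2 ▸ hx)

theorem bl_E (hg : g ∈ ⨆ i, R i) : Bl R g 1 := fun i x hx => by
  rcases h.sup.1.cm g hg x (le_iSup R i hx) with e | e <;> rw [e]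
  · simpa using hx
  · rw [mul_assoc x, h.sup.1.ct g hg, ← mul_assoc, mul_inv_cancel_right]
    exact mul_mem hx (h.tR i)

theorem tr_E (hg : g ∈ ⨆ i, R i) (i : Fin 4) : g ∈ TrS h.tt (R i) :=
  ⟨h.sup.1.ct g hg, fun x hx => (h.sup.1.cm g hg x (le_iSup R i hx)).imp
    (fun e => by rw [e, mul_inv_cancel_right]) fun e => by
      rw [e, mul_assoc x, h.sup.1.ct g hg, ← mul_assoc, mul_inv_cancel_right]⟩

theorem cmD : ∀ x ∈ R 0 ⊔ R 1, ∀ y ∈ R 2 ⊔ R 3, x * y = y * x := fun x hx y hy => by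
  obtain ⟨a, ha, b, hb, rfl⟩ := mem_sup_cm (h.cm 0 1 (by decide)) hx
  obtain ⟨c, hc, d, hd, rfl⟩ := mem_sup_cm (h.cm 2 3 (by decide)) hy
  exact (Commute.mul_left
    (Commute.mul_right (h.cm 0 2 (by decide) _ ha _ hc) (h.cm 0 3 (by decide) _ ha _ hd))
    (Commute.mul_right (h.cm 1 2 (by decide) _ hb _ hc) (h.cm 1 3 (by decide) _ hb _ hd))).eq

theorem D01 : Ex t (R 0 ⊔ R 1) ∧ Nat.card ↥(R 0 ⊔ R 1) = 32 := by
  obtain ⟨a1, a2, -⟩ := (h.ex 0).sup (h.ex 1) h.t1 (h.cm 0 1 (by decide))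
  rw [h.card, h.card] at a2
  exact ⟨a1, by omega⟩

theorem D23 : Ex t (R 2 ⊔ R 3) ∧ Nat.card ↥(R 2 ⊔ R 3) = 32 := by
  obtain ⟨a1, a2, -⟩ := (h.ex 2).sup (h.ex 3) h.t1 (h.cm 2 3 (by decide))
  rw [h.card, h.card] at a2
  exact ⟨a1, by omega⟩

omit h [Finite G] in
theorem E_dec (R : Fin 4 → Subgroup G) : ⨆ i, R i = (R 0 ⊔ R 1) ⊔ (R 2 ⊔ R 3) := le_antisymm (iSup_le fun i => by
    fin_cases i
    exacts [le_sup_of_le_left le_sup_left, le_sup_of_le_left le_sup_right,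
      le_sup_of_le_right le_sup_left, le_sup_of_le_right le_sup_right])
    (by simp only [sup_le_iff, le_iSup, and_self])

theorem mem23 {f : G} (hf : f ∈ ⨆ i, R i) (c : ∀ p ∈ R 0 ⊔ R 1, f * p = p * f) : f ∈ R 2 ⊔ R 3 := by
  obtain ⟨p, hp, r, hr, rfl⟩ := mem_sup_cm h.cmD ((E_dec R).le hf)
  refine mul_mem ?_ hr
  rcases h.D01.1.cen p hp fun y hy => mul_right_cancel (b := r) (by
    rw [mul_assoc, h.cmD y hy r hr, ← mul_assoc, c y hy, mul_assoc]) with rfl | rfl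
  exacts [one_mem _, h.D23.1.tD]

theorem z8 (bx : Bl R x (Equiv.swap 2 3)) {r : G} (hr : r ∈ R 2 ⊔ R 3)
    (e : x * r * x⁻¹ = r ∨ x * r * x⁻¹ = r * t) :
    ∃ q ∈ R 2, ∃ τ, (τ = 1 ∨ τ = t) ∧ r = q * (x * q * x⁻¹) * τ := by
  obtain ⟨a, ha, b, hb, rfl⟩ := mem_sup_cm (h.cm 2 3 (by decide)) hr
  have h1 : x * a * x⁻¹ ∈ R 3 := bx 2 a ha
  have h2 : x * b * x⁻¹ ∈ R 2 := bx 3 b hb
  rw [← conj_mul, ← h.cm 2 3 (by decide) _ h2 _ h1] at e
  refine ⟨a, ha, (x * a * x⁻¹)⁻¹ * b, h.inter (i := 2) (j := 3) (by decide) ?_ (mul_mem (inv_mem h1) hb),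
    by group⟩
  generalize x * a * x⁻¹ = u at h1 e
  generalize x * b * x⁻¹ = v at h2 e
  have h3 : a⁻¹ * v ∈ R 2 := mul_mem (inv_mem ha) h2
  have c := h.cm 2 3 (by decide) _ h3 _ h1
  rcases e with e | e
  · rwa [show b = a⁻¹ * v * u by rw [mul_assoc, e, inv_mul_cancel_left], c, inv_mul_cancel_left]
  · rw [show b = a⁻¹ * v * u * t⁻¹ by rw [mul_assoc a⁻¹, e]; group, c, mul_assoc, inv_mul_cancel_left]
    exact mul_mem h3 (inv_mem (h.tR 2))

theorem z8' (xx : x * x = 1) (xt : x * t = t * x) (bx : Bl R x (Equiv.swap 2 3)) {r : G}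
    (hr : r ∈ R 2 ⊔ R 3) (e : x * r * x⁻¹ = r ∨ x * r * x⁻¹ = r * t) : x * r * x⁻¹ = r := by
  obtain ⟨q, hq, τ, hτ, rfl⟩ := h.z8 bx hr e
  have h1 : x * τ * x⁻¹ = τ := by
    rcases hτ with rfl | rfl
    exacts [by simp, by rw [xt, mul_inv_cancel_right]]
  rw [← conj_mul, ← conj_mul, h1, h.cm 2 3 (by decide) _ hq _ (bx 2 q hq),
    show x * (x * q * x⁻¹) * x⁻¹ = x * x * q * (x * x)⁻¹ by group, xx, one_mul, inv_one, mul_one]

theorem cnt (xx : x * x = 1) (xt : x * t = t * x) (bx : Bl R x (Equiv.swap 2 3)) {Y : Subgroup G}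
    (hY : Y ≤ ⨆ i, R i) (hc : Y ≤ centralizer {x}) (h128 : 128 ≤ Nat.card Y) :
    ∀ p ∈ R 0 ⊔ R 1, x * p = p * x := by
  by_contra! e
  obtain ⟨p, hp, e⟩ := e
  have tx : t ∈ centralizer {x} := mem_centralizer_singleton_iff.mpr xt.symm
  have h1 := bk_lt (inf_le_left : (R 0 ⊔ R 1) ⊓ centralizer {x} ≤ _) hp fun e' =>
    e (mem_centralizer_singleton_iff.mp e'.2).symm
  have h2 : Nat.card ↥((R 2 ⊔ R 3) ⊓ centralizer {x}) ≤ 8 := by
    have a1 := card_sup_mul_card_inf (A := (R 2 ⊔ R 3) ⊓ centralizer {x}) (N := R 2) fun y hy =>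
      (h.bl_E ((E_dec R).ge (mem_sup_right hy.1))).norm rfl
    have a2 := card_le_of_le (show R 2 ⊔ (R 2 ⊔ R 3) ⊓ centralizer {x} ≤ R 2 ⊔ R 3 from
      sup_le le_sup_left inf_le_left)
    have a3 := card_le_of_le (show R 2 ⊓ ((R 2 ⊔ R 3) ⊓ centralizer {x}) ≤ zpowers t from fun y hy => by
      have := bx 2 y hy.1
      rw [← mem_centralizer_singleton_iff.mp hy.2.2, mul_inv_cancel_right] at this
      rcases h.inter (i := 2) (j := 3) (by decide) hy.1 this with rfl | rfl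
      exacts [one_mem _, mem_zpowers _])
    rw [bk_card2 h.tt h.t1] at a3
    rw [h.D23.2] at a2
    rw [h.card] at a1
    nlinarith
  have h3 : Y ≤ (R 0 ⊔ R 1) ⊓ centralizer {x} ⊔ (R 2 ⊔ R 3) ⊓ centralizer {x} := fun y hy => by
    obtain ⟨p, hp, r, hr, rfl⟩ := mem_sup_cm h.cmD ((E_dec R).le (hY hy))
    have c := mem_centralizer_singleton_iff.mp (hc hy)
    have n1 : x * p * x⁻¹ ∈ R 0 ⊔ R 1 := conj_mem_of_mem_normalizer
      (le_normalizer_sup (A := zpowers x) (zpowers_le.mpr (bx.norm (by decide)))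
        (zpowers_le.mpr (bx.norm (by decide))) (mem_zpowers x)) hp
    have n2 : x * r * x⁻¹ ∈ R 2 ⊔ R 3 := by
      obtain ⟨a, ha, b, hb, rfl⟩ := mem_sup_cm (h.cm 2 3 (by decide)) hr
      rw [← conj_mul]
      exact mul_mem (mem_sup_right (bx 2 a ha)) (mem_sup_left (bx 3 b hb))
    have e1 : r⁻¹ * (x * r * x⁻¹) = r⁻¹ * ((x * p * x⁻¹)⁻¹ * p) * r := by
      calc _ = r⁻¹ * (x * p * x⁻¹)⁻¹ * (x * (p * r) * x⁻¹) := by group
        _ = _ := by rw [← c]; group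
    have m1 := mul_mem (inv_mem n1) hp
    rw [mul_assoc r⁻¹, h.cmD _ m1 _ hr, inv_mul_cancel_left] at e1
    have e2 := h.z8' xx xt bx hr ((h.D23.1.cen _ (mul_mem (inv_mem hr) n2) fun y hy => by
      rw [e1]; exact h.cmD _ m1 _ hy).imp (fun e => (inv_mul_eq_one.mp e).symm)
        inv_mul_eq_iff_eq_mul.mp)
    have e3 : r ∈ centralizer {x} := mem_centralizer_singleton_iff.mpr (mul_inv_eq_iff_eq_mul.mp e2).symm
    exact mul_mem (mem_sup_left ⟨hp, (mul_mem_cancel_right e3).mp (hc hy)⟩) (mem_sup_right ⟨hr, e3⟩)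
  have h4 := card_sup_mul_card_inf (N := (R 0 ⊔ R 1) ⊓ centralizer {x})
    (A := (R 2 ⊔ R 3) ⊓ centralizer {x}) fun y hy => mem_normalizer_of_conj_mem fun a ha => by
      rwa [← h.cmD a ha.1 y hy.1, mul_inv_cancel_right]
  have h5 := card_le_of_le (zpowers_le.mpr (show t ∈ (R 0 ⊔ R 1) ⊓ centralizer {x} ⊓
    ((R 2 ⊔ R 3) ⊓ centralizer {x}) from ⟨⟨h.D01.1.tD, tx⟩, h.D23.1.tD, tx⟩))
  have h6 := card_le_of_le h3
  rw [bk_card2 h.tt h.t1] at h5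
  rw [h.D01.2] at h1
  nlinarith

theorem card_F (xx : x * x = 1) (xt : x * t = t * x) (bx : Bl R x (Equiv.swap 2 3))
    (c : ∀ p ∈ R 0 ⊔ R 1, x * p = p * x) : 128 ≤ Nat.card ↥((⨆ i, R i) ⊓ centralizer {x}) := by
  have a1 := card_sup_mul_card_inf (A := (⨆ i, R i) ⊓ centralizer {x}) (N := R 2) fun y hy =>
    (h.bl_E hy.1).norm rfl
  have a2 := card_le_of_le (show ⨆ i, R i ≤ R 2 ⊔ (⨆ i, R i) ⊓ centralizer {x} from fun y hy => by
    obtain ⟨p, hp, r, hr, rfl⟩ := mem_sup_cm h.cmD ((E_dec R).le hy)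
    obtain ⟨a, ha, b, hb, rfl⟩ := mem_sup_cm (h.cm 2 3 (by decide)) hr
    have h2 : x * b * x⁻¹ ∈ R 2 := bx 3 b hb
    refine mul_mem (mem_sup_right ⟨(E_dec R).ge (mem_sup_left hp), mem_centralizer_singleton_iff.mpr
      (c p hp).symm⟩) ?_
    rw [show a * b = a * (x * b * x⁻¹)⁻¹ * (x * b * x⁻¹ * b) by group]
    refine mul_mem (mem_sup_left (mul_mem ha (inv_mem h2))) (mem_sup_right
      ⟨mul_mem (le_iSup R 2 h2) (le_iSup R 3 hb), mem_centralizer_singleton_iff.mpr ?_⟩)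
    nth_rewrite 1 [h.cm 2 3 (by decide) _ h2 _ hb]
    rw [inv_eq_of_mul_eq_one_right xx]
    calc _ = b * x * b * (x * x) := by group
      _ = x * x * (b * x * b) := by rw [xx]; group
      _ = _ := by group)
  have a3 := card_le_of_le (zpowers_le.mpr (show t ∈ R 2 ⊓ ((⨆ i, R i) ⊓ centralizer {x}) from
    ⟨h.tR 2, h.sup.1.tD, mem_centralizer_singleton_iff.mpr xt.symm⟩))
  rw [bk_card2 h.tt h.t1] at a3
  rw [h.sup.2.1] at a2
  rw [h.card] at a1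
  nlinarith

end QF

end Cfsg.Agent.O83
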