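import Cfsg.Agent.O83.BsMp
import Cfsg.Agent.P43.Gen

/-! The abelian subgroup of order `81`. -/

set_option autoImplicit false
set_option linter.unusedSectionVars false
set_option maxRecDepth 100000
set_option synthInstance.maxSize 4000

namespace Cfsg.Agent.O83.Bs

open Subgroup Cfsg.Agent.Local Cfsg.Agent.L43 Cfsg.Agent.P43
open scoped Pointwise

variable {G : Type*} [Group G] [Finite G]

/-- The elements centralising `z`, and `c` modulo `z`. -/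
def St (z c : G) : Subgroup G where
  carrier := {g | g * z = z * g ∧ g * c * g⁻¹ * c⁻¹ ∈ zpowers z}
  one_mem' := ⟨by simp, by simp⟩
  mul_mem' := fun {x y} hx hy => ⟨cm_mul hx.1 hy.1, by
    convert mul_mem hy.2 hx.2 using 1
    nth_rewrite 1 [← cj_of_cm (cm_zp hx.1 hy.2)]
    group⟩
  inv_mem' := fun {x} hx => ⟨cm_inv hx.1, by
    convert inv_mem hx.2 using 1
    rw [← cj_of_cm (cm_zp (cm_inv hx.1) (inv_mem hx.2))]
    group⟩

theorem St.of {z c g : G} (h1 : g * z = z * g) (h2 : g * c = c * g) : g ∈ St z c := ⟨h1, by simp [h2]⟩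

/-- The subgroup `J`. -/
def Jc (z c w : G) : Subgroup G := centralizer {z, c, w}

theorem mem_Jc {z c w g : G} : g ∈ Jc z c w ↔ g * z = z * g ∧ g * c = c * g ∧ g * w = w * g := by
  simp only [Jc, mem_centralizer_iff, Set.mem_insert_iff, Set.mem_singleton_iff, forall_eq_or_imp, forall_eq,
    @eq_comm _ (g * _)]

theorem Jc_cm {z c w g l : G} (hg : g ∈ Jc z c w) (hl : l ∈ closure {z, c, w}) : g * l = l * g :=
  ((centralizer_closure _).ge hg l hl).symm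

theorem Jc_norm {z c w n : G} (h1 : n * z * n⁻¹ ∈ closure {z, c, w}) (h2 : n * c * n⁻¹ ∈ closure {z, c, w})
    (h3 : n * w * n⁻¹ ∈ closure {z, c, w}) : n ∈ normalizer (Jc z c w : Set G) :=
  inv_mem_iff.mp (mem_normalizer_of_conj_mem fun g hg => by
    have k : ∀ x, n * x * n⁻¹ ∈ closure {z, c, w} → n⁻¹ * g * n⁻¹⁻¹ * x = x * (n⁻¹ * g * n⁻¹⁻¹) := fun x hx =>
      calc _ = n⁻¹ * (g * (n * x * n⁻¹)) * n := by group
        _ = _ := by rw [Jc_cm hg hx]; group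
    exact mem_Jc.mpr ⟨k z h1, k c h2, k w h3⟩)

theorem cm_root {x g : G} (h3 : x ^ 3 = 1) {n : ℕ} (h1 : n < 3) (h0 : n ≠ 0) {H : Subgroup G} (h : x ^ n ∈ H) :
    x ∈ H := by
  obtain rfl | rfl : n = 1 ∨ n = 2 := by omega
  · rwa [pow_one] at h
  · rwa [eq_inv_of_mul_eq_one_left ((pow_succ x 2).symm.trans h3), inv_mem_iff] at h

namespace Hy

variable {z p q e g : G} {Q K : Subgroup G} {φ : G → SL23} (h : Hy z Q K φ)
include h

theorem St_of (hg : g * z = z * g) (hq : q ∈ Q) (e : ∀ r ∈ Q, om z (g * q * g⁻¹) r = om z q r) : g ∈ St z q :=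
  ⟨hg, h.zeq (h.nC hg hq) hq e⟩

theorem St_om (hq : q ∈ Q) (hg : g ∈ St z q) (hp : p ∈ Q) : om z (g * q * g⁻¹) p = om z q p := by
  have := h.omZ hg.2 hp
  rwa [h.omL (h.nC hg.1 hq) (inv_mem hq) hp, h.invL hq hp, add_neg_eq_zero] at this

theorem St_Q (hq : q ∈ Q) (hp : p ∈ Q) : p ∈ St z q := ⟨h.le p hp, h.com p hp q hq⟩

theorem cjz (hp : p ∈ Q) (p1 : p ∉ zpowers z) (he : e ∈ zpowers z) : ∃ b ∈ Q, b * p * b⁻¹ = e * p := by
  obtain ⟨b, hb, e1⟩ := h.exom hp p1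
  obtain ⟨k, rfl⟩ := h.zex he
  have := h.spec (pow_mem (inv_mem hb) k.val) hp
  rw [h.powL (inv_mem hb) hp, h.invL hb hp, ← h.anti hb hp, e1, mul_one, ZMod.natCast_zmod_val] at this
  exact ⟨_, pow_mem (inv_mem hb) k.val, mul_inv_eq_iff_eq_mul.mp this⟩

end Hy

/-- The frame attached to a mutual pair. -/
structure Fr (z w : G) (Q Q' K K' : Subgroup G) (φ φ' : G → SL23) (t c a y u : G) : Prop where
  H : Hf z Q K φ t
  M : Mp z w Q Q' K K' φ φ'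
  cQ : c ∈ Q
  aQ : a ∈ Q
  tc : t * c * t⁻¹ = c⁻¹
  ta : t * a = a * t
  ca : w = c * a
  yK : y ∈ K
  yQ : y ∈ Q'
  y1 : y ∉ Q
  yc : y * c = c * y
  uQ : u ∈ Q
  uQ' : u ∈ Q'
  yu : y * u * y⁻¹ = w * u
  uc : om z u c ≠ 0

theorem Mp.frame {z w t : G} {Q Q' K K' : Subgroup G} {φ φ' : G → SL23} (M : Mp z w Q Q' K K' φ φ')
    (h : Hf z Q K φ t) : ∃ c a y u, Fr z w Q Q' K K' φ φ' t c a y u := by
  obtain ⟨s, s1, s2, s3, u, u1, u2, su⟩ := M.exS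
  obtain ⟨c, hc, a, ha, tc, ta, ca⟩ := h.dec M.wQ
  obtain ⟨b, hb, d, hd, tb, td, bd⟩ := h.dec u1
  have sz := h.Kz s s2
  have ec := h.invE hc tc
  have ea := Ht.cmE1 (z := z) ha ta
  have eb := h.invE hb tb
  have ed := Ht.cmE1 (z := z) hd td
  have k1 := fun q (hq : q ∈ Q) => h.sep (h.EK s2 ec) ec (h.EK s2 ea) ea
    (by rw [conj_mul, ← ca, cj_of_cm (M.H'.le s s1)]) hq
  have k2 := fun q (hq : q ∈ Q) => h.sep (h.EK s2 eb) (h.Emul ec eb) (h.EK s2 ed) (h.Emul ea ed)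
    (by rw [conj_mul, ← bd, su, ca, bd, mul_assoc, mul_assoc, ← mul_assoc a, ← h.cm12 eb ea, mul_assoc]) hq
  have aux : ∀ {ε : ZMod 3} {x v : G}, ε ≠ 0 → Ei z Q t ε x → Ei z Q t ε v →
      (∀ q ∈ Q, om z (s * x * s⁻¹) q = om z x q) → (∀ q ∈ Q, om z (s * v * s⁻¹) q = om z (x * v) q) →
      om z v x = 0 → x ∈ zpowers z := fun {ε x v} he hx hv h1 h2 h3 => by
    by_contra hn
    obtain ⟨k, -, e⟩ := h.two' he hx hn hv h3
    refine hn ((h.memZ hx.1).mpr fun q hq => ?_)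
    have e1 := h.omZ e hq
    have e2 := h.omZ (by rwa [cj_of_cm (cm_zp sz e)] : s * (v * x ^ k) * s⁻¹ ∈ _) hq
    rw [← conj_mul, ← conj_pow, h.omL (h.nC sz hv.1) (pow_mem (h.nC sz hx.1) k) hq, h.powL (h.nC sz hx.1) hq,
      h1 q hq, h2 q hq, h.omL hx.1 hv.1 hq] at e2
    rw [h.omL hv.1 (pow_mem hx.1 k) hq, h.powL hx.1 hq] at e1
    linear_combination e2 - e1
  have uc : om z u c ≠ 0 := fun e => M.w1 (by
    have e1 := (h.om0 u1 M.wQ).mpr (M.H'.le u u2)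
    rw [ca, h.omR u1 hc ha, e, zero_add, bd, h.omL hb hd ha, (h.om0 hb ha).mpr (h.cm12 eb ea), zero_add] at e1
    rw [bd, h.omL hb hd hc, (h.om0 hd hc).mpr (h.cm12 ec ed).symm, add_zero] at e
    exact ca ▸ mul_mem (aux (by decide) ec eb (fun q hq => (k1 q hq).1) (fun q hq => (k2 q hq).1) e)
      (aux one_ne_zero ea ed (fun q hq => (k1 q hq).2) (fun q hq => (k2 q hq).2) e1))
  have e1 := h.zeq (h.nC sz hc) hc fun q hq => (k1 q hq).1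
  obtain ⟨j, e2⟩ := h.zex (inv_mem e1)
  obtain ⟨k, e3⟩ := (by decide : ∀ x j : ZMod 3, x ≠ 0 → ∃ k : Fin 3, (k.1 : ℕ) * x = j) _ j uc
  have e4 := h.spec (pow_mem u1 k.1) hc
  rw [h.powL u1 hc, e3, ← e2] at e4
  refine ⟨c, a, u ^ k.1 * s, u, h, M, hc, ha, tc, ta, ca, mul_mem (h.QK (pow_mem u1 _)) s2, mul_mem (pow_mem u2 _) s1,
    fun e => s3 ((mul_mem_cancel_left (pow_mem u1 _)).mp e), cm_of_cj ?_, u1, u2, ?_, uc⟩
  · have e5 := cj_of_cm (cm_zp (h.le _ (pow_mem u1 k.1)) e1)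
    generalize u ^ k.1 = v at e4 e5
    calc _ = v * (s * c * s⁻¹ * c⁻¹) * v⁻¹ * (v * c * v⁻¹ * c⁻¹) * c := by group
      _ = _ := by rw [e4, e5]; group
  · rw [cj_mul', su, ← conj_mul, cj_of_cm (cm_pow (M.H'.le u u2) _), cj_of_cm (Commute.pow_self u _).eq]

namespace Fr

variable {z w t c a y u g k q : G} {Q Q' K K' : Subgroup G} {φ φ' : G → SL23}
  (F : Fr z w Q Q' K K' φ φ' t c a y u)
include F

theorem ec : Ei z Q t (-1) c := F.H.invE F.cQ F.tc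

theorem ea : Ei z Q t 1 a := Ht.cmE1 F.aQ F.ta

theorem cac : c * a = a * c := F.H.cm12 F.ec F.ea

theorem c1 : c ∉ zpowers z := fun e => F.uc (by rw [F.H.anti F.cQ F.uQ, F.H.omZ e F.uQ, neg_zero])

theorem a1 : a ∉ zpowers z := fun e => F.uc (by
  have e1 := (F.H.om0 F.uQ F.M.wQ).mpr (F.M.H'.le u F.uQ')
  rwa [F.ca, F.H.omR F.uQ F.cQ F.aQ, F.H.anti F.aQ F.uQ, F.H.omZ e F.uQ, neg_zero, add_zero] at e1)

theorem noE {ε : ZMod 3} (he : ε ≠ 0) : ¬ Ei z Q t ε w := fun e => by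
  have h := F.H
  rcases (by decide : ∀ e : ZMod 3, e ≠ 0 → e = 1 ∨ e = -1) ε he with rfl | rfl
  · exact F.c1 ((h.memZ F.cQ).mpr fun q hq => (h.sep F.ec (h.EZ (one_mem _)) F.ea e
      (by rw [one_mul, F.ca]) hq).1.trans (h.omZ (one_mem _) hq))
  · exact F.a1 ((h.memZ F.aQ).mpr fun q hq => (h.sep F.ec e F.ea (h.EZ (one_mem _))
      (by rw [mul_one, F.ca]) hq).2.trans (h.omZ (one_mem _) hq))

theorem cw : c * w = w * c := by rw [F.ca, mul_assoc, F.cac]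

theorem aeq : a = c⁻¹ * w := by rw [F.ca, inv_mul_cancel_left]

theorem y3 : y ^ 3 = 1 := F.M.H'.exp y F.yQ

theorem yJ : y ∈ Jc z c w := mem_Jc.mpr ⟨F.H.Kz y F.yK, F.yc, F.M.H'.le y F.yQ⟩

theorem zJ : z ∈ Jc z c w := mem_Jc.mpr ⟨rfl, (F.H.le c F.cQ).symm, (F.H.le w F.M.wQ).symm⟩

theorem cJ : c ∈ Jc z c w := mem_Jc.mpr ⟨F.H.le c F.cQ, rfl, F.cw⟩

theorem wJ : w ∈ Jc z c w := mem_Jc.mpr ⟨F.H.le w F.M.wQ, F.cw.symm, rfl⟩

theorem aJ : a ∈ Jc z c w := F.aeq ▸ mul_mem (inv_mem F.cJ) F.wJ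

theorem LJ : closure {z, c, w} ≤ Jc z c w := (closure_le _).mpr (by
  rintro _ (rfl | rfl | rfl)
  exacts [F.zJ, F.cJ, F.wJ])

theorem LQ : closure {z, c, w} ≤ Q := (closure_le _).mpr (by
  rintro _ (rfl | rfl | rfl)
  exacts [F.H.zQ, F.cQ, F.M.wQ])

omit F in
theorem Ja (hg : g ∈ Jc z c w) : g * (c⁻¹ * w) = c⁻¹ * w * g :=
  (cm_mul (cm_inv (mem_Jc.mp hg).2.1.symm) (mem_Jc.mp hg).2.2.symm).symm

theorem faith' {r : G} (rK : r ∈ K) (r1 : r ∉ Q) (r3 : r ^ 3 = 1) (rc : r * c = c * r) (hk : k ∈ K)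
    (e : k ∈ St z c) : ∃ n < 3, k * r ^ n ∈ Q := by
  have h := F.H
  obtain ⟨n, hn, e1⟩ := (by decide : ∀ σ : SL23, σ ^ 3 = 1 → σ ≠ 1 → ∀ τ, ∃ n < 3, τ * σ ^ n = 1 ∨
    ∃ m < 3, (τ * σ ^ n) ^ m = -1) (φ r) (by rw [← h.phi_pow rK, r3, h.phi_one]) (fun e => r1 ((h.ker r rK).mp e)) (φ k)
  have h1 := mul_mem hk (pow_mem rK n)
  rw [← h.phi_pow rK, ← h.mul _ hk _ (pow_mem rK n)] at e1
  refine ⟨n, hn, (h.ker _ h1).mp (e1.resolve_right fun ⟨m, _, e2⟩ => F.c1 ((h.memZ F.cQ).mpr fun q hq => z3_half ?_))⟩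
  exact (h.St_om F.cQ (pow_mem (mul_mem e (pow_mem (St.of (h.Kz r rK) rc) n)) m) hq).symm.trans
    ((h.omT (pow_mem h1 m) ((h.phi_pow h1 m).trans e2) F.ec hq).trans (neg_one_mul _))

theorem faith (hk : k ∈ K) (e : k ∈ St z c) : ∃ n < 3, k * y ^ n ∈ Q := F.faith' F.yK F.y1 F.y3 F.yc hk e

theorem star (hk : k ∈ K) (k1 : k ∉ Q) (e : k ∈ St z c) (hq : q ∈ Q) (kq : k * q = q * k) :
    om z q c = 0 ∧ om z q a = 0 := by
  have h := F.H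
  have yz := h.Kz y F.yK
  obtain ⟨n, hn, e1⟩ := F.faith hk e
  have h1 : y ∈ St z q := cm_root (g := y) F.y3 hn (fun e => k1 (by simpa [e] using e1))
    ((mul_mem_cancel_left (St.of e.1 kq)).mp (h.St_Q hq e1))
  obtain ⟨b, hb, d, hd, tb, td, bd⟩ := h.dec F.uQ
  have eb := h.invE hb tb
  have ed := Ht.cmE1 (z := z) hd td
  obtain ⟨e2, e3⟩ := h.sep (h.EK F.yK eb) (h.Emul F.ec eb) (h.EK F.yK ed) (h.Emul F.ea ed)
    (by rw [conj_mul, ← bd, F.yu, F.ca, bd, mul_assoc, mul_assoc, ← mul_assoc a, ← h.cm12 eb F.ea, mul_assoc])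
    (h.nC yz hq)
  have k : ∀ p ∈ Q, om z p (y * q * y⁻¹) = om z p q := fun p hp => by
    rw [h.anti (h.nC yz hq) hp, h.St_om hq h1 hp, ← h.anti hq hp]
  rw [h.omC yz hb hq, k _ (mul_mem F.cQ hb), h.omL F.cQ hb hq] at e2
  rw [h.omC yz hd hq, k _ (mul_mem F.aQ hd), h.omL F.aQ hd hq] at e3
  rw [h.anti F.cQ hq, h.anti F.aQ hq]
  exact ⟨by linear_combination e2, by linear_combination e3⟩

theorem memL (hq : q ∈ Q) (qc : om z q c = 0) (qa : om z q a = 0) : ∃ i < 3, ∃ j < 3, q * w ^ j * c ^ i ∈ zpowers z := by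
  have h := F.H
  obtain ⟨b, hb, d, hd, tb, td, rfl⟩ := h.dec hq
  have eb := h.invE hb tb
  have ed := Ht.cmE1 (z := z) hd td
  rw [h.omL hb hd F.cQ, (h.om0 hd F.cQ).mpr (h.cm12 F.ec ed).symm, add_zero] at qc
  rw [h.omL hb hd F.aQ, (h.om0 hb F.aQ).mpr (h.cm12 eb F.ea), zero_add] at qa
  obtain ⟨j, hj, e1⟩ := h.two' one_ne_zero F.ea F.a1 ed qa
  have h1 := h.Emul eb (h.Epow F.ec j)
  obtain ⟨i, hi, e2⟩ := h.two' (by decide) F.ec F.c1 h1 (by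
    rw [h.omL hb (pow_mem F.cQ j) F.cQ, h.powL F.cQ F.cQ, h.omS F.cQ, qc]; ring)
  refine ⟨i, hi, j, hj, ?_⟩
  convert mul_mem e2 e1 using 1
  have c1 : Commute c d := h.cm12 F.ec ed
  have c2 : Commute c a := F.cac
  rw [F.ca, c2.mul_pow]
  simp only [mul_assoc]
  rw [← (c2.pow_pow i j).eq, ← mul_assoc d, ← (c1.pow_left j).eq, mul_assoc, ← mul_assoc d, ← (c1.pow_left i).eq,
    mul_assoc]

theorem memL' (hq : q ∈ Q) (qc : om z q c = 0) (qa : om z q a = 0) : q ∈ closure {z, c, w} := by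
  obtain ⟨i, -, j, -, e⟩ := F.memL hq qc qa
  have h1 : z ∈ closure {z, c, w} := subset_closure (by simp)
  have h2 : c ∈ closure {z, c, w} := subset_closure (by simp)
  have h3 : w ∈ closure {z, c, w} := subset_closure (by simp)
  exact (mul_mem_cancel_right (pow_mem h3 j)).mp ((mul_mem_cancel_right (pow_mem h2 i)).mp (zpowers_le.mpr h1 e))

theorem memLJ (hq : q ∈ Q) (hg : q ∈ Jc z c w) : q ∈ closure {z, c, w} :=
  F.memL' hq ((F.H.om0 hq F.cQ).mpr (mem_Jc.mp hg).2.1) ((F.H.om0 hq F.aQ).mpr (F.aeq ▸ Ja hg))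

theorem JK (hg : g ∈ Jc z c w) : g ∈ K := by
  have h := F.H
  obtain ⟨gz, gc, -⟩ := mem_Jc.mp hg
  obtain ⟨v, -, vz, h1, h2, rfl | h3, -⟩ := h.exists_w
  · simpa using h1 g gz
  refine (h1 g gz).resolve_right fun e => F.a1 ((h.memZ F.aQ).mpr fun q hq => z3_half ?_)
  obtain ⟨n, -, e1⟩ := F.faith e (St.of (cm_mul gz vz) (cm_mul gc (h2 c F.ec)))
  have e2 := h.omQ e1 F.aQ hq
  rw [cj_mul', cj_of_cm (cm_pow (F.aeq ▸ Ja F.yJ) n), cj_mul', h.omC' gz (h.nC vz F.aQ) hq, h3 a F.ea _ (h.nC2 gz hq),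
    ← h.omC' gz F.aQ hq, cj_of_cm (F.aeq ▸ Ja hg)] at e2
  linear_combination -e2

theorem memJ' {r : G} (rJ : r ∈ Jc z c w) (r1 : r ∉ Q) (r3 : r ^ 3 = 1) (hg : g ∈ Jc z c w) :
    ∃ n < 3, g * r ^ n ∈ closure {z, c, w} :=
  let ⟨n, hn, e⟩ := F.faith' (F.JK rJ) r1 r3 (mem_Jc.mp rJ).2.1 (F.JK hg) (St.of (mem_Jc.mp hg).1 (mem_Jc.mp hg).2.1)
  ⟨n, hn, F.memLJ e (mul_mem hg (pow_mem rJ n))⟩

theorem Jcomm (g : G) (hg : g ∈ Jc z c w) (k : G) (hk : k ∈ Jc z c w) : g * k = k * g := by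
  have key : ∀ g ∈ Jc z c w, ∀ k ∈ Jc z c w, y * k = k * y → g * k = k * g := fun g hg k hk e => by
    obtain ⟨n, -, e1⟩ := F.memJ' F.yJ F.y1 F.y3 hg
    simpa using cm_mul (Jc_cm hk e1).symm (cm_inv (cm_pow e n))
  exact key g hg k hk (key k hk y F.yJ rfl).symm

theorem Jexp (hg : g ∈ Jc z c w) : g ^ 3 = 1 := by
  obtain ⟨n, -, e1⟩ := F.memJ' F.yJ F.y1 F.y3 hg
  have := F.H.exp _ (F.LQ e1)
  rwa [(show Commute g (y ^ n) from F.Jcomm _ hg _ (pow_mem F.yJ n)).mul_pow, ← pow_mul, mul_comm n, pow_mul, F.y3,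
    one_pow, mul_one] at this

theorem norm_of (gz : g * z = z * g) (h1 : om z (g * c * g⁻¹) c = 0) (h2 : om z (g * c * g⁻¹) a = 0)
    (h3 : om z (g * a * g⁻¹) c = 0) (h4 : om z (g * a * g⁻¹) a = 0) : g ∈ normalizer (Jc z c w : Set G) := by
  have h5 := F.memL' (F.H.nC gz F.cQ) h1 h2
  refine Jc_norm (by rw [cj_of_cm gz]; exact subset_closure (by simp)) h5 ?_
  nth_rewrite 2 [F.ca]
  rw [← conj_mul]
  exact mul_mem h5 (F.memL' (F.H.nC gz F.aQ) h3 h4)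

theorem omca : om z c a = 0 := (F.H.om0 F.cQ F.aQ).mpr F.cac

theorem omac : om z a c = 0 := (F.H.om0 F.aQ F.cQ).mpr F.cac.symm

theorem QN (hq : q ∈ Q) : q ∈ normalizer (Jc z c w : Set G) :=
  F.norm_of (F.H.le q hq) (by rw [F.H.omQ hq F.cQ F.cQ, F.H.omS F.cQ]) (by rw [F.H.omQ hq F.cQ F.aQ, F.omca])
    (by rw [F.H.omQ hq F.aQ F.cQ, F.omac]) (by rw [F.H.omQ hq F.aQ F.aQ, F.H.omS F.aQ])

theorem tN : t ∈ normalizer (Jc z c w : Set G) :=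
  F.norm_of F.H.tz (by rw [F.ec.2 _ F.cQ, F.H.omS F.cQ, mul_zero]) (by rw [F.ec.2 _ F.aQ, F.omca, mul_zero])
    (by rw [cj_of_cm F.ta, F.omac]) (by rw [cj_of_cm F.ta, F.H.omS F.aQ])

theorem exists_w : ∃ v ∈ normalizer (Jc z c w : Set G), v * z = z * v ∧ (∀ g, g * z = z * g → g ∈ K ∨ g * v ∈ K) ∧
    (∀ c, Ei z Q t (-1) c → v * c = c * v) ∧ ∀ g, E8 K t g → v * g = g * v := by
  have h := F.H
  obtain ⟨v, -, vz, h1, h2, h3, h4⟩ := h.exists_w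
  refine ⟨v, h3.elim (fun e => e ▸ one_mem _) fun h3 => F.norm_of vz ?_ ?_ ?_ ?_, vz, h1, h2, h4⟩
  · rw [cj_of_cm (h2 c F.ec), h.omS F.cQ]
  · rw [cj_of_cm (h2 c F.ec), F.omca]
  · rw [h3 a F.ea _ F.cQ, F.omac, mul_zero]
  · rw [h3 a F.ea _ F.aQ, h.omS F.aQ, mul_zero]

theorem sig {X : Subgroup G} (h1 : ¬ 3 ∣ Nat.card X) (h2 : Jc z c w ≤ normalizer (X : Set G)) (hg : g ∈ X)
    (gz : g * z = z * g) : g = 1 := by
  have k : ∀ x ∈ X, x ^ 3 = 1 → x = 1 := fun x hx e => by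
    by_contra hn
    exact h1 (orderOf_eq_prime e hn ▸ X.orderOf_dvd_natCard hx)
  have k1 : ∀ l ∈ Jc z c w, l ∈ Q → g * l = l * g := fun l hl lQ => by
    rw [← mul_inv_eq_iff_eq_mul, ← mul_inv_eq_one]
    refine k _ ?_ (F.H.exp _ (mul_mem (F.H.nC gz lQ) (inv_mem lQ)))
    simpa only [mul_assoc] using mul_mem hg (conj_mem_of_mem_normalizer (h2 hl) (inv_mem hg))
  exact k g hg (F.Jexp (mem_Jc.mpr ⟨gz, k1 c F.cJ F.cQ, k1 w F.wJ F.M.wQ⟩))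

theorem sylow : IsSylowIn 3 (K ⊓ St z c) ⊤ := by
  have h := F.H
  have σ3 : φ y ^ 3 = 1 := by rw [← h.phi_pow F.yK, F.y3, h.phi_one]
  have QS : Q ≤ K ⊓ St z c := fun q hq => ⟨h.QK hq, h.St_Q F.cQ hq⟩
  have yS : y ∈ K ⊓ St z c := ⟨F.yK, St.of (h.Kz y F.yK) F.yc⟩
  refine isSylowIn_of_maximal le_top (fun g => ⟨2, Subtype.ext ?_⟩) fun T hT h1 _ => ?_
  · obtain ⟨n, -, e⟩ := F.faith g.2.1 g.2.2
    rw [← h.ker _ (mul_mem g.2.1 (pow_mem F.yK n)), h.mul _ g.2.1 _ (pow_mem F.yK n), h.phi_pow F.yK] at e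
    rw [coe_pow, show 3 ^ 2 = 3 * 3 from rfl, pow_mul]
    refine h.exp _ ((h.ker _ (pow_mem g.2.1 3)).mp ?_)
    rw [h.phi_pow g.2.1, eq_inv_of_mul_eq_one_left e, inv_pow, ← pow_mul, mul_comm, pow_mul, σ3, one_pow, inv_one]
  by_contra hne
  obtain ⟨x, hx, h2, h3⟩ := exists_mem_normalizer_of_lt_of_isNilpotent hT.isNilpotent (lt_of_le_of_ne h1 (Ne.symm hne))
  have h4 := coprime_four_of_isPGroup hT hx
  have h5 : x * x * z = z * (x * x) := by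
    rcases mem_zpowers_three h.oz (h.cen (x * z * x⁻¹) fun q hq => by
      have := (inv_conj_mem_of_mem_normalizer h2 (QS hq)).2.1
      calc _ = x * (z * (x⁻¹ * q * x)) * x⁻¹ := by group
        _ = _ := by rw [← this]; group) with e | e | e
    · exact absurd h.oz (by simp [conj_eq_one_iff.mp e])
    · exact cm_mul (cm_of_cj e) (cm_of_cj e)
    · exact (odd9 e).1
  have h6 : x ∈ K := mem_of_pow_mem_of_coprime h4 (by
    convert h.sqK h5 using 1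
    rw [show 4 = 2 * 2 from rfl, pow_mul, pow_two, pow_two])
  have h7 := conj_mem_of_mem_normalizer h2 yS
  obtain ⟨n, hn, e⟩ := F.faith h7.1 h7.2
  rw [← h.ker _ (mul_mem h7.1 (pow_mem F.yK n)), h.mul _ h7.1 _ (pow_mem F.yK n), h.phi_pow F.yK,
    h.phi_cj h6 F.yK] at e
  obtain ⟨m, -, e1⟩ := (by decide : ∀ ρ : SL23, ρ ^ 3 = 1 → ρ ≠ 1 → ∀ σ, ∀ n < 3, σ * ρ * σ⁻¹ * ρ ^ n = 1 →
    ∃ m < 3, σ ^ 4 * ρ ^ m = 1) _ σ3 (fun e => F.y1 ((h.ker y F.yK).mp e)) _ n hn e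
  rw [← h.phi_pow h6, ← h.phi_pow F.yK, ← h.mul _ (pow_mem h6 4) _ (pow_mem F.yK m),
    h.ker _ (mul_mem (pow_mem h6 4) (pow_mem F.yK m))] at e1
  exact h3 (mem_of_pow_mem_of_coprime h4 ((mul_mem_cancel_right (pow_mem yS m)).mp (QS e1)))

theorem uniq {E : Subgroup G} (h1 : E ≤ K ⊓ St z c) (h2 : ∀ a ∈ E, ∀ b ∈ E, a * b = b * a) (h3 : Nat.card E = 81) :
    E ≤ Jc z c w := by
  have h := F.H
  have hc := h.card
  have m : ∀ {u v}, u ∈ Q → v ∈ Q → (u ∈ centralizer {v} ↔ om z u v = 0) := fun hu hv =>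
    mem_centralizer_singleton_iff.trans (h.om0 hu hv).symm
  by_cases hE : E ≤ Q
  · obtain ⟨p, hp, p1⟩ := SetLike.exists_of_lt (lt_of_le_of_ne hE fun e => by rw [e] at h3; omega)
    have k1 := h.index3 hE hp
    have k2 := card_le_of_le (show E ⊓ centralizer {p} ≤ zpowers z from fun x hx => h.cen x fun q hq => by
      have k3 := third (H := E) (K := Q ⊓ centralizer {x}) hc inf_le_left (fun b hb =>
        ⟨hE hb, mem_centralizer_singleton_iff.mpr (h2 b hb x hx.1)⟩)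
        ⟨hp, mem_centralizer_singleton_iff.mpr (mem_centralizer_singleton_iff.mp hx.2).symm⟩ p1
      exact (mem_centralizer_singleton_iff.mp
        ((eq_of_le_of_card_ge (inf_le_left (b := centralizer {x})) (by omega)).ge hq).2).symm)
    rw [Nat.card_zpowers, h.oz] at k2
    omega
  obtain ⟨k, hk, k1⟩ := SetLike.not_le_iff_exists.mp hE
  have k2 : E ⊓ Q ≤ Q ⊓ centralizer {c} ⊓ centralizer {a} := fun q hq =>
    let ⟨e1, e2⟩ := F.star (h1 hk).1 k1 (h1 hk).2 hq.2 (h2 k hk q hq.1)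
    ⟨⟨hq.2, (m hq.2 F.cQ).mpr e1⟩, (m hq.2 F.aQ).mpr e2⟩
  obtain ⟨d, hd, e⟩ := h.partner one_ne_zero F.ea F.a1
  have k3 := third (H := Q ⊓ centralizer {c}) hc le_rfl inf_le_left F.uQ fun e => F.uc ((m F.uQ F.cQ).mp e.2)
  have k4 := third (H := Q ⊓ centralizer {c} ⊓ centralizer {a}) hc inf_le_left inf_le_left
    ⟨hd.1, mem_centralizer_singleton_iff.mpr (h.cm12 F.ec hd).symm⟩ fun e' => e (by
      rw [h.anti hd.1 F.aQ, (m hd.1 F.aQ).mp e'.2, neg_zero])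
  have k5 : Nat.card E ≤ Nat.card ↥(E ⊓ Q) * 3 := by
    let f : E →* SL23 := MonoidHom.mk' (fun x => φ x) fun a b => h.mul _ (h1 a.2).1 _ (h1 b.2).1
    have e1 := f.ker.card_mul_index
    have e2 : f.ker = (E ⊓ Q).subgroupOf E := by
      ext x
      simp only [mem_subgroupOf, mem_inf, x.2, true_and, ← h.ker _ (h1 x.2).1]
      rfl
    have e3 := card_le_of_le (show f.range ≤ zpowers (φ y) by
      rintro _ ⟨x, rfl⟩
      obtain ⟨n, -, e⟩ := F.faith (h1 x.2).1 (h1 x.2).2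
      rw [← h.ker _ (mul_mem (h1 x.2).1 (pow_mem F.yK n)), h.mul _ (h1 x.2).1 _ (pow_mem F.yK n), h.phi_pow F.yK] at e
      exact (mul_mem_cancel_right (pow_mem (mem_zpowers _) n)).mp (e ▸ one_mem _))
    rw [index_ker, e2, Nat.card_congr (subgroupOfEquivOfLe inf_le_left).toEquiv] at e1
    rw [Nat.card_zpowers] at e3
    exact e1 ▸ Nat.mul_le_mul_left _ (e3.trans (orderOf_le_of_pow_eq_one (by norm_num) (by
      rw [← h.phi_pow F.yK, F.y3, h.phi_one])))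
  have k6 := (eq_of_le_of_card_ge k2 (by omega)).ge
  have k7 : ∀ l ∈ Jc z c w, l ∈ Q → l ∈ E := fun l hl lQ => (k6 ⟨⟨lQ, mem_centralizer_singleton_iff.mpr
    (mem_Jc.mp hl).2.1⟩, mem_centralizer_singleton_iff.mpr (F.aeq ▸ Ja hl)⟩).1
  exact fun g hg => mem_Jc.mpr ⟨h2 g hg z (k7 z F.zJ h.zQ), h2 g hg c (k7 c F.cJ F.cQ), h2 g hg w (k7 w F.wJ F.M.wQ)⟩

theorem wn (hc : Nat.card (Jc z c w) = 81) : WN (Jc z c w) ⊤ := fun g _ hg => by
  obtain ⟨n, hn, h1⟩ := (F.sylow.of_le (fun k hk => by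
      obtain ⟨n, -, e⟩ := F.faith hk.1 hk.2
      exact (mul_mem_cancel_right (le_normalizer (pow_mem F.yJ n))).mp (F.QN e)) le_top).exists_le_conj
    (Q := MulAut.conj g • Jc z c w) (IsPGroup.map (fun x => ⟨1, Subtype.ext (F.Jexp x.2)⟩) _)
    (by rintro _ ⟨j, hj, rfl⟩; exact hg j hj)
  have h2 := F.uniq (E := MulAut.conj (n⁻¹ * g) • Jc z c w) (by
    rintro _ ⟨j, hj, rfl⟩
    simpa [mul_assoc] using mem_conj_smul_iff.mp (h1 (conj_mem_conj_smul g hj))) (by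
    rintro _ ⟨a, ha, rfl⟩ _ ⟨b, hb, rfl⟩
    exact (map_mul _ _ _).symm.trans ((congrArg _ (F.Jcomm _ ha _ hb)).trans (map_mul _ _ _)))
    (by rw [card_conj_smul, hc])
  simpa using mul_mem hn (mem_normalizer_of_conj_mem fun j hj => h2 (conj_mem_conj_smul _ hj))

variable {t' c' a' y' u' : G} (F' : Fr w z Q' Q K' K φ' φ t' c' a' y' u')
include F'

theorem c1' : c' ∉ Q := fun e => F'.uc ((F'.H.om0 F'.uQ F'.cQ).mpr (F.M.comm F'.uQ' F'.uQ e F'.cQ))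

theorem cross : c' * c = c * c' := by
  have h := F.H
  have h1 : c' ∈ K := h.memK F'.cw (F'.H.exp _ F'.cQ)
  have h2 := F'.H.le _ F'.cQ
  obtain ⟨e1, e2⟩ := F.star h1 (F.c1' F') (h.St_of F'.cw F.cQ fun q hq => (h.sep (h.EK h1 F.ec) F.ec (h.EK h1 F.ea)
    F.ea (by rw [conj_mul, ← F.ca, cj_of_cm h2]) hq).1) F'.yQ F'.yc.symm
  obtain ⟨i, hi, j, -, e⟩ := F.memL F'.yQ e1 e2
  refine (mem_centralizer_singleton_iff.mp (cm_root (g := c) (h.exp c F.cQ) hi (fun e' => F'.y1 ?_)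
    ((mul_mem_cancel_left ?_).mp (mem_centralizer_singleton_iff.mpr (cm_zp F'.cw e).symm)))).symm
  · rw [e', pow_zero, mul_one] at e
    exact (mul_mem_cancel_right (pow_mem F'.H.zQ j)).mp (zpowers_le.mpr F'.M.wQ e)
  · exact mem_centralizer_singleton_iff.mpr (cm_mul F'.yc (cm_pow h2.symm j))

theorem cJ' : c' ∈ Jc z c w := mem_Jc.mpr ⟨F'.cw, F.cross F', F'.H.le _ F'.cQ⟩

theorem JJ : Jc z c w = Jc w c' z :=
  le_antisymm (fun g hg => mem_Jc.mpr ⟨F.Jcomm g hg _ F.wJ, F.Jcomm g hg _ (F.cJ' F'), F.Jcomm g hg _ F.zJ⟩)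
    fun g hg => mem_Jc.mpr ⟨F'.Jcomm g hg _ F'.wJ, F'.Jcomm g hg _ (F'.cJ' F), F'.Jcomm g hg _ F'.zJ⟩

end Fr

end Cfsg.Agent.O83.Bs
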