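import Cfsg.Agent.O83.BsFr

/-! The local data needed to introduce coordinates. -/

set_option autoImplicit false
set_option linter.unusedSectionVars false
set_option maxRecDepth 100000
set_option synthInstance.maxSize 4000

namespace Cfsg.Agent.O83.Bs

open Subgroup Cfsg.Agent.Local Cfsg.Agent.L43 Cfsg.Agent.P43

variable {G : Type*} [Group G] [Finite G]

/-- The local data. -/
structure Loc (z : G) (Q K : Subgroup G) (φ : G → SL23) (t : G) (J : Subgroup G) (r c i d : G) : Prop where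
  H : Hf z Q K φ t
  JK : J ≤ K
  comm : ∀ a ∈ J, ∀ b ∈ J, a * b = b * a
  cube : ∀ a ∈ J, a ^ 3 = 1
  zJ : z ∈ J
  QN : Q ≤ normalizer (J : Set G)
  tN : t ∈ normalizer (J : Set G)
  cen : ∀ g, (∀ j ∈ J, g * j = j * g) → g ∈ J
  wn : Nat.card J = 81 → WN J ⊤
  sig : ∀ X : Subgroup G, ¬ 3 ∣ Nat.card X → J ≤ normalizer (X : Set G) → ∀ g ∈ X, g * z = z * g → g = 1
  rJ : r ∈ J
  rq : r ∉ Q
  tr : t * r = r * t
  rz : IsConj z r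
  rz1 : ¬ IsConj z (r * z)
  rz2 : ¬ IsConj z (r * z⁻¹)
  noE : ∀ (g : G) (ε : ZMod 3), ε ≠ 0 → IsConj z g → Ei z Q t ε g → g ∈ zpowers z
  zi : IsConj z z⁻¹
  cQ : c ∈ Q
  cJ : c ∈ J
  tc : t * c * t⁻¹ = c⁻¹
  gen : ∀ a, Ei z Q t 1 a → a ∈ J → a ∉ zpowers z → ∀ b, Ei z Q t (-1) b → b ∈ J → b ∉ zpowers z →
    J ≤ closure {z, a, b, r}
  i8 : E8 K t i
  ii : φ i * φ i = -1
  gc : om z (i * c * i⁻¹) c ≠ 0
  dE : Ei z Q t 1 d
  k1 : om z (i * c * i⁻¹) (r * (i * c * i⁻¹) * r⁻¹) ≠ 0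
  k2 : om z (i * c * i⁻¹) (r * (i * c * i⁻¹) * r⁻¹) + om z d (r * d * r⁻¹) = 0
  exw : ∃ w ∈ J, w ∈ Q ∧ w ∉ zpowers z ∧ IsConj z w
  out : ∃ v ∈ normalizer (J : Set G), v * z = z * v ∧ (∀ g, g * z = z * g → g ∈ K ∨ g * v ∈ K) ∧
    (∀ c, Ei z Q t (-1) c → v * c = c * v) ∧ ∀ g, E8 K t g → v * g = g * v
  mv : ∃ n ∈ normalizer (J : Set G), ∃ b ∈ J, n * b = b * n ∧ b ≠ 1 ∧ ¬ IsConj z b ∧ n * z * n⁻¹ ∉ Q

namespace Hf

variable {z t c g q : G} {Q K : Subgroup G} {φ : G → SL23} (h : Hf z Q K φ t)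
include h

theorem noE {ε : ZMod 3} (he : ε ≠ 0) (h1 : IsConj z g) (h2 : Ei z Q t ε g) : g ∈ zpowers z := by
  by_contra hn
  obtain ⟨x, rfl⟩ := isConj_iff.mp h1
  obtain ⟨c, a, y, u, F⟩ := Mp.frame ⟨h.toHy, h.toHy.conj x, h2.1, hn⟩ h
  exact F.noE he h2

theorem perp (hc : Ei z Q t (-1) c) (hg : Ei z Q t (-1) g) (e : om z g c ≠ 0) (hq : Ei z Q t (-1) q)
    (h1 : om z q c = 0) (h2 : om z q g = 0) : q ∈ zpowers z := by
  obtain ⟨a, ha, a1⟩ := h.ex1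
  obtain ⟨b, hb, ab⟩ := h.partner one_ne_zero ha a1
  have k : ∀ {x y}, Ei z Q t (-1) x → Ei z Q t 1 y → om z x y = 0 := fun hx hy => (h.om0 hx.1 hy.1).mpr (h.cm12 hx hy)
  exact h.basis4 hg.1 hc.1 ha.1 hb.1 e ab (k hg ha) (k hg hb) (k hc ha) hq.1 h2 h1 (k hq ha) (k hq hb)

theorem exists_loc {x : G} (x1 : x * z * x⁻¹ ∈ Q) (x2 : x * z * x⁻¹ ∉ zpowers z) :
    ∃ J r c i d, Loc z Q K φ t J r c i d := by
  have h' := h.conj x
  have M : Mp z _ Q _ K _ _ _ := ⟨h.toHy, h'.toHy, x1, x2⟩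
  have wz : IsConj z (x * z * x⁻¹) := isConj_iff.mpr ⟨x, rfl⟩
  obtain ⟨c, a, y, u, F⟩ := M.frame h
  obtain ⟨c', a', y', u', F'⟩ := M.symm.frame h'
  generalize x * z * x⁻¹ = w at *
  generalize cq x Q = Q' at *
  generalize cq x K = K' at *
  generalize (fun g => φ (x⁻¹ * g * x)) = φ' at *
  generalize x * t * x⁻¹ = t' at *
  have cJ' := F.cJ' F'
  have c1' := F.c1' F'
  have c3 := h'.exp c' F'.cQ
  have tz' : t' * z * t'⁻¹ = c' * z := by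
    rw [F'.ca, ← conj_mul, F'.tc, cj_of_cm F'.ta, ← mul_assoc, inv_eq_of_mul_eq_one_left ((pow_three' _).symm.trans c3)]
  have r0 := mul_mem cJ' F.zJ
  have r0' := mul_mem F'.cQ F'.M.wQ
  obtain ⟨k, tr⟩ : ∃ k : ℕ, t * (w ^ k * (c' * z)) = w ^ k * (c' * z) * t := by
    have h1 : t * (c' * z) * t⁻¹ * (c' * z)⁻¹ ∈ Q := by simpa only [mul_inv_rev, mul_assoc] using h.tK' (F.JK r0)
    have h2 := mul_mem (conj_mem_of_mem_normalizer F.tN r0) (inv_mem r0)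
    have h3 : t * (t * (c' * z) * t⁻¹ * (c' * z)⁻¹) * t⁻¹ = (t * (c' * z) * t⁻¹ * (c' * z)⁻¹)⁻¹ := by
      rw [← conj_mul, ← cj_mul', h.tt]; group
    obtain ⟨k, -, e⟩ := h.two' (by decide) F.ec F.c1 (h.invE h1 h3) ((h.om0 h1 F.cQ).mpr (F.Jcomm _ h2 _ F.cJ))
    have h4 := cj_of_cm (cm_zp h.tz e)
    rw [← conj_mul (c := c ^ k), h3, ← conj_pow, F.tc, inv_pow, ← mul_inv_rev, ← F.Jcomm _ h2 _ (pow_mem F.cJ k),
      inv_eq_iff_mul_eq_one] at h4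
    have h5 := sq_cube h4 (h.exp _ (h.zle e))
    have h6 : t * w * t⁻¹ = c * w := by
      rw [F.ca, ← conj_mul, F.tc, cj_of_cm F.ta, ← mul_assoc,
        inv_eq_of_mul_eq_one_left ((pow_three' _).symm.trans (h.exp c F.cQ))]
    refine ⟨k, cm_of_cj ?_⟩
    rw [← conj_mul, ← conj_pow, h6, (show Commute c w from F.cw).mul_pow, eq_inv_of_mul_eq_one_right h5,
      mul_inv_rev, inv_inv, ← F.Jcomm _ (pow_mem F.wJ k) _ (mul_mem r0 (inv_mem (conj_mem_of_mem_normalizer F.tN r0))),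
      mul_assoc, inv_mul_cancel_right]
  have wk : w ^ k ∈ zpowers w := pow_mem (mem_zpowers w) k
  have rJ := mul_mem (pow_mem F.wJ k) r0
  have rQ := mul_mem (h'.zle wk) r0'
  have r1 : w ^ k * (c' * z) ∉ Q := fun e =>
    c1' ((mul_mem_cancel_right h.zQ).mp ((mul_mem_cancel_left (pow_mem x1 k)).mp e))
  have rz : IsConj z (w ^ k * (c' * z)) := by
    obtain ⟨b, -, e⟩ := h'.cjz r0' (fun e => c1' ((mul_mem_cancel_right h.zQ).mp (zpowers_le.mpr x1 e))) wk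
    exact (isConj_iff.mpr ⟨t', tz'⟩).trans (isConj_iff.mpr ⟨b, e⟩)
  have r2 : ¬ IsConj z (w ^ k * (c' * z) * z) := fun e => F'.a1 (by
    have e1 : w ^ k * (c' * z) * z = w ^ k * a'⁻¹ := by
      rw [F'.aeq, mul_inv_rev, inv_inv, inv_eq_of_mul_eq_one_left ((pow_three' _).symm.trans h.z3),
        cm_mul F'.cw.symm F'.cw.symm]; group
    rw [e1] at e
    exact inv_mem_iff.mp ((mul_mem_cancel_left wk).mp
      (h'.noE one_ne_zero (wz.symm.trans e) (h'.Emul (h'.EZ wk) (h'.Einv F'.ea)))))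
  have r3 : ¬ IsConj z (w ^ k * (c' * z) * z⁻¹) := fun e => F'.c1 (by
    rw [mul_assoc, mul_inv_cancel_right] at e
    exact (mul_mem_cancel_left wk).mp (h'.noE (by decide) (wz.symm.trans e) (h'.Emul (h'.EZ wk) F'.ec)))
  generalize w ^ k * (c' * z) = r at tr rJ rQ r1 rz r2 r3
  have rK := F.JK rJ
  have rz' := h.Kz r rK
  have rc := F.Jcomm _ rJ _ F.cJ
  obtain ⟨i, i8, e⟩ := h.e8ex (σ := sl23I) (by decide)
  have ii : φ i * φ i = -1 := by rw [e]; decide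
  have iz := h.Kz i i8.1
  have eg := h.EK i8.1 F.ec
  have gc : om z (i * c * i⁻¹) c ≠ 0 := fun e3 => by
    obtain ⟨k, hk, e4⟩ := h.two' (by decide) F.ec F.c1 eg e3
    refine F.c1 ((h.memZ F.cQ).mpr fun q hq => ?_)
    have e5 := h.omZ e4 hq
    have e6 := h.omZ (by rwa [cj_of_cm (cm_zp iz e4)] : i * (i * c * i⁻¹ * c ^ k) * i⁻¹ ∈ _) hq
    have e7 := h.omT (mul_mem i8.1 i8.1) (by rw [h.mul _ i8.1 _ i8.1, ii]) F.ec hq
    rw [cj_mul'] at e7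
    rw [← conj_mul (c := c ^ k), ← conj_pow, h.omL (h.nC iz eg.1) (pow_mem eg.1 k) hq, h.powL eg.1 hq, e7] at e6
    rw [h.omL eg.1 (pow_mem F.cQ k) hq, h.powL F.cQ hq] at e5
    exact (by decide : ∀ k x y : ZMod 3, y + k * x = 0 → -1 * x + k * y = 0 → x = 0) _ _ _ e5 e6
  have k1 : om z (i * c * i⁻¹) (r * (i * c * i⁻¹) * r⁻¹) ≠ 0 := fun e1 => by
    have p1 := h.EK rK eg
    have p2 := h.perp F.ec eg gc (h.Emul p1 (h.Einv eg)) (by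
      rw [h.omL p1.1 (inv_mem eg.1) F.cQ, h.invL eg.1 F.cQ, h.omC' rz' eg.1 F.cQ, mul_assoc r⁻¹, ← rc,
        inv_mul_cancel_left, add_neg_cancel]) (by
      rw [h.omL p1.1 (inv_mem eg.1) eg.1, h.invL eg.1 eg.1, h.omS eg.1, h.anti eg.1 p1.1, e1]; ring)
    have p3 := Hy.cjK (inv_mem i8.1) rK
    obtain ⟨n, hn, e2⟩ := F.faith' rK r1 (F.Jexp rJ) rc p3 ⟨h.Kz _ p3, by
      convert p2 using 1
      rw [← cj_of_cm (cm_zp (cm_inv iz) p2)]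
      group⟩
    rw [← h.ker _ (mul_mem p3 (pow_mem rK n)), h.mul _ p3 _ (pow_mem rK n), h.phi_pow rK, h.phi_cj (inv_mem i8.1) rK,
      h.phi_inv i8.1] at e2
    exact (by decide : ∀ σ : SL23, σ ^ 3 = 1 → σ ≠ 1 → ∀ ι : SL23, ι * ι = -1 → ∀ n < 3, ι⁻¹ * σ * ι⁻¹⁻¹ * σ ^ n ≠ 1)
      _ (by rw [← h.phi_pow rK, F.Jexp rJ, h.phi_one]) (fun e => r1 ((h.ker r rK).mp e)) _ ii n hn e2
  obtain ⟨d, dE, k2⟩ : ∃ d, Ei z Q t 1 d ∧ om z (i * c * i⁻¹) (r * (i * c * i⁻¹) * r⁻¹) + om z d (r * d * r⁻¹) = 0 := by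
    generalize i * c * i⁻¹ = g at eg gc
    obtain ⟨k, -, e1⟩ := h.kill F.uQ F.cQ (inv_mem eg.1) F.uc
    have p1 := mul_mem (inv_mem eg.1) (pow_mem F.uQ k)
    obtain ⟨m, -, e2⟩ := h.kill x1 eg.1 p1 (by
      rwa [F.ca, h.omL F.cQ F.aQ eg.1, (h.om0 F.aQ eg.1).mpr (h.cm12 eg F.ea).symm, add_zero, h.anti eg.1 F.cQ,
        neg_ne_zero])
    have p2 := mul_mem p1 (pow_mem x1 m)
    have e3 : om z (g⁻¹ * u ^ k * w ^ m) c = 0 := by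
      rw [h.omL p1 (pow_mem x1 m) F.cQ, e1, h.powL x1 F.cQ, (h.om0 x1 F.cQ).mpr F.cw.symm]; ring
    have p3 := mul_mem (pow_mem F.uQ k) (pow_mem x1 m)
    have p4 := mul_mem (pow_mem F.uQ' k) (pow_mem h'.zQ m)
    have e4 := (h.om0 p3 (h.nC rz' p3)).mpr (M.comm p3 p4 (h.nC rz' p3) (mul_mem (mul_mem rQ p4) (inv_mem rQ)))
    rw [show u ^ k * w ^ m = g * (g⁻¹ * u ^ k * w ^ m) by group] at e4
    obtain ⟨b, hb, d, hd, tb, td, e5⟩ := h.dec p2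
    have ed := Ht.cmE1 (z := z) hd td
    rw [e5, h.omL hb hd F.cQ, (h.om0 hd F.cQ).mpr (h.cm12 F.ec ed).symm, add_zero] at e3
    rw [e5, h.omL hb hd eg.1, (h.om0 hd eg.1).mpr (h.cm12 eg ed).symm, add_zero] at e2
    have dE := h.Emul (h.EZ (h.perp F.ec eg gc (h.invE hb tb) e3 e2)) ed
    rw [← e5] at dE
    refine ⟨_, dE, ?_⟩
    generalize g⁻¹ * u ^ k * w ^ m = d at dE e4
    have q1 := h.EK rK eg
    have q2 := h.EK rK dE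
    rwa [← conj_mul, h.omL eg.1 dE.1 (mul_mem q1.1 q2.1), h.omR eg.1 q1.1 q2.1, h.omR dE.1 q1.1 q2.1,
      (h.om0 eg.1 q2.1).mpr (h.cm12 eg q2), (h.om0 dE.1 q1.1).mpr (h.cm12 q1 dE).symm, add_zero, zero_add] at e4
  refine ⟨Jc z c w, r, c, i, d, h, fun _ => F.JK, F.Jcomm, fun _ => F.Jexp, F.zJ, fun _ => F.QN, F.tN,
    fun g hg => mem_Jc.mpr ⟨hg z F.zJ, hg c F.cJ, hg w F.wJ⟩, F.wn, fun X h1 h2 g => F.sig h1 h2, rJ, r1, tr, rz, r2,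
    r3, fun g ε => h.noE, isConj_iff.mpr M.exN, F.cQ, F.cJ, F.tc, fun a' e1 e2 e3 b e4 e5 e6 g hg => ?_, i8, ii, gc,
    dE, k1, k2, ⟨w, F.wJ, x1, x2, wz⟩, F.exists_w, t', F.JJ F' ▸ F'.tN, a', F.JJ F' ▸ F'.aJ, F'.ta,
    fun e => F'.a1 (e ▸ one_mem _), fun e => F'.a1 (h'.noE one_ne_zero (wz.symm.trans e) F'.ea),
    fun e => c1' ((mul_mem_cancel_right h.zQ).mp (tz' ▸ e))⟩
  obtain ⟨n, -, e7⟩ := F.memJ' rJ r1 (F.Jexp rJ) hg
  have m1 : zpowers z ≤ closure {z, a', b, r} := zpowers_le.mpr (subset_closure (by simp))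
  have m2 : c ∈ closure {z, a', b, r} := by
    obtain ⟨k, -, e⟩ := h.two' (by decide) e4 e6 F.ec ((h.om0 F.cQ e4.1).mpr (F.Jcomm _ F.cJ _ e5))
    exact (mul_mem_cancel_right (pow_mem (subset_closure (by simp)) k)).mp (m1 e)
  have m3 : a ∈ closure {z, a', b, r} := by
    obtain ⟨k, -, e⟩ := h.two' one_ne_zero e1 e3 F.ea ((h.om0 F.aQ e1.1).mpr (F.Jcomm _ F.aJ _ e2))
    exact (mul_mem_cancel_right (pow_mem (subset_closure (by simp)) k)).mp (m1 e)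
  refine (mul_mem_cancel_right (pow_mem (subset_closure (by simp)) n)).mp ((closure_le _).mpr ?_ e7)
  rintro _ (rfl | rfl | rfl)
  exacts [m1 (mem_zpowers _), m2, F.ca ▸ mul_mem m2 m3]

end Hf

end Cfsg.Agent.O83.Bs
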