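import Cfsg.Agent.O83.TI
import Cfsg.Agent.Local.Norm

/-! The centraliser of the involution `t`, abstractly. -/

set_option autoImplicit false
set_option synthInstance.maxSize 4096

namespace Cfsg.Agent.O83

open Subgroup Cfsg.Agent.Char Cfsg.Agent.Local Cfsg.Agent.P43 Equiv

universe u

/-- The group `S₃ × S₃ × S₃`. -/
abbrev S333 := Fin 3 → Perm (Fin 3)

/-- The rotations. -/
def rot (v : V27) : S333 := ![finRotate 3 ^ v.1.val, finRotate 3 ^ v.2.1.val, finRotate 3 ^ v.2.2.val]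

/-- The basis vectors. -/
def ub : Fin 3 → V27 := ![(1, 0, 0), (0, 1, 0), (0, 0, 1)]

/-- The reflections. -/
def rf (j : Fin 3) : S333 := Pi.mulSingle j (swap 0 1)

/-- The abstract situation inside `C(t)`. -/
structure CT {X : Type u} [Group X] (H E A : Subgroup X) (e : V27 → X) (t : X) (π : X → S333) :
    Prop where
  par : Param A e
  tt : t * t = 1
  t1 : t ≠ 1
  ct : ∀ g, g * t = t * g
  EH : E ≤ H
  AH : A ≤ H
  tE : t ∈ E
  mul : ∀ x ∈ H, ∀ y ∈ H, π (x * y) = π x * π y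
  ker : ∀ x ∈ H, π x = 1 ↔ x ∈ E
  surj : ∀ σ, ∃ x ∈ H, π x = σ
  val : ∀ v, π (e v) = rot v
  sq : ∀ x ∈ E, x * x ∈ zpowers t
  cm : ∀ x ∈ E, ∀ y ∈ E, x * y * x⁻¹ * y⁻¹ ∈ zpowers t
  tr : ∀ i, ∀ x ∈ E, x * (e (ub i) * x * (e (ub i))⁻¹) * ((e (ub i))⁻¹ * x * e (ub i)) ∈ zpowers t
  gen : ∀ K : Subgroup X, (∀ b ∈ E, b * b = t → b ∈ K) → E ≤ K
  cw : ∀ v, v ≠ 0 → (∀ i, v ≠ ub i ∧ v ≠ -ub i) → ∀ g, g * e v = e v * g → g ∈ H
  nA : ∀ g ∈ normalizer (A : Set X), g ∈ H ∧ g * g ∈ A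
  dec : ∀ g ∈ H, ∃ f ∈ E, ∃ n ∈ normalizer (A : Set X), g = f * n

theorem rot_inj : ∀ u v, rot u = rot v → u = v := by decide +kernel

namespace CT

variable {X : Type u} [Group X] {H E A : Subgroup X} {e : V27 → X} {t : X} {π : X → S333}
  (h : CT H E A e t π) {g x y n : X}
include h

theorem eH (v : V27) : e v ∈ H := h.AH (h.par.mem' v)

theorem one : π 1 = 1 := (h.ker 1 (one_mem H)).mpr (one_mem E)

theorem inv (hx : x ∈ H) : π x⁻¹ = (π x)⁻¹ :=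
  eq_inv_of_mul_eq_one_left (by rw [← h.mul _ (inv_mem hx) _ hx, inv_mul_cancel, h.one])

theorem cj (hg : g ∈ H) (hx : x ∈ H) : π (g * x * g⁻¹) = π g * π x * (π g)⁻¹ := by
  rw [h.mul _ (mul_mem hg hx) _ (inv_mem hg), h.mul _ hg _ hx, h.inv hg]

theorem pw (hx : x ∈ H) (k : ℕ) : π (x ^ k) = π x ^ k := by
  induction k with
  | zero => simp [h.one]
  | succ k ih => rw [pow_succ, h.mul _ (pow_mem hx k) _ hx, ih, pow_succ]

theorem eqv (hx : x ∈ H) (hy : y ∈ H) (e1 : π x = π y) : x * y⁻¹ ∈ E :=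
  (h.ker _ (mul_mem hx (inv_mem hy))).mp (by
    rw [h.mul _ hx _ (inv_mem hy), h.inv hy, e1, mul_inv_cancel])

theorem cjE (hg : g ∈ H) (hx : x ∈ E) : g * x * g⁻¹ ∈ E :=
  (h.ker _ (mul_mem (mul_mem hg (h.EH hx)) (inv_mem hg))).mp (by
    rw [h.cj hg (h.EH hx), (h.ker x (h.EH hx)).mpr hx]; simp)

theorem mulE (hx : x ∈ E) (hy : y ∈ H) : π (x * y) = π y := by
  rw [h.mul _ (h.EH hx) _ hy, (h.ker x (h.EH hx)).mpr hx, one_mul]

theorem zt (hx : x ∈ zpowers t) : x = 1 ∨ x = t := by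
  obtain ⟨k, rfl⟩ := hx
  have h2 : t ^ (2 : ℤ) = 1 := by rw [zpow_two, h.tt]
  obtain ⟨m, rfl | rfl⟩ := Int.even_or_odd' k <;> simp [zpow_add, zpow_mul, h2]

theorem zn : (zpowers t).Normal := ⟨fun x hx g => by
  rcases h.zt hx with rfl | rfl
  · simp
  · rw [h.ct g, mul_inv_cancel_right]; exact mem_zpowers _⟩

theorem EA (hx : x ∈ E) (ha : x ∈ A) : x = 1 := by
  obtain ⟨v, rfl⟩ := (h.par.mem x).mp ha
  rw [rot_inj v 0 ((h.val v).symm.trans (((h.ker _ (h.eH v)).mpr hx).trans (by decide))), h.par.zero]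

theorem act (hn : n ∈ normalizer (A : Set X)) {v w : V27} (e1 : π n * rot v * (π n)⁻¹ = rot w) :
    n * e v * n⁻¹ = e w := by
  obtain ⟨u, hu⟩ := (h.par.mem _).mp (conj_mem_of_mem_normalizer hn (h.par.mem' v))
  rw [← hu, rot_inj u w (by rw [← h.val, hu, h.cj (h.nA n hn).1 (h.eH v), h.val, e1])]

theorem four (hx : x ∈ E) : x ^ 4 = 1 := by
  rw [show x ^ 4 = x * x * (x * x) by simp [pow_succ, mul_assoc]]
  rcases h.zt (h.sq x hx) with e1 | e1 <;> simp [e1, h.tt]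

theorem fpf {i : Fin 3} (hx : x ∈ E) (c : x * e (ub i) = e (ub i) * x) : x ∈ zpowers t := by
  have := h.tr i x hx
  rwa [← c, mul_inv_cancel_right, mul_assoc (e (ub i))⁻¹ x, c, inv_mul_cancel_left,
    mul_mem_cancel_left (h.sq x hx)] at this

theorem EN (hx : x ∈ E) (hn : x ∈ normalizer (A : Set X)) : x ∈ zpowers t :=
  h.fpf (i := 0) hx (mul_inv_eq_iff_eq_mul.mp (h.act hn (by simp [(h.ker x (h.EH hx)).mpr hx])))

theorem nn (hn : n ∈ normalizer (A : Set X)) (e1 : π n * π n = 1) : n * n = 1 :=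
  h.EA ((h.ker _ (h.AH (h.nA n hn).2)).mp (by rw [h.mul _ (h.nA n hn).1 _ (h.nA n hn).1, e1]))
    (h.nA n hn).2

theorem exn (σ : S333) : ∃ n ∈ normalizer (A : Set X), π n = σ := by
  obtain ⟨x, hx, rfl⟩ := h.surj σ
  obtain ⟨f, hf, n, hn, rfl⟩ := h.dec x hx
  exact ⟨n, hn, (h.mulE hf (h.nA n hn).1).symm⟩

theorem pA : IsPGroup 3 A := fun ⟨a, ha⟩ => ⟨1, Subtype.ext (by
  obtain ⟨v, rfl⟩ := (h.par.mem a).mp ha
  exact h.par.cube V27_three v)⟩

theorem cyc3 [Finite X] (hx : x ∈ H) {i : Fin 3} (c : cyc (π x i)) : 3 ∣ orderOf x := by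
  have h1 : π x i ^ orderOf x = 1 := by
    rw [← Pi.pow_apply, ← h.pw hx, pow_orderOf_eq_one, h.one, Pi.one_apply]
  have h2 : orderOf (π x i) = 3 := by
    rcases c with c | c <;> rw [c] <;> exact orderOf_eq_prime (by decide) (by decide)
  exact h2 ▸ orderOf_dvd_of_pow_eq_one h1

theorem inv4 (hy : y ∈ H) (e1 : y * y = t) : y ∈ E := by
  by_contra hE
  obtain ⟨f, hf, n, hn, rfl⟩ := h.dec y hy
  have nH := (h.nA n hn).1
  have a1 : π n * π n = 1 := by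
    rw [← h.mulE hf nH, ← h.mul _ hy _ hy, e1, (h.ker t (h.EH h.tE)).mpr h.tE]
  obtain ⟨i, a2⟩ := (by decide +kernel : ∀ σ : S333, σ * σ = 1 → σ = 1 ∨
    ∃ i, σ * rot (ub i) * σ⁻¹ = rot (-ub i)) _ a1 |>.resolve_left fun e2 =>
      hE (mul_mem hf ((h.ker n nH).mp e2))
  have a3 := h.act hn a2
  rw [h.par.neg] at a3
  have a4 := h.nn hn a1
  have := h.zn
  let q := QuotientGroup.mk' (zpowers t)
  have hq : ∀ x, x ∈ zpowers t → q x = 1 := fun x => (QuotientGroup.eq_one_iff x).mpr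
  have kE := h.cjE (h.eH (ub i)) hf
  set k := e (ub i) * f * (e (ub i))⁻¹ with hk
  have b1 := hq _ (h.tr i f hf)
  have b2 := hq _ (h.sq f hf)
  have b3 := hq _ (h.sq k kE)
  have b4 := hq (f * n * (f * n)) (by rw [e1]; exact mem_zpowers t)
  have b5 := congrArg q a3
  have b6 := congrArg q a4
  have b7 := hq _ (h.cm f hf k kE)
  have b8 : q k = q (e (ub i)) * q f * (q (e (ub i)))⁻¹ := by rw [hk, map_mul, map_mul, map_inv]
  simp only [map_mul, map_inv, map_one, ← hk] at b1 b2 b3 b4 b5 b6 b7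
  have b9 : q (f * n * (k * n * k⁻¹)⁻¹) = 1 := by
    simp only [map_mul, map_inv]
    generalize q f = f at *
    generalize q n = n at *
    generalize q k = k at *
    generalize q (e (ub i)) = r at *
    have c1 : n * f * n⁻¹ = f := by
      rw [inv_eq_of_mul_eq_one_right b6, ← mul_left_cancel_iff (a := f), b2, ← b4]; group
    have c2 : n * k * n⁻¹ = r⁻¹ * f * r := by
      rw [b8, ← conj_mul, ← conj_mul, ← conj_inv, b5, c1, inv_inv]
    calc _ = f * (n * k * n⁻¹) * k⁻¹ := by group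
      _ = k⁻¹ * (f * k * f⁻¹ * k⁻¹)⁻¹ * k * (k * k)⁻¹ := by
        rw [c2, eq_inv_of_mul_eq_one_right b1]; group
      _ = 1 := by rw [b7, b3]; group
  have b10 : k * n * k⁻¹ * (k * n * k⁻¹) = 1 := by rw [conj_mul, a4]; group
  apply h.t1
  rcases h.zt ((QuotientGroup.eq_one_iff _).mp b9) with e2 | e2
  · rw [← e1, mul_inv_eq_one.mp e2, b10]
  · rw [← e1, mul_inv_eq_iff_eq_mul.mp e2, mul_assoc, ← mul_assoc _ t, h.ct, mul_assoc t, b10, mul_one,
      h.tt]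

variable [Finite X]

theorem E3 : ¬ 3 ∣ Nat.card E := fun h3 => by
  obtain ⟨x, hx, e1⟩ := exists_mem_orderOf_eq_of_dvd_card Nat.prime_three h3
  exact absurd (e1 ▸ orderOf_dvd_of_pow_eq_one (h.four hx)) (by norm_num)

theorem syl : IsSylowIn 3 A ⊤ := isSylowIn_of_maximal le_top h.pA fun Q hQ h1 _ => by
  by_contra hne
  obtain ⟨g, hg, h3, h4⟩ := exists_mem_normalizer_of_lt_of_isNilpotent hQ.isNilpotent
    (lt_of_le_of_ne h1 (Ne.symm hne))
  exact h4 (mem_of_pow_mem_of_coprime (orderOf_coprime_of_isPGroup Nat.prime_three Nat.prime_two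
    (by norm_num) hQ hg) (pow_two g ▸ (h.nA g h3).2))

theorem oe {v : V27} (hv : v ≠ 0) : orderOf (e v) = 3 :=
  orderOf_eq_prime (h.par.cube V27_three v) (h.par.ne_one hv)

theorem sig {K : Subgroup X} (h3 : ¬ 3 ∣ Nat.card K) (hA : A ≤ normalizer (K : Set X)) : K ≤ E := by
  have KH : K ≤ H := le_of_centralizer_le_of_rank_two Nat.prime_three (hA (h.par.mem' (1, 1, 1)))
    (hA (h.par.mem' (1, 2, 0))) (h.par.comm _ (h.par.mem' _) _ (h.par.mem' _))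
    (h.par.cube V27_three _) (h.oe (by decide))
    (by rw [par_zp h.par V27_three (by decide)]; decide) h3 fun x hx x1 g hg => by
      let L : AddSubgroup V27 := ⟨⟨⟨{v | v.1 + v.2.1 + v.2.2 = 0}, by decide⟩, by decide⟩, by decide⟩
      have h1 : closure {e (1, 1, 1), e (1, 2, 0)} ≤ psub h.par L := (closure_le _).mpr (by
        rintro _ (rfl | rfl) <;> exact (mem_psub h.par).mpr (show _ = _ from rfl))
      obtain ⟨v, rfl⟩ := psub_le h.par L (h1 hx) |> (h.par.mem x).mp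
      have h2 : v.1 + v.2.1 + v.2.2 = 0 := (mem_psub h.par).mp (h1 hx)
      exact h.cw v (fun e1 => x1 (e1 ▸ h.par.zero)) (by clear * - h2; revert v; decide) g
        (mem_centralizer_singleton_iff.mp hg.2)
  have h1 : ∀ k ∈ K, ∀ i, ¬ cyc (π k i) := fun k hk i c =>
    h3 ((h.cyc3 (KH hk) c).trans (orderOf_dvd_card_of_mem hk))
  refine fun k hk => (h.ker k (KH hk)).mp (funext fun i => ?_)
  have h2 := h1 _ (mul_mem hk (conj_mem_of_mem_normalizer (hA (h.par.mem' (ub i))) (inv_mem hk))) i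
  rw [h.mul _ (KH hk) _ (KH (conj_mem_of_mem_normalizer (hA (h.par.mem' (ub i))) (inv_mem hk))),
    h.cj (h.eH _) (KH (inv_mem hk)), h.val, h.inv (KH hk)] at h2
  exact (by decide : ∀ (i : Fin 3) (σ : Perm (Fin 3)), ¬ cyc σ →
    ¬ cyc (σ * (rot (ub i) i * σ⁻¹ * (rot (ub i) i)⁻¹)) → σ = 1) i _ (h1 k hk i) h2

theorem cl_aux {i j k : Fin 3} (τ : V27 → V27) (τ1 : ∀ u v, τ (u + v) = τ u + τ v)
    (τ2 : ∀ v, ∃ u, τ u = v) (τ3 : τ (1, 0, 0) = ub i)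
    (τ4 : ∀ v, rf j * rot (τ v) * (rf j)⁻¹ = rot (τ (v.1, -v.2.1, v.2.2)))
    (τ5 : ∀ v, rf k * rot (τ v) * (rf k)⁻¹ = rot (τ (v.1, v.2.1, -v.2.2)))
    (τ6 : ∀ σ, σ * rot (ub i) = rot (ub i) * σ → ∃ v, σ = rot v ∨ σ = rot v * rf j ∨
      σ = rot v * rf k ∨ σ = rot v * (rf j * rf k)) (c : g * e (ub i) = e (ub i) * g) : g ∈ H := by
  have hp : Param A fun v => e (τ v) := ⟨fun u v => by rw [τ1, h.par.add],
    h.par.inj.comp (Finite.injective_iff_surjective.mpr τ2), fun g => (h.par.mem g).trans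
      ⟨fun ⟨v, e1⟩ => (τ2 v).imp fun _ e2 => (congrArg e e2).trans e1, fun ⟨_, e⟩ => ⟨_, e⟩⟩⟩
  have AY : A ≤ centralizer {e (ub i)} := fun a ha =>
    mem_centralizer_singleton_iff.mpr (h.par.comm _ ha _ (h.par.mem' _))
  have := h.zn
  have ZE : zpowers t ≤ E := zpowers_le.mpr h.tE
  obtain ⟨Q, _, _, f, J, hs, hf, wj, par, nor⟩ := quot_pack (F := zpowers t) hp
    (h.syl.of_le AY le_top) (zpowers_le.mpr (mem_centralizer_singleton_iff.mpr (h.ct _).symm))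
    (le_normalizer_of_normal (K := ⊤) |>.trans' le_top)
    (fun e1 => h.E3 (e1.trans (card_dvd_of_le ZE))) fun K k1 k2 k3 x hx =>
      h.fpf (h.sig k2 k3 hx) (mem_centralizer_singleton_iff.mp (k1 hx))
  obtain ⟨a, ha, pa⟩ := h.exn (rf j)
  obtain ⟨b, hb, pb⟩ := h.exn (rf k)
  have ae : ∀ v, a * e (τ v) * a⁻¹ = e (τ (v.1, -v.2.1, v.2.2)) := fun v => h.act ha (pa ▸ τ4 v)
  have be : ∀ v, b * e (τ v) * b⁻¹ = e (τ (v.1, v.2.1, -v.2.2)) := fun v => h.act hb (pb ▸ τ5 v)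
  have aY : a ∈ centralizer {e (ub i)} := mem_centralizer_singleton_iff.mpr
    (mul_inv_eq_iff_eq_mul.mp (τ3 ▸ ae (1, 0, 0)))
  have bY : b ∈ centralizer {e (ub i)} := mem_centralizer_singleton_iff.mpr
    (mul_inv_eq_iff_eq_mul.mp (τ3 ▸ be (1, 0, 0)))
  have eq : ∀ x y : centralizer {e (ub i)}, x.1 ∈ normalizer (A : Set X) →
      y.1 ∈ normalizer (A : Set X) → π x = π y → f x = f y := fun x y hx hy e1 => by
    rw [← mul_inv_eq_one, ← map_inv, ← map_mul, hf]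
    exact h.EN (h.eqv (h.nA _ hx).1 (h.nA _ hy).1 e1) (mul_mem hx (inv_mem hy))
  have aH := (h.nA a ha).1
  have bH := (h.nA b hb).1
  have rr : ∀ j, rf j * rf j = 1 := by decide
  have L : L3 J ⊤ (fun v => f ⟨e (τ v), AY (hp.mem' v)⟩) (f ⟨a, aY⟩) (f ⟨b, bY⟩) :=
    ⟨wj, le_top, par, mem_top _, mem_top _,
      by rw [← map_mul, hf, coe_mul]; exact (h.nn ha (pa ▸ rr j)).symm ▸ (one_mem _ : (1 : X) ∈ _),
      by rw [← map_mul, hf, coe_mul]; exact (h.nn hb (pb ▸ rr k)).symm ▸ (one_mem _ : (1 : X) ∈ _),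
      by
        rw [← map_mul, ← map_mul]
        refine eq _ _ (mul_mem ha hb) (mul_mem hb ha) ?_
        simp only [coe_mul, h.mul _ aH _ bH, h.mul _ bH _ aH, pa, pb]
        exact (by decide : ∀ j k, rf j * rf k = rf k * rf j) j k,
      fun v => by rw [← map_inv, ← map_mul, ← map_mul]; exact congrArg f (Subtype.ext (ae v)),
      fun v => by rw [← map_inv, ← map_mul, ← map_mul]; exact congrArg f (Subtype.ext (be v)),
      fun q _ => by
        obtain ⟨y, rfl⟩ := hs q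
        rw [← map_mul, ← map_mul]
        exact congrArg f (Subtype.ext (show y * e (τ _) = e (τ _) * y by
          rw [τ3]; exact mem_centralizer_singleton_iff.mp y.2)),
      fun q _ hq => by
        obtain ⟨n, hn, rfl⟩ := nor q hq
        have nH := (h.nA _ hn).1
        obtain ⟨w, hw⟩ := τ6 (π n) (by
          rw [← h.val, ← h.mul _ nH _ (h.eH _), mem_centralizer_singleton_iff.mp n.2,
            h.mul _ (h.eH _) _ nH])
        obtain ⟨v, rfl⟩ := τ2 w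
        have eN := le_normalizer (hp.mem' v)
        refine ⟨v, ?_⟩
        simp only [← map_mul]
        refine hw.imp (fun e1 => eq _ _ hn eN ?_) (Or.imp (fun e1 => eq _ _ hn (mul_mem eN ha) ?_)
          (Or.imp (fun e1 => eq _ _ hn (mul_mem eN hb) ?_)
            fun e1 => eq _ _ hn (mul_mem eN (mul_mem ha hb)) ?_)) <;>
        simp only [coe_mul, h.mul _ (h.eH _) _ aH, h.mul _ (h.eH _) _ bH, h.mul _ aH _ bH,
          h.mul _ (h.eH _) _ (mul_mem aH bH), pa, pb, h.val, e1]⟩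
  have gY := mem_centralizer_singleton_iff.mpr c
  obtain ⟨n, hn, e1⟩ := nor _ (L.le_norm (mem_top (f ⟨g, gY⟩)))
  have e2 := (hf (n⁻¹ * ⟨g, gY⟩)).mp (by rw [map_mul, map_inv, e1, inv_mul_cancel])
  exact (mul_mem_cancel_left (inv_mem (h.nA _ hn).1)).mp (h.EH (ZE e2))

theorem cl (i : Fin 3) (c : g * e (ub i) = e (ub i) * g) : g ∈ H := by
  fin_cases i
  · exact h.cl_aux (j := 1) (k := 2) (fun v => v) (fun _ _ => rfl) (by decide) rfl (by decide +kernel)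
      (by decide +kernel) (by decide +kernel) c
  · exact h.cl_aux (j := 0) (k := 2) (fun v => (v.2.1, v.1, v.2.2)) (fun _ _ => rfl) (by decide) rfl
      (by decide +kernel) (by decide +kernel) (by decide +kernel) c
  · exact h.cl_aux (j := 0) (k := 1) (fun v => (v.2.1, v.2.2, v.1)) (fun _ _ => rfl) (by decide) rfl
      (by decide +kernel) (by decide +kernel) (by decide +kernel) c

theorem cA {v : V27} (hv : v ≠ 0) (c : g * e v = e v * g) : g ∈ H := by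
  by_cases h1 : ∀ i, v ≠ ub i ∧ v ≠ -ub i
  · exact h.cw v hv h1 g c
  simp only [not_forall, not_and_or, not_not] at h1
  obtain ⟨i, rfl | rfl⟩ := h1
  · exact h.cl i c
  · exact h.cl i (Commute.inv_right_iff.mp (h.par.neg _ ▸ c))

theorem se (hx : x ∈ H) (h3 : 3 ∣ orderOf x) (hg : g * x * g⁻¹ ∈ H) : g ∈ H := by
  have hS := h.syl.of_le h.AH le_top
  have key : ∀ y ∈ H, orderOf y = 3 → ∃ u ∈ H, u⁻¹ * y * u ∈ A := fun y hy e1 => by
    obtain ⟨u, hu, e2⟩ := hS.exists_le_conj (Q := zpowers y)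
      (IsPGroup.of_card (n := 1) (by rw [Nat.card_zpowers, e1, pow_one])) (zpowers_le.mpr hy)
    exact ⟨u, hu, (mem_conj_smul_iff _ _ _).mp (e2 (mem_zpowers y))⟩
  have o3 := orderOf_pow_orderOf_div (orderOf_pos x).ne' h3
  obtain ⟨u, hu, a1⟩ := key _ (pow_mem hx _) o3
  obtain ⟨w, hw, a2⟩ := key _ (pow_mem hg (orderOf x / 3)) (by rw [conj_pow, Local.orderOf_conj', o3])
  rw [conj_pow] at a2
  generalize x ^ (orderOf x / 3) = y at *
  obtain ⟨m, -, m1, m2⟩ := (wn_of_sylow h.syl).fusion h.pA h.par.comm le_top a1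
    (mem_top (w⁻¹ * g * u)) (by convert a2 using 1; group)
  obtain ⟨v, hv⟩ := (h.par.mem _).mp a1
  have := h.cA (v := v) (g := m⁻¹ * (w⁻¹ * g * u)) (fun e1 => by
    rw [e1, h.par.zero, eq_comm, mul_assoc, inv_mul_eq_one, eq_comm, mul_eq_right] at hv
    simp [hv] at o3) (by
      rw [hv]
      calc _ = m⁻¹ * (w⁻¹ * g * u * (u⁻¹ * y * u) * (w⁻¹ * g * u)⁻¹) * (w⁻¹ * g * u) := by group
        _ = _ := by rw [← m2]; group)
  rwa [mul_mem_cancel_left (inv_mem (h.nA m m1).1), mul_mem_cancel_right hu,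
    mul_mem_cancel_left (inv_mem hw)] at this

theorem tiK (i : Fin 3) {b : X} (hb : b * b ∈ zpowers t)
    (hc : ∀ k, k * b * k⁻¹ ∈ H → π (k * b * k⁻¹) i = 1) :
    ∃ K : Subgroup X, K.Normal ∧ b ∈ K ∧ ∀ y ∈ H, y ∈ K → ¬ cyc (π y i) := by
  refine ti3 (fun x => π x i) (fun x hx y hy => congrFun (h.mul x hx y hy) i)
    (fun σ => (h.surj fun _ => σ).imp fun x hx => ⟨hx.1, congrFun hx.2 i⟩)
    (fun x hx c g => h.se hx (h.cyc3 hx c)) (fun k hk => by rw [hc k hk]; decide) fun g k hk c => ?_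
  have h1 : k * b * k⁻¹ * (k * (g * b * g⁻¹ * b) * k⁻¹) * (k * b * k⁻¹)⁻¹ =
      (k * (g * b * g⁻¹ * b) * k⁻¹)⁻¹ := by
    refine eq_inv_of_mul_eq_one_left ?_
    calc _ = k * (b * (g * (b * b) * g⁻¹) * b) * k⁻¹ := by group
      _ = 1 := by
        rcases h.zt hb with e1 | e1
        · simp [e1]
        · rw [e1, h.ct g, mul_inv_cancel_right, h.ct b, mul_assoc t, e1, h.tt]; simp
  have h2 := h.se hk (h.cyc3 hk c) (h1 ▸ inv_mem hk)
  have h3 := congrFun ((h.cj h2 hk).symm.trans ((congrArg π h1).trans (h.inv hk))) i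
  simp only [Pi.mul_apply, Pi.inv_apply, hc k h2] at h3
  exact (by decide : ∀ σ, cyc σ → 1 * σ * 1⁻¹ ≠ σ⁻¹) _ c h3

theorem normE : E.Normal := by
  refine ⟨fun x hx => h.gen E.normalCore (fun b hb e1 g => ?_) hx⟩
  choose K K1 K2 K3 using fun i => h.tiK i (b := b) (e1 ▸ mem_zpowers _) fun k hk => by
    rw [(h.ker _ hk).mpr (h.inv4 hk (by rw [conj_mul, e1, h.ct, mul_inv_cancel_right]))]; rfl
  have hN : (⨅ i, K i).Normal := normal_iInf_normal K1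
  refine h.sig (fun h3 => ?_) (le_normalizer_of_normal (K := A)) (hN.conj_mem b (mem_iInf.mpr K2) g)
  obtain ⟨x, hx, e2⟩ := exists_mem_orderOf_eq_of_dvd_card Nat.prime_three h3
  obtain ⟨u, -, e3⟩ := h.syl.exists_le_conj (Q := zpowers x)
    (IsPGroup.of_card (n := 1) (by rw [Nat.card_zpowers, e2, pow_one])) le_top
  obtain ⟨v, hv⟩ := (h.par.mem _).mp ((mem_conj_smul_iff _ _ _).mp (e3 (mem_zpowers x)))
  obtain rfl | ⟨i, c⟩ := (by decide : ∀ v, v = 0 ∨ ∃ i, cyc (rot v i)) v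
  · rw [h.par.zero, eq_comm, mul_assoc, inv_mul_eq_one, eq_comm, mul_eq_right] at hv
    simp [hv] at e2
  · exact K3 i _ (h.eH v) (hv ▸ mem_iInf.mp (hN.conj_mem' x hx u) i) (h.val v ▸ c)

theorem cjr {j l : Fin 3} (hn : n ∈ normalizer (A : Set X)) (pn : π n = rf j) {k : X}
    (hk : k * n * k⁻¹ ∈ H) (hl : π (k * n * k⁻¹) l = 1) {i : Fin 3} (hi : i ≠ j) :
    π (k * n * k⁻¹) i = 1 := by
  have := h.normE
  let C := (centralizer {QuotientGroup.mk' E (k * n * k⁻¹)}).comap (QuotientGroup.mk' E)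
  have hC : ∀ g, g ∈ C ↔ g * (k * n * k⁻¹) * g⁻¹ * (k * n * k⁻¹)⁻¹ ∈ E := fun g => by
    rw [mem_comap, mem_centralizer_singleton_iff, ← QuotientGroup.eq_one_iff, ← mul_inv_eq_one,
      mul_inv_rev, ← mul_assoc]
    rfl
  have p3 : ∀ x : X, orderOf x = 3 → IsPGroup 3 (zpowers x) := fun x e1 =>
    IsPGroup.of_card (n := 1) (by rw [Nat.card_zpowers, e1, pow_one])
  have u0 : ∀ i, ub i ≠ 0 := by decide
  obtain ⟨P, hP, h1⟩ := exists_isSylowIn_ge (N := C) (p3 _ (h.oe (u0 l))) (zpowers_le.mpr ((hC _).mpr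
    (h.eqv (mul_mem (mul_mem (h.eH _) hk) (inv_mem (h.eH _))) hk (by
      rw [h.cj (h.eH _) hk, h.val]
      exact (by decide +kernel : ∀ l (σ : S333), σ l = 1 → rot (ub l) * σ * (rot (ub l))⁻¹ = σ) l _ hl))))
  have PH : P ≤ H := fun y hy => by
    obtain ⟨u, -, e1⟩ := h.syl.exists_le_conj hP.isPGroup le_top
    have := h.par.comm _ ((mem_conj_smul_iff _ _ _).mp (e1 hy)) _
      ((mem_conj_smul_iff _ _ _).mp (e1 (h1 (mem_zpowers _))))
    exact h.cl l (by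
      calc _ = u * (u⁻¹ * y * u * (u⁻¹ * e (ub l) * u)) * u⁻¹ := by group
        _ = _ := by rw [this]; group)
  have h2 : n * e (ub i) * n⁻¹ = e (ub i) := h.act hn (pn ▸
    (by decide +kernel : ∀ i j, i ≠ j → rf j * rot (ub i) * (rf j)⁻¹ = rot (ub i)) i j hi)
  obtain ⟨c, hc, h3⟩ := hP.exists_le_conj (p3 (k * e (ub i) * k⁻¹)
    (by rw [Local.orderOf_conj', h.oe (u0 i)])) (zpowers_le.mpr ((hC _).mpr (by
      rw [conj_mul, ← mul_inv_eq_iff_eq_mul.mp h2]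
      convert one_mem E using 1
      group)))
  have h4 := h.se (g := c⁻¹ * k) (h.eH _) (h.oe (u0 i)).symm.dvd (by
    convert PH ((mem_conj_smul_iff _ _ _).mp (h3 (mem_zpowers _))) using 1; group)
  have h5 := h.mulE ((hC _).mp (inv_mem hc)) hk
  rw [show c⁻¹ * (k * n * k⁻¹) * c⁻¹⁻¹ * (k * n * k⁻¹)⁻¹ * (k * n * k⁻¹) =
    c⁻¹ * k * n * (c⁻¹ * k)⁻¹ by group, h.cj h4 (h.nA n hn).1, pn] at h5
  simp [← h5, rf, hi]

theorem good : ∃ j, ∃ n ∈ normalizer (A : Set X), π n = rf j ∧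
    ∀ k, k * n * k⁻¹ ∈ H → ∀ i ≠ j, π (k * n * k⁻¹) i = 1 := by
  by_contra hh
  push Not at hh
  obtain ⟨a, ha, pa⟩ := h.exn (rf 0)
  obtain ⟨b, hb, pb⟩ := h.exn (rf 1)
  obtain ⟨k, hk, i, i1, i2⟩ := hh 0 a ha pa
  obtain ⟨m, hm, j, j1, j2⟩ := hh 1 b hb pb
  have sq : ∀ {a j k}, a ∈ normalizer (A : Set X) → π a = rf j → k * a * k⁻¹ ∈ H → ∀ l,
      π (k * a * k⁻¹) l * π (k * a * k⁻¹) l = 1 := fun {a j k} ha pa hk l => by
    rw [← Pi.mul_apply, ← h.mul _ hk _ hk, conj_mul, h.nn ha (pa ▸ (by decide : ∀ j, rf j * rf j = 1) j)]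
    simp [h.one]
  choose σ hσ using fun l => (by decide : ∀ x y : Perm (Fin 3), x ≠ 1 → y ≠ 1 → x * x = 1 →
    y * y = 1 → ∃ w, w * x * w⁻¹ = y) _ _ (fun e1 => i2 (h.cjr (l := l) ha pa hk e1 i1))
    (fun e1 => j2 (h.cjr (l := l) hb pb hm e1 j1)) (sq ha pa hk l) (sq hb pb hm l)
  obtain ⟨x, hx, rfl⟩ := h.surj σ
  have h1 := h.normE.conj_mem' _ (h.eqv (mul_mem (mul_mem hx hk) (inv_mem hx)) hm
    ((h.cj hx hk).trans (funext hσ))) m
  have h2 : m⁻¹ * x * k * a * (m⁻¹ * x * k)⁻¹ =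
    m⁻¹ * (x * (k * a * k⁻¹) * x⁻¹ * (m * b * m⁻¹)⁻¹) * m * b := by group
  have h3 := h.cjr (l := 0) (i := 1) ha pa (h2 ▸ mul_mem (h.EH h1) (h.nA b hb).1)
  rw [h2, h.mulE h1 (h.nA b hb).1, pb] at h3
  exact absurd (h3 rfl (by decide)) (by decide)

theorem eq_top : H = ⊤ := by
  obtain ⟨j, n, hn, pn, hj⟩ := h.good
  have := h.normE
  choose K K1 K2 K3 using fun i : {i // i ≠ j} => h.tiK i (b := n) (by
    rw [h.nn hn (pn ▸ (by decide : ∀ j, rf j * rf j = 1) j)]; exact one_mem _) fun k hk => hj k hk i i.2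
  have hN : (⨅ i, K i).Normal := normal_iInf_normal K1
  have u0 : ub j ≠ 0 := (by decide : ∀ i, ub i ≠ 0) j
  have hρ : e (ub j) ∈ ⨅ i, K i := by
    have := mul_mem (mem_iInf.mpr K2) (hN.conj_mem _ (inv_mem (mem_iInf.mpr K2)) (e (ub j)))
    rwa [← mul_assoc, ← mul_assoc, h.act hn (w := -ub j) (pn ▸
      (by decide +kernel : ∀ j, rf j * rot (ub j) * (rf j)⁻¹ = rot (-ub j)) j), ← h.par.neg,
      ← h.par.add, (by decide : ∀ v : V27, -v + -v = v)] at this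
  obtain ⟨Q, _, _, f, J, hs, hf, wj, par, -⟩ := quot_pack (F := E) h.par h.syl le_top
    (le_normalizer_of_normal (K := ⊤)) h.E3 fun K _ => h.sig
  have hM := (hN.subgroupOf ⊤).map f hs
  have inH : ∀ (g : (⊤ : Subgroup X)) v, f g * f ⟨e (ub j), mem_top _⟩ * (f g)⁻¹ = f ⟨e v, mem_top _⟩ →
      g.1 ∈ H := fun g v e1 => h.se (h.eH _) (h.oe u0).symm.dvd ((mul_mem_cancel_right
        (inv_mem (h.eH v))).mp (h.EH ((hf (g * ⟨e (ub j), mem_top _⟩ * g⁻¹ * (⟨e v, mem_top _⟩)⁻¹)).mp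
          (by simp [e1]))))
  refine eq_top_iff.mpr fun g hg => ?_
  refine Exists.elim ((par.mem _).mp (zpowers_le.mpr (par.mem' _) (sct_sig
    (M := ((⨅ i, K i).subgroupOf ⊤).map f) (orderOf_eq_prime (par.cube V27_three _) (par.ne_one u0))
    ⟨_, hρ, rfl⟩ ?_ wj.pg (le_normalizer_of_normal (K := J)) (fun K _ => wj.sig K)
    (le_normalizer_of_normal (K := ⊤) (mem_top (f ⟨g, hg⟩)))))) fun v hv => inH _ v hv.symm
  rintro _ ⟨y, hy, rfl⟩ c
  have c' := mul_inv_eq_iff_eq_mul.mpr c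
  have yH := inH y _ c'
  have h1 := (h.ker _ (mul_mem (mul_mem (mul_mem yH (h.eH _)) (inv_mem yH)) (inv_mem (h.eH _)))).mpr
    ((hf (y * ⟨e (ub j), mem_top _⟩ * y⁻¹ * (⟨e (ub j), mem_top _⟩)⁻¹)).mp (by simp [c']))
  rw [h.mul _ (mul_mem (mul_mem yH (h.eH _)) (inv_mem yH)) _ (inv_mem (h.eH _)), h.cj yH (h.eH _),
    h.inv (h.eH _), h.val] at h1
  have h2 : ∀ i ≠ j, π y i = 1 := fun i hi => by
    have a1 := mul_mem (mul_mem (h.eH (ub i)) (inv_mem yH)) (inv_mem (h.eH (ub i)))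
    have a2 := K3 ⟨i, hi⟩ _ (mul_mem yH a1)
      (mem_iInf.mp (mul_mem hy (hN.conj_mem _ (inv_mem hy) (e (ub i)))) _)
    rw [h.mul _ yH _ a1, h.cj (h.eH _) (inv_mem yH), h.val, h.inv yH] at a2
    exact (by decide : ∀ (i : Fin 3) (σ : Perm (Fin 3)), ¬ cyc σ →
      ¬ cyc (σ * (rot (ub i) i * σ⁻¹ * (rot (ub i) i)⁻¹)) → σ = 1) i _
      (K3 ⟨i, hi⟩ _ yH (mem_iInf.mp hy _)) a2
  obtain ⟨w, w1, w2⟩ := (by decide +kernel : ∀ j (σ : S333), (∀ i ≠ j, σ i = 1) →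
    σ * rot (ub j) * σ⁻¹ * (rot (ub j))⁻¹ = 1 → ∃ w, (w = 0 ∨ w = ub j ∨ w = -ub j) ∧ σ = rot w) j _ h2 h1
  have h3 := (hf (y * (⟨e w, mem_top _⟩)⁻¹)).mpr (h.eqv yH (h.eH w) (w2.trans (h.val w).symm))
  rw [map_mul, map_inv, mul_inv_eq_one] at h3
  exact h3 ▸ (par_zp par V27_three u0).mpr w1

end CT

end Cfsg.Agent.O83
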