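import Cfsg.Agent.O83.Basic
import Cfsg.Agent.O83.CTA

/-! The centraliser of the involution `t`. -/

set_option autoImplicit false
set_option maxRecDepth 100000
set_option synthInstance.maxSize 4096

namespace Cfsg.Agent.O83

open Subgroup Cfsg.Agent.Char Cfsg.Agent.Local Cfsg.Agent.P43 Cfsg.Agent.P43.L

attribute [local irreducible] Mat.memN r1 r2 r3 z s sg qq eL Mat.cmul Mat.cinv W W3 W4
attribute [local instance 10000] List.decidableBAll

theorem gen_facts {X : Type*} [Group X] {Z : Subgroup X} [Z.Normal] {S : Set X}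
    (h1 : ∀ x ∈ S, x * x ∈ Z) (h2 : ∀ x ∈ S, ∀ y ∈ S, x * y * x⁻¹ * y⁻¹ ∈ Z) :
    (∀ x ∈ closure S, x * x ∈ Z) ∧ (∀ x ∈ closure S, ∀ y ∈ closure S, x * y * x⁻¹ * y⁻¹ ∈ Z) ∧
    ∀ r, (∀ x ∈ closure S, r * x * r⁻¹ ∈ closure S ∧ r⁻¹ * x * r ∈ closure S) →
      (∀ x ∈ S, x * (r * x * r⁻¹) * (r⁻¹ * x * r) ∈ Z) →
      ∀ x ∈ closure S, x * (r * x * r⁻¹) * (r⁻¹ * x * r) ∈ Z := by
  let q := QuotientGroup.mk' Z
  have hq : ∀ x, x ∈ Z ↔ q x = 1 := fun x => (QuotientGroup.eq_one_iff x).symm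
  simp only [hq, map_mul, map_inv, mul_inv_eq_iff_eq_mul, one_mul] at h1 h2 ⊢
  have c : ∀ x ∈ closure S, ∀ y ∈ closure S, Commute (q x) (q y) := fun x hx y hy => by
    induction hx, hy using closure_induction₂ with
    | mem x y hx hy => exact h2 x hx y hy
    | one_left => simp
    | one_right => simp
    | mul_left _ _ _ _ _ _ a b => exact map_mul q _ _ ▸ a.mul_left b
    | mul_right _ _ _ _ _ _ a b => exact map_mul q _ _ ▸ a.mul_right b
    | inv_left _ _ _ _ a => exact map_inv q _ ▸ a.inv_left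
    | inv_right _ _ _ _ a => exact map_inv q _ ▸ a.inv_right
  have sq : ∀ x ∈ closure S, q x * q x = 1 := fun x hx => by
    induction hx using closure_induction with
    | mem x hx => exact h1 x hx
    | one => simp
    | mul x y hx hy a b => rw [map_mul, (c y hy x hx).mul_mul_mul_comm, a, b, mul_one]
    | inv x _ a => rw [map_inv, ← mul_inv_rev, a, inv_one]
  refine ⟨sq, c, fun r hr h3 x hx => ?_⟩
  induction hx using closure_induction with
  | mem x hx => exact h3 x hx
  | one => simp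
  | mul x y hx hy a b =>
    have a1 := c _ hy _ (hr x hx).1
    have a2 := c _ (mul_mem hy (hr y hy).1) _ (hr x hx).2
    simp only [map_mul, map_inv] at a1 a2 ⊢
    calc _ = q x * q y * (q r * q x * (q r)⁻¹ * (q r * q y * (q r)⁻¹)) *
        ((q r)⁻¹ * q x * q r * ((q r)⁻¹ * q y * q r)) := by group
      _ = 1 := by rw [a1.mul_mul_mul_comm, a2.mul_mul_mul_comm, a, b, mul_one]
  | inv x hx a => rwa [map_inv, inv_eq_of_mul_eq_one_right (sq x hx)]

variable {G : Type*} [Group G] [Finite G] {J : Subgroup G} {e : V → G} {φ : L →* G}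

theorem B.cent_t (h : B J e φ) (h4 : N4 J e) (hc : Cm e (φ s)) (hs : Cs J e (φ s))
    {π : G → Fin 3 → Equiv.Perm (Fin 3)} (hπ : Pi J e (φ s) π) :
    centralizer {φ s} ≤ T0 J e (φ s) := by
  have qf := h.qf hc
  have cT : ∀ g : centralizer {φ s}, g.1 * φ s = φ s * g := fun g =>
    mem_centralizer_singleton_iff.mp g.2
  have eT : ∀ v, e (ea v) ∈ centralizer {φ s} := fun v =>
    mem_centralizer_singleton_iff.mpr (h.ac_s.comm rfl).symm
  let t : centralizer {φ s} := ⟨φ s, mem_centralizer_singleton_iff.mpr rfl⟩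
  have ET : E e (φ s) ≤ T0 J e (φ s) := le_sup_left
  have RE : ∀ i, R e (φ s) i ≤ E e (φ s) := fun i => E_eq e (φ s) ▸ le_iSup (R e (φ s)) i
  have hE : (E e (φ s)).subgroupOf (centralizer {φ s}) =
      closure {x : centralizer {φ s} | ∃ i, x.1 ∈ R e (φ s) i} := by
    refine le_antisymm ?_ ((closure_le _).mpr fun x ⟨i, hi⟩ => RE i hi)
    rw [subgroupOf, ← map_le_map_iff_of_injective (subtype_injective _), E_eq]
    exact (map_comap_le _ _).trans (iSup_le fun i x hx =>
      ⟨⟨x, h.T0_le (ET (RE i hx))⟩, subset_closure ⟨i, hx⟩, rfl⟩)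
  have hZ : ∀ x : centralizer {φ s}, x.1 = 1 ∨ x.1 = φ s → x ∈ zpowers t := fun x hx => by
    rcases hx with e1 | e1
    exacts [(Subtype.ext e1 : x = 1) ▸ one_mem _, (Subtype.ext e1 : x = t) ▸ mem_zpowers _]
  have : (zpowers t).Normal := ⟨by
    rintro _ ⟨k, rfl⟩ g
    rw [← conj_zpow, show g * t * g⁻¹ = t from Subtype.ext (mul_inv_eq_iff_eq_mul.mpr (cT g))]
    exact ⟨k, rfl⟩⟩
  obtain ⟨g1, g2, g3⟩ := gen_facts (Z := zpowers t)
    (S := {x : centralizer {φ s} | ∃ i, x.1 ∈ R e (φ s) i})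
    (fun x ⟨i, hi⟩ => hZ _ (by
      rcases qf.sq i x hi with e1 | e1 | e1
      exacts [.inl (by simp [e1]), .inl (by simp [e1, h.tt]), .inr e1.1]))
    fun x ⟨i, hi⟩ y ⟨j, hj⟩ => hZ _ (by
      by_cases ij : i = j
      · subst ij
        refine ((qf.cm1 i x hi).2 y hj).imp (fun e1 => by simp [e1]) fun e1 => ?_
        have e2 : y.1 * x * φ s = _ := cT (y * x)
        simp only [coe_mul, coe_inv, e1, e2]
        group
      · exact .inl (by simp [qf.cm i j ij x hi y hj]))
  rw [← hE] at g1 g2 g3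
  have cjE : ∀ n ∈ T0 J e (φ s), ∀ x ∈ E e (φ s), n * x * n⁻¹ ∈ E e (φ s) := fun n hn x hx => by
    have a1 := mul_mem (mul_mem hn (ET hx)) (inv_mem hn)
    refine (hπ.ker _ a1).mp (mul_right_cancel (b := π n) ?_)
    rw [← hπ.mul _ a1 _ hn, inv_mul_cancel_right, hπ.mul _ hn _ (ET hx), (hπ.ker x (ET hx)).mpr hx]
    simp
  have JT : ∀ v, e (ea v) ∈ T0 J e (φ s) := fun v => mem_sup_right ⟨le_normalizer (h.par.mem' _), eT v⟩
  have key : CT ((T0 J e (φ s)).subgroupOf _) ((E e (φ s)).subgroupOf _) (J.subgroupOf _)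
      (fun v => ⟨e (ea v), eT v⟩) t fun x => π x :=
    { par := ⟨fun u v => Subtype.ext ((congrArg e ((by decide +kernel : ∀ u v, ea (u + v) = ea u + ea v)
          u v)).trans (h.par.add _ _)), fun u v e1 => (by decide +kernel : ∀ u v, ea u = ea v → u = v) u v
          (h.par.inj (congrArg Subtype.val e1)), fun g => ⟨fun hg => by
            obtain ⟨u, hu⟩ := (h.par.mem _).mp hg
            obtain ⟨v, rfl⟩ := (by decide +kernel : ∀ u : V, (u.1, u.2.1, u.2.2.2, u.2.2.1) = u →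
              ∃ v, ea v = u) u (h.ac_s.fix h.par (by rw [hu]; exact (cT g).symm))
            exact ⟨v, Subtype.ext hu⟩, fun ⟨v, hv⟩ => hv ▸ h.par.mem' _⟩⟩
      tt := Subtype.ext h.tt
      t1 := fun e1 => h.t1 (congrArg Subtype.val e1)
      ct := fun g => Subtype.ext (cT g)
      EH := fun x hx => ET hx
      AH := fun x hx => mem_sup_right ⟨le_normalizer hx, x.2⟩
      tE := RE 0 (qf.tR 0)
      mul := fun x hx y hy => hπ.mul x hx y hy
      ker := fun x hx => hπ.ker x hx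
      surj := fun σ => let ⟨x, hx, e1⟩ := hπ.surj σ; ⟨⟨x, h.T0_le hx⟩, hx, e1⟩
      val := hπ.val
      sq := g1
      cm := g2
      tr := fun k => g3 _ (fun x hx => ⟨cjE _ (JT _) _ hx, by
          simpa [mem_subgroupOf] using cjE _ (inv_mem (JT (ub k))) _ hx⟩) fun x ⟨i, hi⟩ => hZ _ (by
        have a1 : ∀ v, ∀ y ∈ R e (φ s) i, e (ea v) * y * (e (ea v))⁻¹ ∈ R e (φ s) i := fun v y hy =>
          h.mem_R.mpr ((by decide +kernel : ∀ i, ap (ms 0) (zs i) = zs i) i ▸ h.Q8_conj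
            (W4_le (ms_facts 0).1) ((ac_par h.par _).congr (by decide +kernel))
            (mem_centralizer_singleton_iff.mp (eT v)) (h.mem_R.mp hy))
        have a2 : (e (ea (ub k)))⁻¹ * x * e (ea (ub k)) = e (ea (ub k)) * (e (ea (ub k)) * x *
            (e (ea (ub k)))⁻¹) * (e (ea (ub k)))⁻¹ := by
          have := h.e3 (ea (ub k))
          generalize e (ea (ub k)) = r at *
          calc _ = r⁻¹ * r ^ 3 * x * (r ^ 3)⁻¹ * r := by rw [this]; group
            _ = _ := by simp [pow_succ, mul_assoc]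
        have a3 := a1 (ub k) _ hi
        have a4 := a2 ▸ a1 (ub k) _ a3
        refine h.R_fpf (u := ea (ub k)) rfl ((by decide +kernel : ∀ k i, ip (ea (ub k)) (zs i) ≠ 0) k i)
          (mul_mem (mul_mem hi a3) a4) ?_
        have a5 := (qf.cm1 i _ (mul_mem a3 a4)).2 x hi
        simp only [coe_mul, coe_inv]
        rw [← conj_mul, ← conj_mul, ← a2, mul_assoc (x : G)]
        convert a5 using 3 <;> group)
      gen := fun K hK => by
        have hq : φ qq ∈ R e (φ s) 0 := h.mem_R.mpr (h.q8.mpr ⟨qq, qq_QL.1.1, qq_QL.1.2, rfl⟩)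
        have q2 : φ qq * φ qq = φ s := by rw [← map_mul, s_facts.2.2.1]
        have := hK ⟨_, h.T0_le (ET (RE 0 hq))⟩ (RE 0 hq) (Subtype.ext q2)
        rw [hE, closure_le]
        rintro x ⟨i, hi⟩
        rcases qf.sq i x hi with e1 | e1 | e1
        · exact (Subtype.ext e1 : x = 1) ▸ one_mem K
        · exact (congrArg (· ∈ K) (Subtype.ext (q2.trans e1.symm))).mp (mul_mem this this)
        · exact hK x (RE i hi) (Subtype.ext e1.1)
      cw := fun v h0 h1 g c => by
        rcases (by decide +kernel : ∀ v, v ≠ 0 → (∀ i, v ≠ ub i ∧ v ≠ -ub i) → ea v ∈ sh ∨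
          (ea v ≠ 0 ∧ ip (ea v) (ea v) = 0)) v h0 h1 with e1 | e1
        · exact hs _ e1 rfl g (cT g) (congrArg Subtype.val c)
        · exact h.cent_zt rfl e1.1 e1.2 (cT g) (congrArg Subtype.val c)
      nA := fun g hg => by
        have a1 : g.1 ∈ normalizer (J : Set G) := h.wj.wn g (mem_top _) fun j hj => by
          refine (h.cent_A fun v => ?_).elim (·.norm h.par) (·.norm h.par)
          have := h.par.comm _ hj _ (mem_subgroupOf.mp
            (inv_conj_mem_of_mem_normalizer hg (n := ⟨e (ea v), eT v⟩) (h.par.mem' _)))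
          calc _ = g * (j * (g.1⁻¹ * e (ea v) * g)) * g.1⁻¹ := by group
            _ = _ := by simp only [coe_mul, coe_inv] at this; rw [this]; group
        obtain ⟨m, hm, a2⟩ := h4 g a1
        exact ⟨mem_sup_right ⟨a1, g.2⟩, h.cJ _ ((a2.mul a2).congr ((by decide +kernel : ∀ m ∈ W4,
          (∀ v, ap m (sw v) = sw (ap m v)) → ∀ v, ap m (ap m v) = v) m hm
          ((a2.mul h.ac_s).uniq h.par (cT g ▸ h.ac_s.mul a2))))⟩
      dec := fun g hg => by
        obtain ⟨f, hf, n, hn, e1⟩ := (mem_sup_of_right_le_normalizer fun n hn =>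
          mem_normalizer_of_conj_mem (cjE n (mem_sup_right hn))).mp hg
        exact ⟨⟨f, h.T0_le (ET hf)⟩, hf, ⟨n, hn.2⟩, mem_normalizer_of_conj_mem fun x hx =>
          mem_subgroupOf.mpr (conj_mem_of_mem_normalizer hn.1 hx), Subtype.ext e1.symm⟩ }
  exact subgroupOf_eq_top.mp key.eq_top

end Cfsg.Agent.O83
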