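import Cfsg.Agent.O83.CaD

/-! The centraliser of a short vector. -/

set_option autoImplicit false
set_option linter.unusedSectionVars false
set_option maxRecDepth 100000
set_option synthInstance.maxSize 4096

namespace Cfsg.Agent.O83

open Subgroup Cfsg.Agent.Char Cfsg.Agent.Local Cfsg.Agent.P43 Cfsg.Agent.P43.L Equiv

attribute [local irreducible] Mat.memN r1 r2 r3 z s sg qq eL Mat.cmul Mat.cinv W W3 W4
attribute [local instance 10000] List.decidableBAll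

universe u

variable {G : Type u} [Group G] {J : Subgroup G} {e : V → G} {φ : L →* G} {g n ι w d t p : G}

variable [Finite G]

namespace B

variable (h : B J e φ)
include h

theorem tr_cm {m : M} (hm : m ∈ W) (h1 : Ac e g (ap m)) (h2 : g * φ s = φ s * g) {u v : V} (c : CP e (φ s) u v) :
    CP e (φ s) (ap m u) (ap m v) := fun x hx y hy => by
  obtain ⟨k, hk, k1, k2⟩ := W_inv m hm
  have := c _ (k2 u ▸ h.Q8_conj hk (h1.inv k1) (Commute.inv_left h2).eq hx) _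
    (k2 v ▸ h.Q8_conj hk (h1.inv k1) (Commute.inv_left h2).eq hy)
  rwa [conj_mul, conj_mul, mul_left_inj, mul_right_inj] at this

theorem tr_cs {f : V → V} (h1 : Ac e g f) (h2 : g * φ s = φ s * g) {u : V} (c : SP J e (φ s) u) :
    SP J e (φ s) (f u) := fun k k1 k2 => by
  have k3 := h.mem_T0 h1 h2
  have := c (g⁻¹ * k * g) (((Commute.inv_left h2).mul_left k1).mul_left h2).eq (by
    rw [← h1] at k2
    calc _ = g⁻¹ * (k * (g * e u * g⁻¹)) * g := by group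
      _ = _ := by rw [k2]; group)
  rwa [mul_mem_cancel_right k3, mul_mem_cancel_left (inv_mem k3)] at this

theorem exists_n (hι : Ac e ι fun v => -v) (h1 : φ s * ι = ι * φ s) : ∃ n, Nn e φ n ∧ n * ι = ι * n := by
  obtain ⟨m1, -, m3, m4⟩ := ms_facts 1
  obtain ⟨g, hg⟩ := h.real _ m1
  obtain ⟨v, h2, h3⟩ := h.lift hι hg
  exact ⟨_, ⟨h2, h.lift_sq hι h2 h3 m4, h.lift_cm hι h2 h.ac_s h3 h1 m3⟩, h3⟩

theorem Q81 (hn : Nn e φ n) {y : G} (hy : y ∈ Q8 e (φ s) (zs 1)) : ∃ l ∈ QL, y = n * φ l * n⁻¹ := by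
  have := h.Q8_conj (W4_le (ms_facts 1).1) hn.act hn.ns hy
  rw [show ap (ms 1) (zs 1) = zs 0 by decide] at this
  obtain ⟨l, l1, l2, l3⟩ := h.q8.mp this
  exact ⟨l, ⟨l1, l2⟩, by
    rw [← l3, show n * (n * y * n⁻¹) * n⁻¹ = n * n * y * (n * n)⁻¹ by group, hn.nn]; simp⟩

theorem cp_of (hn : Nn e φ n) (c : Commute (φ qq) (n * φ qq * n⁻¹)) : CP e (φ s) (zs 0) (zs 1) := by
  have k : ∀ y ∈ Q8 e (φ s) (zs 1), Commute (φ qq) y → ∀ l ∈ QL, Commute (φ l) y := fun y hy c l hl => by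
    have c1 : Commute (φ r1) y := by
      rw [← eL_val.1, h.ee]; exact (hy.2.2 _ rfl (by decide)).symm
    have c2 : Commute (φ s) y := hy.1.symm
    have := (QL_facts l hl.1 hl.2).2.2.1
    simp only [List.mem_cons, List.not_mem_nil, or_false] at this
    rcases this with rfl | rfl | rfl | rfl | rfl | rfl | rfl | rfl <;> try simp only [map_mul, map_inv, map_one]
    exacts [Commute.one_left y, c2, c, c.mul_left c2, (c1.mul_left c).mul_left c1.inv_left,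
      ((c1.mul_left c).mul_left c1.inv_left).mul_left c2, (c1.inv_left.mul_left c).mul_left c1,
      ((c1.inv_left.mul_left c).mul_left c1).mul_left c2]
  intro x hx y hy
  obtain ⟨l, l1, l2, rfl⟩ := h.q8.mp hx
  refine k y hy ?_ l ⟨l1, l2⟩
  obtain ⟨o, ho, rfl⟩ := h.Q81 hn hy
  have k1 := h.Q8_conj (W4_le (ms_facts 1).1) hn.act hn.ns (h.q8.mpr ⟨qq, qq_QL.1.1, qq_QL.1.2, rfl⟩)
  rw [(ms_facts 1).2.1] at k1
  have := (Commute.conj_iff n).mpr (k _ k1 c o ho).symm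
  rwa [show n * (n * φ qq * n⁻¹) * n⁻¹ = n * n * φ qq * (n * n)⁻¹ by group, hn.nn, one_mul, inv_one, mul_one] at this

theorem co3 {k : ℕ} (hk : Nat.Coprime 3 k) : (orderOf (e (1, 0, 0, 0))).Coprime k := by
  rwa [h.oe (by decide)]

theorem aT : e (1, 0, 0, 0) ∈ T0 J e (φ s) := h.mem_T0 (ac_par h.par _) (h.ca s).symm

theorem lift_q {X : Type u} [Group X] [Finite X] {π : G → X} (S : Sx J e φ (e (1, 0, 0, 0)) π) (hn : Nn e φ n)
    (c : S.ψ qq * (π n * S.ψ qq * (π n)⁻¹) = π n * S.ψ qq * (π n)⁻¹ * S.ψ qq) :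
    CP e (φ s) (zs 0) (zs 1) ∧ IsConj n (φ qq * (n * φ qq * n⁻¹)) := by
  have hx : Commute n (e (1, 0, 0, 0)) := hn.act.comm rfl
  have c1 : Commute (n * φ qq * n⁻¹) (e (1, 0, 0, 0)) := (hx.mul_left (h.ca qq)).mul_left hx.inv_left
  have q4 : φ qq ^ 4 = 1 := by rw [← map_pow, qq_QL.1.2, map_one]
  have c2 : Commute (φ qq) (n * φ qq * n⁻¹) := S.cm_of_pow (h.co3 (k := 4) (by decide)) (h.ca qq) c1
    (by rw [conj_pow, q4]; simp) (by rwa [S.qn hx] at c)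
  refine ⟨h.cp_of hn c2, ?_⟩
  obtain ⟨q, hq⟩ := isConj_iff.mp (HN_conj (S.hn hx hn.act hn.nn hn.ns) c)
  obtain ⟨k, hk, rfl⟩ := S.surj q
  refine isConj_iff.mpr ⟨k, S.eq_of_pow (h.co3 (k := 4) (by decide)) ((hk.mul_left hx).mul_left hk.inv_left)
    (Commute.mul_left (h.ca qq) c1) ?_ ?_ ?_⟩
  · rw [conj_pow, pow_four_of_sq hn.nn]; simp
  · rw [c2.mul_pow, conj_pow, q4]; simp
  · rw [S.cj hk hx, hq, S.qn hx, S.mul _ _ (h.ca qq) c1]; rfl

theorem ls_a {X : Type u} [Group X] {π : G → X} (S : Sec (e (1, 0, 0, 0)) π) (hg : Commute g (e (1, 0, 0, 0)))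
    (c : π g * π (φ s) = π (φ s) * π g) : g * φ s = φ s * g :=
  S.cm_of_pow (h.co3 (k := 2) (by decide)) hg (h.ca s) (by rw [sq, h.tt]) c

theorem ca1 (h4 : N4 J e) : CP e (φ s) (zs 0) (zs 1) ∧ SP J e (φ s) (1, 0, 0, 0) := by
  obtain ⟨X, _, _, π, S'⟩ := exists_sec (e (1, 0, 0, 0))
  have S := h.sx_a S'
  obtain ⟨ι, i1, i2⟩ := h.iota
  obtain ⟨n, hn, -⟩ := h.exists_n i1 i2
  have hx : Commute n (e (1, 0, 0, 0)) := hn.act.comm rfl
  have R : NR S.ψ (π n) := ⟨S.hn hx hn.act hn.nn hn.ns, fun q hq => by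
    obtain ⟨g, hg, rfl⟩ := S.surj q
    obtain ⟨m, hm, h1⟩ := h4 g (S.nrm hg hq)
    obtain ⟨h2, h3⟩ := (by decide +kernel : ∀ m ∈ W4, ap m (1, 0, 0, 0) = (1, 0, 0, 0) →
      (pr (ap m (emb (1, 0, 0))), pr (ap m (emb (0, 1, 0))), pr (ap m (emb (0, 0, 1)))) ∈ act24 ∧ ∀ v, ap m (emb v) =
        emb (lin (pr (ap m (emb (1, 0, 0))), pr (ap m (emb (0, 1, 0))), pr (ap m (emb (0, 0, 1)))) v)) m hm
          (h1.fix h.par hg.eq)
    exact ⟨_, h2, S.acts hg h1 h3⟩⟩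
  obtain ⟨M, K, -, -, -, -, -, -, -, -, k5⟩ := R.exists_K
  exact ⟨(h.lift_q S hn k5).1, fun g g1 g2 => S.of_img h.aT g2 (NR_cs R S.gens.1 S.gens.2.1 S.gens.2.2
    ⟨n, h.mem_T0 hn.act hn.ns, hx, rfl⟩ (mem_centralizer_singleton_iff.mpr (S.cm g2 (h.ca s) g1)))⟩

theorem sym (c : CP e (φ s) (zs 0) (zs 1)) : ∀ k ∈ [ms 0, ms 2], CP e (φ s) (ap k (zs 0)) (ap k (zs 1)) := by
  obtain ⟨g, g1, g2, -⟩ := h.exR 2
  simp only [List.forall_mem_cons, ms0]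
  exact ⟨c, h.tr_cm (W4_le (ms_facts 2).1) g1 g2 c, by simp⟩

theorem sym' (c : SP J e (φ s) (1, 0, 0, 0)) : ∀ k ∈ [ms 0, ms 2], SP J e (φ s) (ap k (1, 0, 0, 0)) := by
  obtain ⟨g, g1, g2, -⟩ := h.exR 2
  simp only [List.forall_mem_cons, ms0]
  exact ⟨c, h.tr_cs g1 g2 c, by simp⟩

theorem x_lift {X : Type u} [Group X] [Finite X] {π : G → X} (S : Sx J e φ (e (1, 0, 0, 0)) π)
    (hg : Commute g (e (1, 0, 0, 0))) :
    π g * P43.ee S.ψ (0, 2, 2) = P43.ee S.ψ (0, 2, 2) * π g ↔ Commute g (e (0, 1, 0, 0)) := by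
  have h0 : e (emb (0, 2, 2)) = (e (0, 1, 0, 0))⁻¹ := h.par.neg (0, 1, 0, 0)
  rw [S.ee', ← Commute.inv_right_iff, ← h0]
  refine ⟨fun c => ?_, S.cm hg (S.ce _)⟩
  obtain ⟨k, hk, h1⟩ := S.cm' hg (S.ce _) c
  obtain ⟨i, rfl⟩ := h.zp_a hk
  rw [← h.par.add] at h1
  obtain ⟨-, m, hm, -, h2⟩ := h.fus h1
  obtain rfl := (by decide : ∀ i : ZMod 3, ip (emb (0, 2, 2) + (i, 0, 0, 0)) (emb (0, 2, 2) + (i, 0, 0, 0)) =
    ip (emb (0, 2, 2)) (emb (0, 2, 2)) → i = 0) i (by rw [← h2, ip_ap hm])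
  exact mul_inv_eq_iff_eq_mul.mp h1

theorem ca2 (hw : Ww e φ w) (i1 : Ac e ι fun v => -v) (i2 : φ s * ι = ι * φ s) (i3 : w * ι = ι * w) (hn : Nn e φ n)
    (i4 : n * ι = ι * n) : (CP e (φ s) (zs 0) (zs 1) ∧ IsConj n (φ qq * (n * φ qq * n⁻¹))) ∧
      (HL J e → SP J e (φ s) (1, 0, 0, 0)) ∧ (HL J e ∨ ∃ p, S6G e φ n p) := by
  obtain ⟨X, _, _, π, S'⟩ := exists_sec (e (1, 0, 0, 0))
  have S := h.sx_a S'
  have hx : Commute n (e (1, 0, 0, 0)) := hn.act.comm rfl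
  have a1 := i1.mul hw.act
  have wn : w * n = n * w := h.lift_cm i1 hw.act hn.act i3 i4 (by decide +kernel)
  obtain ⟨τ, R⟩ := S.rr hx hn.act hn.nn hn.ns (ι := ι * w) (a1.comm (by decide)) a1 (by decide +kernel)
    (by rw [mul_assoc, ← mul_assoc w, i3, mul_assoc, hw.ww, mul_one, h.ii i1])
    (Commute.mul_left i2.symm (hw.cm s)).eq (Commute.mul_left i4.symm wn).eq
  obtain ⟨-, m2, m3⟩ := R.main
  refine ⟨h.lift_q S hn m2, fun hL g g1 g2 => S.rr_cs R hx hn.act hn.ns h.aT (fun k => h.ls_a S')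
    (fun k k1 k2 k3 => mem_sup_right ⟨hL k k1 ((h.x_lift S k1).mp k3), mem_centralizer_singleton_iff.mpr k2⟩) g2 g1,
    R.dich.imp (fun hD g g1 g2 => S.nrm g1 (hD _ ((h.x_lift S g1).mpr g2))) fun ⟨Y, ψ, hD⟩ => ?_⟩
  have c2 : ψ (swap 1 2) = π (n * φ (s * eL (1, 2, 2))) := by
    rw [S.mul _ _ hx (h.ca _), ← S.ψ_apply, map_mul, ← mul_assoc, ← hD.s1, ← P43.ee, ← hD.y, ← map_mul]
    exact congrArg ψ (by decide)
  have c3 : ψ (swap 3 4) = π (φ (eL (0, 1, 2) * s)) := by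
    rw [← S.ψ_apply, map_mul, ← hD.s5, ← P43.ee, ← hD.w, ← map_mul]
    exact congrArg ψ (by decide)
  have o2 := h.co3 (k := 2) (by decide)
  obtain ⟨k, hk, k1⟩ := S.surj (ψ (swap 2 3))
  obtain ⟨p, hp, pp, p1⟩ : ∃ p, Commute p (e (1, 0, 0, 0)) ∧ p * p = 1 ∧ π p = ψ (swap 2 3) := by
    obtain ⟨i, hi⟩ := h.zp_a ((S.ker _ (hk.pow_left 2)).mp (by
      rw [S.pow hk, k1, ← map_pow, sq, swap_mul_self, map_one]))
    refine ⟨k ^ 3, hk.pow_left 3, by rw [← pow_two, ← pow_mul, mul_comm, pow_mul, hi, h.e3], ?_⟩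
    rw [S.pow hk, k1, ← map_pow]; exact congrArg ψ (by decide)
  have s1 : φ (eL (0, 1, 2) * s) * φ (eL (0, 1, 2) * s) = 1 := by
    rw [← map_mul, ← map_one φ]; exact congrArg φ (by decide +kernel)
  have c4 := hx.mul_left (h.ca (s * eL (1, 2, 2)))
  have s3 : n * φ (s * eL (1, 2, 2)) * (n * φ (s * eL (1, 2, 2))) = 1 := by
    have := (hn.act.mul h.ac_s) (emb (1, 2, 2))
    rw [map_mul, h.ee, ← mul_assoc n, mul_assoc (n * φ s), ← mul_assoc (e _), ← mul_assoc, ← mul_assoc,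
      mul_inv_eq_iff_eq_mul.mp this, mul_assoc (e _), (Commute.mul_mul_mul_comm hn.ns.symm n (φ s)), hn.nn, h.tt,
      mul_one, mul_one, ← h.par.add]
    exact h.par.zero
  have br : ∀ {a b : G}, Commute a (e (1, 0, 0, 0)) → Commute b (e (1, 0, 0, 0)) → a * a = 1 → b * b = 1 →
      (π a * π b) ^ 3 = 1 → (a * b) ^ 3 = 1 := fun {a b} ha hb aa bb c => by
    have c1 := S.eq_of_pow o2 ((ha.mul_left hb).mul_left ha.inv_left) ((hb.mul_left ha).mul_left hb.inv_left)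
      (by rw [conj_pow, sq, bb]; simp) (by rw [conj_pow, sq, aa]; simp) (by
        have a2 : π a * π a = 1 := by rw [← S.mul _ _ ha ha, aa, S.one]
        have b2 : π b * π b = 1 := by rw [← S.mul _ _ hb hb, bb, S.one]
        rw [S.cj ha hb, S.cj hb ha, inv_eq_of_mul_eq_one_right a2, inv_eq_of_mul_eq_one_right b2, br_of a2 b2 c])
    rw [inv_eq_of_mul_eq_one_right aa, inv_eq_of_mul_eq_one_right bb] at c1
    rw [show (a * b) ^ 3 = a * b * a * (b * a * b) by simp only [pow_succ, pow_zero, one_mul, mul_assoc], ← c1,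
      show a * b * a * (a * b * a) = a * (b * (a * a) * b) * a by group, aa, mul_one, bb, mul_one, aa]
  have cm : ∀ {b : G} {σ : S6}, Commute b (e (1, 0, 0, 0)) → b * b = 1 → π b = ψ σ → swap 2 3 * σ = σ * swap 2 3 →
      Commute p b := fun hb bb b1 c => S.cm_of_pow o2 hp hb (by rw [sq, bb]) (by rw [p1, b1, ← map_mul, c, map_mul])
  have pt := cm (h.ca s) h.tt hD.s5.symm (by decide)
  have pn := cm hx hn.nn hD.n6.symm (by decide)
  have hv := (hx.mul_left (h.ca s)).mul_left hp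
  have v1 : π (n * φ s * p) = ψ v6 := by
    rw [S.mul _ _ (hx.mul_left (h.ca s)) hp, S.mul _ _ hx (h.ca s), p1, ← S.ψ_apply, ← hD.s1, ← map_mul]; rfl
  have vv : (n * φ s * p) ^ 2 = 1 := by
    rw [(pn.mul_right pt).symm.mul_pow, Commute.mul_pow hn.ns, sq, sq, sq, hn.nn, h.tt, pp]; simp
  refine ⟨p, pp, hp, (h.x_lift S hp).mp (p1 ▸ hD.cx _), pt, pn, br hp (h.ca _) pp s1 ?_, br hp c4 pp s3 ?_,
    fun q q0 q1 q2 q3 q4 q5 q6 => ?_, (S.cm_of_pow o2 (h.ca qq) hv vv (v1 ▸ m3 Y ψ hD)).symm, ?_⟩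
  · rw [p1, ← c3, ← map_mul, ← map_pow, ← map_one ψ]; exact congrArg ψ (by decide)
  · rw [p1, ← c2, ← map_mul, ← map_pow, ← map_one ψ]; exact congrArg ψ (by decide)
  · have q7 : π q * π q = 1 := by rw [← S.mul _ _ q1 q1, q0, S.one]
    obtain ⟨σ, hσ⟩ := (hD.ran _).mp (hD.inv ((h.x_lift S q1).mpr q2) (pow_four_of_sq q7))
    have σ2 : σ * σ = 1 := hD.inj (by rw [map_mul, hσ, q7, map_one])
    refine S.eq_of_pow o2 q1 hp (by rw [sq, q0]) (by rw [sq, pp]) ?_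
    rw [p1, ← hσ, (s6_facts σ).1 (hD.cm' ?_) (hD.cm' ?_) (br_of σ2 (swap_mul_self _ _) (hD.inj ?_)).symm
      (br_of σ2 (swap_mul_self _ _) (hD.inj ?_))]
    · rw [hσ, hD.s1, S.ψ_apply, ← S.mul _ _ hx (h.ca s)]
      exact S.cm q1 (hx.mul_left (h.ca s)) (q4.mul_right q3)
    · rw [hσ, hD.s5]; exact S.cm q1 (h.ca s) q3
    · rw [map_pow, map_mul, hσ, c2, ← S.mul _ _ q1 c4, ← S.pow (q1.mul_left c4), q6, S.one, map_one]
    · rw [map_pow, map_mul, hσ, c3, ← S.mul _ _ q1 (h.ca _), ← S.pow (q1.mul_left (h.ca _)), q5, S.one, map_one]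
  · generalize n * φ s * p = v at hv v1 vv
    have hy : Commute (e (0, 0, 2, 2)) (e (1, 0, 0, 0)) := h.ecm _ _
    have y1 : π (e (0, 0, 2, 2)) = ψ y6 := (S.ee' (1, 2, 2)).symm.trans hD.y.symm
    generalize e (0, 0, 2, 2) = y at hy y1
    have hv' := (hy.mul_left hv).mul_left hy.inv_left
    have vv' : (y * v * y⁻¹) ^ 2 = 1 := by rw [conj_pow, vv]; simp
    have c5 : Commute v (y * v * y⁻¹) := S.cm_of_pow o2 hv hv' vv' (by
      rw [S.cj hy hv, v1, y1, ← map_inv, ← map_mul, ← map_mul, ← map_mul, ← map_mul]; exact congrArg ψ (by decide))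
    rw [S.eq_of_pow o2 (hv.mul_left hv') ((hy.inv_left.mul_left hv).mul_left hy) (by rw [c5.mul_pow, vv, vv', mul_one])
      (by simpa using conj_pow (i := 2) (a := y⁻¹) (b := v) |>.trans (by rw [vv]; simp)) ?_, ← sq]
    · simpa using conj_pow (i := 2) (a := y⁻¹) (b := v) |>.trans (by rw [vv]; simp)
    rw [S.mul _ _ hv hv', S.cj hy hv, S.mul _ _ (hy.inv_left.mul_left hv) hy, S.mul _ _ hy.inv_left hv, S.inv hy, v1, y1]
    simp only [← map_inv, ← map_mul]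
    exact congrArg ψ (by decide)

end B

theorem B3.cm_cs (h : B3 J e φ) (h4 : N4 J e) : Cm e (φ s) ∧ Cs J e (φ s) := by
  have key : ∀ m ∈ [ms 0, δ, mm δ δ], ∀ k ∈ [ms 0, ms 2], CP e (φ s) (ap m (ap k (zs 0))) (ap m (ap k (zs 1))) ∧
      SP J e (φ s) (ap m (ap k (1, 0, 0, 0))) := by
    have k1 : ∀ m ∈ W, (∀ u : V, (ap m u).2.2.1 = (ap m u).2.2.2 ↔ u.2.2.1 = u.2.2.2) →
        (∀ i, ∃ j, ap m (zs i) = zs j ∨ ap m (zs i) = -zs j) → (∀ k ∈ W, mm m k ∈ W3 → fr (mm m k).1 = fr m.1 → k ∈ W4) →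
        m ∈ W3 → (∃ ψ, B J (fun v => e (ap m v)) ψ ∧ ψ s = φ s) → ∀ k ∈ [ms 0, ms 2],
        CP e (φ s) (ap m (ap k (zs 0))) (ap m (ap k (zs 1))) ∧ SP J e (φ s) (ap m (ap k (1, 0, 0, 0))) := by
      rintro m hm m1 m2 m3 m4 ⟨ψ, h', hs⟩ k hk
      obtain ⟨c1, c2⟩ := h'.ca1 fun g hg => by
        obtain ⟨a, ha, a1⟩ := h4 g hg
        obtain ⟨b, hb, b1⟩ := h'.nor g hg
        have : mm m b = mm a m := ap_ext fun v => by
          rw [ap_mm, ap_mm]; exact h.par.inj ((b1 v).symm.trans (a1 _))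
        exact ⟨b, m3 b hb (this ▸ (wf_mm3 (wf_43 ha) m4).1) (by
          rw [this, (wf_mm3 (wf_43 ha) m4).2, (mem_W4.mp ha).2.1, zero_add]), b1⟩
      have c3 := h'.sym c1 k hk
      rw [CP, Q8_tw hm m1, Q8_tw hm m1, hs] at c3
      exact ⟨c3, fun g g1 g2 => T0_tw hm m1 m2 (hs ▸ h'.sym' c2 k hk g (hs ▸ g1) g2)⟩
    have k2 : ∀ m ∈ W3, ∀ k ∈ W, mm m k ∈ W3 → fr (mm m k).1 = fr m.1 → k ∈ W4 := fun m hm k hk c1 c2 => by
      have c3 := wf_fr hm (wf_sh1 hk)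
      have c4 := wf_fr hm (wf_sh hk (show (1, 1, 1, 1) ∈ sh by decide))
      have c5 := (mem_W3.mp c1).2
      rw [ap_mm, c4, c2] at c5
      exact mem_W4.mpr ⟨hk, by simpa using c2.symm.trans c3, add_left_cancel c5⟩
    have d2 := (wf_mm3 wf_δ.1 wf_δ.1).1
    simp only [List.forall_mem_cons (a := ms 0) (l := [δ, _]), List.forall_mem_cons (a := δ), List.forall_mem_singleton]
    refine ⟨fun k hk => ?_, k1 δ δ_mem δ_facts.1 δ_facts.2.1 (k2 _ wf_δ.1) wf_δ.1 h.tw1,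
      k1 _ (W3_le d2) δ_facts.2.2.1 δ_facts.2.2.2.1 (k2 _ d2) d2 (by simpa only [ap_mm] using h.tw2)⟩
    simp only [ms0]
    exact ⟨h.toB.sym (h.toB.ca1 h4).1 k hk, h.toB.sym' (h.toB.ca1 h4).2 k hk⟩
  exact ⟨cm_of fun m hm k hk => (key m hm k hk).1, cs_of h.par fun m hm k hk => (key m hm k hk).2⟩

end Cfsg.Agent.O83
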