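import Cfsg.Agent.O83.Def

/-! Finite facts on the Weyl groups of types `D₄` and `F₄` used for the index three subgroup. -/

set_option autoImplicit false
set_option maxRecDepth 100000
set_option synthInstance.maxSize 4096

namespace Cfsg.Agent.O83

open Subgroup Cfsg.Agent.Char Cfsg.Agent.P43 Cfsg.Agent.P43.L

attribute [local irreducible] Mat.memN r1 r2 r3 z s sg qq eL Mat.cmul Mat.cinv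
attribute [local instance 10000] List.decidableBAll

/-- The identity matrix. -/
def wfI : M := ((1, 0, 0, 0), (0, 1, 0, 0), (0, 0, 1, 0), (0, 0, 0, 1))

/-- The swap of the last two coordinates. -/
def wfS : M := ((1, 0, 0, 0), (0, 1, 0, 0), (0, 0, 0, 1), (0, 0, 1, 0))

/-- The reflection in the first basis vector. -/
def wfR : M := ((2, 0, 0, 0), (0, 1, 0, 0), (0, 0, 1, 0), (0, 0, 0, 1))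

/-- Minus the identity. -/
def wfN : M := ((2, 0, 0, 0), (0, 2, 0, 0), (0, 0, 2, 0), (0, 0, 0, 2))

/-- The long reflections. -/
def wfRefl : List M :=
  [((0, 2, 0, 0), (2, 0, 0, 0), (0, 0, 1, 0), (0, 0, 0, 1)), ((0, 1, 0, 0), (1, 0, 0, 0), (0, 0, 1, 0), (0, 0,
  0, 1)), ((0, 0, 2, 0), (0, 1, 0, 0), (2, 0, 0, 0), (0, 0, 0, 1)), ((0, 0, 1, 0), (0, 1, 0, 0), (1, 0, 0, 0),
  (0, 0, 0, 1)), ((0, 0, 0, 2), (0, 1, 0, 0), (0, 0, 1, 0), (2, 0, 0, 0)), ((0, 0, 0, 1), (0, 1, 0, 0), (0, 0,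
  1, 0), (1, 0, 0, 0)), ((1, 0, 0, 0), (0, 0, 2, 0), (0, 2, 0, 0), (0, 0, 0, 1)), ((1, 0, 0, 0), (0, 0, 1, 0),
  (0, 1, 0, 0), (0, 0, 0, 1)), ((1, 0, 0, 0), (0, 0, 0, 2), (0, 0, 1, 0), (0, 2, 0, 0)), ((1, 0, 0, 0), (0, 0,
  0, 1), (0, 0, 1, 0), (0, 1, 0, 0)), ((1, 0, 0, 0), (0, 1, 0, 0), (0, 0, 0, 2), (0, 0, 2, 0)), ((1, 0, 0, 0),
  (0, 1, 0, 0), (0, 0, 0, 1), (0, 0, 1, 0))]

/-- Words in the long reflections. -/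
def wfWords : List (List ℕ) :=
  [[], [11, 10], [11], [10], [9, 8], [7, 6], [10, 7, 6], [11, 7, 6], [7], [11, 10, 6], [9, 7], [8, 7], [9, 8,
  6], [6], [8, 6], [9, 6], [11, 7], [10, 6], [9], [8, 7, 6], [10, 7], [11, 6], [8], [9, 7, 6], [5, 4], [3, 2],
  [10, 3, 2], [11, 3, 2], [1, 0], [11, 10, 1, 0], [11, 1, 0], [10, 1, 0], [7, 5, 4], [6, 1, 0], [8, 6, 1, 0],
  [9, 6, 1, 0], [7, 1, 0], [6, 5, 4], [9, 7, 1, 0], [8, 7, 1, 0], [10, 7, 1, 0], [11, 6, 1, 0], [8, 1, 0], [9,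
  3, 2], [11, 7, 1, 0], [10, 6, 1, 0], [9, 1, 0], [8, 3, 2], [1], [11, 10, 1], [11, 1], [10, 1], [9, 8, 0],
  [7, 6, 0], [10, 7, 6, 0], [11, 7, 6, 0], [3, 1], [9, 8, 2, 0], [5, 3, 1], [4, 3, 1], [9, 8, 3, 0], [2, 1],
  [4, 2, 1], [5, 2, 1], [11, 3, 1], [10, 2, 1], [5, 1], [7, 6, 4, 0], [10, 3, 1], [11, 2, 1], [4, 1], [7, 6,
  5, 0], [5, 4, 0], [3, 2, 0], [10, 3, 2, 0], [11, 3, 2, 0], [0], [11, 10, 0], [11, 0], [10, 0], [5, 4, 2, 0],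
  [2, 0], [4, 2, 0], [5, 2, 0], [3, 0], [11, 10, 2, 0], [5, 3, 0], [4, 3, 0], [10, 3, 0], [11, 2, 0], [4, 0],
  [5, 3, 2, 0], [11, 3, 0], [10, 2, 0], [5, 0], [4, 3, 2, 0], [7, 1], [6, 5, 4, 0], [9, 7, 1], [8, 7, 1], [9,
  8, 6, 0], [6, 0], [8, 6, 0], [9, 6, 0], [3], [11, 10, 2], [5, 3], [4, 3], [9, 8, 3], [2, 1, 0], [4, 2, 1,
  0], [5, 2, 1, 0], [9, 3], [8, 2, 1, 0], [7, 5, 1], [6, 4, 0], [8, 3], [9, 2, 1, 0], [7, 4, 1], [6, 5, 0],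
  [7, 5, 4, 0], [6, 1], [8, 6, 1], [9, 6, 1], [7, 0], [11, 10, 6, 0], [9, 7, 0], [8, 7, 0], [5, 4, 2], [2],
  [4, 2], [5, 2], [3, 1, 0], [9, 8, 2], [5, 3, 1, 0], [4, 3, 1, 0], [8, 3, 1, 0], [9, 2], [7, 4, 0], [6, 5,
  1], [9, 3, 1, 0], [8, 2], [7, 5, 0], [6, 4, 1], [11, 7, 1], [10, 6, 1], [9, 1], [8, 3, 2, 0], [10, 7, 0],
  [11, 6, 0], [8, 0], [9, 7, 6, 0], [11, 3], [10, 2], [5], [4, 3, 2], [10, 3, 1, 0], [11, 2, 1, 0], [4, 1, 0],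
  [7, 6, 5], [9, 3, 1], [8, 2, 0], [7, 5], [6, 4, 1, 0], [8, 3, 0], [9, 2, 1], [7, 4, 1, 0], [6, 5], [10, 7,
  1], [11, 6, 1], [8, 1], [9, 3, 2, 0], [11, 7, 0], [10, 6, 0], [9, 0], [8, 7, 6, 0], [10, 3], [11, 2], [4],
  [5, 3, 2], [11, 3, 1, 0], [10, 2, 1, 0], [5, 1, 0], [7, 6, 4], [8, 3, 1], [9, 2, 0], [7, 4], [6, 5, 1, 0],
  [9, 3, 0], [8, 2, 1], [7, 5, 1, 0], [6, 4]]

/-- The value of a word. -/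
def wfEv : List ℕ → M
  | [] => wfI
  | i :: w => mm (wfRefl.getD i wfI) (wfEv w)

/-- The matrices of order dividing three. -/
def wfT : List M :=
  [((1, 0, 0, 0), (0, 1, 0, 0), (0, 0, 1, 0), (0, 0, 0, 1)), ((1, 0, 0, 0), (0, 0, 1, 0), (0, 0, 0, 1), (0, 1,
  0, 0)), ((1, 0, 0, 0), (0, 0, 1, 0), (0, 0, 0, 2), (0, 2, 0, 0)), ((1, 0, 0, 0), (0, 0, 2, 0), (0, 0, 0, 1),
  (0, 2, 0, 0)), ((1, 0, 0, 0), (0, 0, 2, 0), (0, 0, 0, 2), (0, 1, 0, 0)), ((1, 0, 0, 0), (0, 0, 0, 1), (0, 1,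
  0, 0), (0, 0, 1, 0)), ((1, 0, 0, 0), (0, 0, 0, 1), (0, 2, 0, 0), (0, 0, 2, 0)), ((1, 0, 0, 0), (0, 0, 0, 2),
  (0, 1, 0, 0), (0, 0, 2, 0)), ((1, 0, 0, 0), (0, 0, 0, 2), (0, 2, 0, 0), (0, 0, 1, 0)), ((0, 1, 0, 0), (0, 0,
  1, 0), (1, 0, 0, 0), (0, 0, 0, 1)), ((0, 1, 0, 0), (0, 0, 2, 0), (2, 0, 0, 0), (0, 0, 0, 1)), ((0, 1, 0, 0),
  (0, 0, 0, 1), (0, 0, 1, 0), (1, 0, 0, 0)), ((0, 1, 0, 0), (0, 0, 0, 2), (0, 0, 1, 0), (2, 0, 0, 0)), ((0, 2,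
  0, 0), (0, 0, 1, 0), (2, 0, 0, 0), (0, 0, 0, 1)), ((0, 2, 0, 0), (0, 0, 2, 0), (1, 0, 0, 0), (0, 0, 0, 1)),
  ((0, 2, 0, 0), (0, 0, 0, 1), (0, 0, 1, 0), (2, 0, 0, 0)), ((0, 2, 0, 0), (0, 0, 0, 2), (0, 0, 1, 0), (1, 0,
  0, 0)), ((0, 0, 1, 0), (1, 0, 0, 0), (0, 1, 0, 0), (0, 0, 0, 1)), ((0, 0, 1, 0), (2, 0, 0, 0), (0, 2, 0, 0),
  (0, 0, 0, 1)), ((0, 0, 1, 0), (0, 1, 0, 0), (0, 0, 0, 1), (1, 0, 0, 0)), ((0, 0, 1, 0), (0, 1, 0, 0), (0, 0,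
  0, 2), (2, 0, 0, 0)), ((0, 0, 2, 0), (1, 0, 0, 0), (0, 2, 0, 0), (0, 0, 0, 1)), ((0, 0, 2, 0), (2, 0, 0, 0),
  (0, 1, 0, 0), (0, 0, 0, 1)), ((0, 0, 2, 0), (0, 1, 0, 0), (0, 0, 0, 1), (2, 0, 0, 0)), ((0, 0, 2, 0), (0, 1,
  0, 0), (0, 0, 0, 2), (1, 0, 0, 0)), ((0, 0, 0, 1), (1, 0, 0, 0), (0, 0, 1, 0), (0, 1, 0, 0)), ((0, 0, 0, 1),
  (2, 0, 0, 0), (0, 0, 1, 0), (0, 2, 0, 0)), ((0, 0, 0, 1), (0, 1, 0, 0), (1, 0, 0, 0), (0, 0, 1, 0)), ((0, 0,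
  0, 1), (0, 1, 0, 0), (2, 0, 0, 0), (0, 0, 2, 0)), ((0, 0, 0, 2), (1, 0, 0, 0), (0, 0, 1, 0), (0, 2, 0, 0)),
  ((0, 0, 0, 2), (2, 0, 0, 0), (0, 0, 1, 0), (0, 1, 0, 0)), ((0, 0, 0, 2), (0, 1, 0, 0), (1, 0, 0, 0), (0, 0,
  2, 0)), ((0, 0, 0, 2), (0, 1, 0, 0), (2, 0, 0, 0), (0, 0, 1, 0)), ((1, 1, 1, 1), (2, 1, 1, 2), (2, 2, 1, 1),
  (2, 1, 2, 1)), ((1, 1, 1, 1), (2, 1, 2, 1), (2, 1, 1, 2), (2, 2, 1, 1)), ((1, 1, 1, 1), (2, 2, 1, 1), (2, 1,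
  2, 1), (2, 1, 1, 2)), ((1, 1, 2, 2), (2, 1, 1, 2), (1, 2, 1, 2), (1, 1, 1, 1)), ((1, 1, 2, 2), (2, 1, 2, 1),
  (1, 1, 1, 1), (1, 2, 2, 1)), ((1, 1, 2, 2), (2, 2, 2, 2), (1, 2, 2, 1), (1, 2, 1, 2)), ((1, 2, 1, 2), (1, 1,
  1, 1), (2, 2, 1, 1), (1, 2, 2, 1)), ((1, 2, 1, 2), (1, 1, 2, 2), (2, 1, 1, 2), (1, 1, 1, 1)), ((1, 2, 1, 2),
  (1, 2, 2, 1), (2, 2, 2, 2), (1, 1, 2, 2)), ((1, 2, 2, 1), (1, 1, 1, 1), (1, 2, 1, 2), (2, 2, 1, 1)), ((1, 2,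
  2, 1), (1, 1, 2, 2), (1, 1, 1, 1), (2, 1, 2, 1)), ((1, 2, 2, 1), (1, 2, 1, 2), (1, 1, 2, 2), (2, 2, 2, 2)),
  ((2, 1, 1, 2), (1, 2, 1, 2), (1, 1, 2, 2), (1, 1, 1, 1)), ((2, 1, 1, 2), (1, 2, 1, 2), (2, 2, 1, 1), (2, 2,
  2, 2)), ((2, 1, 1, 2), (2, 1, 2, 1), (1, 1, 2, 2), (2, 2, 2, 2)), ((2, 1, 2, 1), (1, 2, 2, 1), (1, 1, 1, 1),
  (1, 1, 2, 2)), ((2, 1, 2, 1), (1, 2, 2, 1), (2, 2, 2, 2), (2, 2, 1, 1)), ((2, 1, 2, 1), (2, 1, 1, 2), (2, 2,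
  2, 2), (1, 1, 2, 2)), ((2, 2, 1, 1), (1, 1, 1, 1), (1, 2, 2, 1), (1, 2, 1, 2)), ((2, 2, 1, 1), (2, 2, 2, 2),
  (1, 2, 2, 1), (2, 1, 2, 1)), ((2, 2, 1, 1), (2, 2, 2, 2), (2, 1, 1, 2), (1, 2, 1, 2)), ((2, 2, 2, 2), (1, 1,
  2, 2), (2, 1, 2, 1), (2, 1, 1, 2)), ((2, 2, 2, 2), (2, 2, 1, 1), (1, 2, 1, 2), (2, 1, 1, 2)), ((2, 2, 2, 2),
  (2, 2, 1, 1), (2, 1, 2, 1), (1, 2, 2, 1)), ((1, 1, 1, 2), (2, 1, 1, 1), (2, 2, 1, 2), (1, 2, 1, 1)), ((1, 1,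
  1, 2), (2, 1, 2, 2), (2, 1, 1, 1), (1, 1, 2, 1)), ((1, 1, 1, 2), (2, 2, 1, 2), (2, 1, 2, 2), (1, 2, 2, 2)),
  ((1, 1, 2, 1), (2, 1, 1, 1), (1, 2, 1, 1), (2, 2, 2, 1)), ((1, 1, 2, 1), (2, 1, 2, 2), (1, 1, 1, 2), (2, 1,
  1, 1)), ((1, 1, 2, 1), (2, 2, 2, 1), (1, 2, 2, 2), (2, 1, 2, 2)), ((1, 2, 1, 1), (1, 1, 1, 2), (2, 2, 1, 2),
  (2, 1, 1, 1)), ((1, 2, 1, 1), (1, 1, 2, 1), (2, 1, 1, 1), (2, 2, 2, 1)), ((1, 2, 1, 1), (1, 2, 2, 2), (2, 2,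
  2, 1), (2, 2, 1, 2)), ((2, 1, 1, 1), (1, 2, 1, 1), (1, 1, 2, 1), (2, 2, 2, 1)), ((2, 1, 1, 1), (1, 2, 1, 1),
  (2, 2, 1, 2), (1, 1, 1, 2)), ((2, 1, 1, 1), (2, 1, 2, 2), (1, 1, 2, 1), (1, 1, 1, 2)), ((1, 2, 2, 2), (1, 1,
  1, 2), (1, 2, 1, 1), (1, 1, 2, 1)), ((1, 2, 2, 2), (1, 1, 2, 1), (1, 1, 1, 2), (1, 2, 1, 1)), ((1, 2, 2, 2),
  (1, 2, 1, 1), (1, 1, 2, 1), (1, 1, 1, 2)), ((2, 1, 2, 2), (2, 1, 1, 1), (2, 2, 2, 1), (2, 2, 1, 2)), ((2, 1,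
  2, 2), (1, 2, 2, 2), (1, 1, 1, 2), (2, 2, 1, 2)), ((2, 1, 2, 2), (1, 2, 2, 2), (2, 2, 2, 1), (1, 1, 2, 1)),
  ((2, 2, 1, 2), (1, 1, 1, 2), (1, 2, 2, 2), (2, 1, 2, 2)), ((2, 2, 1, 2), (2, 2, 2, 1), (2, 1, 1, 1), (2, 1,
  2, 2)), ((2, 2, 1, 2), (2, 2, 2, 1), (1, 2, 2, 2), (1, 2, 1, 1)), ((2, 2, 2, 1), (1, 1, 2, 1), (2, 1, 2, 2),
  (1, 2, 2, 2)), ((2, 2, 2, 1), (2, 2, 1, 2), (1, 2, 1, 1), (1, 2, 2, 2)), ((2, 2, 2, 1), (2, 2, 1, 2), (2, 1,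
  2, 2), (2, 1, 1, 1))]

theorem wf_words : W4 = wfWords.map wfEv := by decide +kernel

theorem wf_refl : ∀ r ∈ wfRefl, ∃ k ∈ W4, mm r k = mm k wfS := by decide +kernel

theorem wf_I : ∀ v, ap wfI v = v := by decide +kernel

theorem wf_S : ∀ v, ap wfS v = (v.1, v.2.1, v.2.2.2, v.2.2.1) := by decide +kernel

theorem wf_R : ∀ v, ap wfR v = (-v.1, v.2) := by decide +kernel

theorem wf_N : wfN ∈ W4 ∧ ∀ v, ap wfN v = -v := by decide +kernel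

theorem wf_cube : ∀ m ∈ W, ap m (ap m (ap m (1, 0, 0, 0))) = (1, 0, 0, 0) →
    ap m (ap m (ap m (0, 1, 0, 0))) = (0, 1, 0, 0) → ap m (ap m (ap m (0, 0, 1, 0))) = (0, 0, 1, 0) →
    ap m (ap m (ap m (0, 0, 0, 1))) = (0, 0, 0, 1) → m ∈ wfT := by decide +kernel

theorem wf_comm : ∀ k ∈ wfT, fr k.1 = 0 → k = wfI ∨
    ∀ m ∈ wfT.filter fun m => ap m (ap k (0, 1, 1, 1)) = ap k (ap m (0, 1, 1, 1)),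
    ∀ n ∈ wfT.filter fun m => ap m (ap k (0, 1, 1, 1)) = ap k (ap m (0, 1, 1, 1)),
      ap m (ap n (1, 1, 1, 0)) ≠ ap k (ap n (ap m (1, 1, 1, 0))) ∨
        ap m (ap n (1, 2, 0, 1)) ≠ ap k (ap n (ap m (1, 2, 0, 1))) := by decide +kernel

theorem wf_frame : ∀ u ∈ sh, ∀ v ∈ sh, (fr u = fr v ↔ ip u v = 0 ∨ u = v ∨ u = -v) := by decide +kernel

theorem wf_inj {m : M} (hm : m ∈ W) {u v : V} (h : ap m u = ap m v) : u = v := by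
  have h1 : ∀ x, ip u x = ip v x := fun x => by rw [← ip_ap hm, h, ip_ap hm]
  exact Prod.ext (by simpa [ip] using h1 (1, 0, 0, 0)) (Prod.ext (by simpa [ip] using h1 (0, 1, 0, 0))
    (Prod.ext (by simpa [ip] using h1 (0, 0, 1, 0)) (by simpa [ip] using h1 (0, 0, 0, 1))))

theorem wf_sh {m : M} (hm : m ∈ W) {v : V} (hv : v ∈ sh) : ap m v ∈ sh :=
  (mem_sh _).mpr (by rw [ip_ap hm]; exact (mem_sh _).mp hv)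

theorem wf_fr_iff {m : M} (hm : m ∈ W) {u v : V} (hu : u ∈ sh) (hv : v ∈ sh) :
    fr (ap m u) = fr (ap m v) ↔ fr u = fr v := by
  rw [wf_frame _ (wf_sh hm hu) _ (wf_sh hm hv), wf_frame _ hu _ hv, ip_ap hm, ← ap_neg]
  exact or_congr_right (or_congr ⟨wf_inj hm, congrArg _⟩ ⟨wf_inj hm, congrArg _⟩)

theorem wf_e1 (m : M) : ap m (1, 0, 0, 0) = m.1 := by simp [ap]

theorem wf_fr_ap {m : M} (hm : m ∈ W) {v : V} (hv : v ∈ sh) :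
    fr (ap m v) = fr m.1 + (fr (ap m (1, 1, 1, 1)) - fr m.1) * fr v ∧ fr (ap m (1, 1, 1, 1)) ≠ fr m.1 := by
  have e1 : ((1, 0, 0, 0) : V) ∈ sh := by decide
  have e2 : ((1, 1, 1, 1) : V) ∈ sh := by decide
  have h1 := wf_fr_iff hm hv e1
  have h2 := wf_fr_iff hm hv e2
  have h3 := wf_fr_iff hm e2 e1
  rw [wf_e1] at h1 h3
  rw [show fr (1, 0, 0, 0) = 0 from rfl] at h1 h3
  rw [show fr (1, 1, 1, 1) = 1 from rfl] at h2 h3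
  generalize fr (ap m v) = c, fr m.1 = a, fr (ap m (1, 1, 1, 1)) = b, fr v = x at *
  revert a b c x
  decide

theorem wf_mem3 {m : M} : m ∈ W3 ↔ m ∈ W ∧ fr (ap m (1, 1, 1, 1)) = fr m.1 + 1 := by
  simp [W3]

theorem wf_mem4 {m : M} : m ∈ W4 ↔ m ∈ W ∧ fr m.1 = 0 ∧ fr (ap m (1, 1, 1, 1)) = 1 := by
  simp [W4]

theorem wf_fr {m : M} (hm : m ∈ W3) {v : V} (hv : v ∈ sh) : fr (ap m v) = fr m.1 + fr v := by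
  rw [(wf_fr_ap (W3_le hm) hv).1, (wf_mem3.mp hm).2]; ring

theorem wf_sh1 {m : M} (hm : m ∈ W) : m.1 ∈ sh := (mem_sh _).mpr (mem_W.mp hm).1

theorem wf_mm3 {m n : M} (hm : m ∈ W3) (hn : n ∈ W3) :
    mm m n ∈ W3 ∧ fr (mm m n).1 = fr m.1 + fr n.1 := by
  have h1 : fr (mm m n).1 = fr m.1 + fr n.1 := wf_fr hm (wf_sh1 (W3_le hn))
  refine ⟨wf_mem3.mpr ⟨mm_mem (W3_le hm) (W3_le hn), ?_⟩, h1⟩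
  rw [ap_mm, wf_fr hm (wf_sh (W3_le hn) (by decide)), h1, (wf_mem3.mp hn).2, add_assoc]

theorem wf_mem4' {m : M} (hm : m ∈ W3) (h : fr m.1 = 0) : m ∈ W4 :=
  wf_mem4.mpr ⟨W3_le hm, h, by rw [(wf_mem3.mp hm).2, h, zero_add]⟩

theorem wf_43 {m : M} (hm : m ∈ W4) : m ∈ W3 :=
  wf_mem3.mpr ⟨W4_le hm, by rw [(wf_mem4.mp hm).2.1, (wf_mem4.mp hm).2.2, zero_add]⟩

theorem wf_δ : δ ∈ W3 ∧ fr δ.1 = 1 := by decide +kernel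

theorem wf_W3 {m : M} (hm : m ∈ W3) : m ∈ W4 ∨ mm δ m ∈ W4 ∨ mm δ (mm δ m) ∈ W4 := by
  have h1 := wf_mm3 wf_δ.1 hm
  have h2 := wf_mm3 wf_δ.1 h1.1
  rw [h1.2, wf_δ.2] at h2
  rw [wf_δ.2] at h1
  obtain e | e | e := (by decide : ∀ a : ZMod 3, a = 0 ∨ 1 + a = 0 ∨ 1 + (1 + a) = 0) (fr m.1)
  exacts [.inl (wf_mem4' hm e), .inr (.inl (wf_mem4' h1.1 (h1.2.trans e))),
    .inr (.inr (wf_mem4' h2.1 (h2.2.trans e)))]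

theorem wf_W {m : M} (hm : m ∈ W) : m ∈ W3 ∨ mm wfR m ∈ W3 := by
  have h1 : ∀ v, fr (ap wfR v) = -fr v := fun v => by rw [wf_R]; simp [fr]
  have h2 := (wf_fr_ap hm (wf_sh1 hm)).2
  rw [wf_mem3, wf_mem3, ap_mm, h1, show (mm wfR m).1 = ap wfR m.1 from rfl, h1, and_iff_right hm,
    and_iff_right (mm_mem (mem_W.mpr (by decide)) hm)]
  generalize fr m.1 = a, fr (ap m (1, 1, 1, 1)) = b at *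
  revert a b
  decide

theorem wf_Q : (∀ a, inQ a → (∀ b, inQ b → inQ (a * b)) ∧ inQ a⁻¹ ∧ a ^ 3 = 1 ∧ inQ (a ^ 4)) ∧ inQ 1 ∧
    inQ sg ∧ inQ (eL (0, 1, 2)) ∧ (sg * eL (0, 1, 2) * sg⁻¹ * (eL (0, 1, 2))⁻¹ = z ∨
      sg * eL (0, 1, 2) * sg⁻¹ * (eL (0, 1, 2))⁻¹ = z⁻¹) ∧
    ∀ l, ∃ v ∈ [((0, 0, 0) : V27), (1, 0, 0), (2, 0, 0)], inQ ((l * eL v) ^ 4) := by decide +kernel

end Cfsg.Agent.O83
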