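import Cfsg.Agent.O83.Sec
import Cfsg.Agent.O83.WF

/-! Definitions for the centraliser of a short vector. -/

set_option autoImplicit false
set_option linter.unusedSectionVars false
set_option maxRecDepth 100000
set_option synthInstance.maxSize 4096

namespace Cfsg.Agent.O83

open Subgroup Cfsg.Agent.Char Cfsg.Agent.Local Cfsg.Agent.P43 Cfsg.Agent.P43.L Equiv

attribute [local irreducible] Mat.memN r1 r2 r3 z s sg qq eL Mat.cmul Mat.cinv W W3 W4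
attribute [local instance 10000] List.decidableBAll

universe u

variable {G : Type u} [Group G] {J : Subgroup G} {e : V → G} {φ : L →* G} {g n ι w d t p : G}

/-- Two quaternion groups commute. -/
def CP (e : V → G) (t : G) (u v : V) : Prop := ∀ x ∈ Q8 e t u, ∀ y ∈ Q8 e t v, x * y = y * x

/-- The centraliser of a vector in `C(t)` lies in `T0`. -/
def SP (J : Subgroup G) (e : V → G) (t : G) (u : V) : Prop :=
  ∀ g, g * t = t * g → g * e u = e u * g → g ∈ T0 J e t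

/-- The lift of `diag(1, 1, -1, -1)`. -/
structure Nn (e : V → G) (φ : L →* G) (n : G) : Prop where
  act : Ac e n (ap (ms 1))
  nn : n * n = 1
  ns : n * φ s = φ s * n

theorem Q8_neg' {x : G} {u v : V} (h : u = v ∨ u = -v) (hx : x ∈ Q8 e t u) : x ∈ Q8 e t v := by
  rcases h with rfl | rfl
  exacts [hx, neg_neg v ▸ Q8_neg hx]

theorem Q8_tw {m : M} (hm : m ∈ W) (h : ∀ u : V, (ap m u).2.2.1 = (ap m u).2.2.2 ↔ u.2.2.1 = u.2.2.2) (v : V) :
    Q8 (fun v => e (ap m v)) t v = Q8 e t (ap m v) := by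
  obtain ⟨k, -, k1, -⟩ := W_inv m hm
  refine Set.ext fun x => and_congr_right fun _ => and_congr_right fun _ => ⟨fun H u u1 u2 => ?_,
    fun H u u1 u2 => H _ ((h u).mpr u1) (by rw [ip_ap hm, u2])⟩
  simpa only [k1] using H (ap k u) ((h _).mp (by rw [k1, u1])) (by rw [← ip_ap hm, k1, u2])

theorem T0_tw {m : M} (hm : m ∈ W) (h : ∀ u : V, (ap m u).2.2.1 = (ap m u).2.2.2 ↔ u.2.2.1 = u.2.2.2)
    (h1 : ∀ i, ∃ j, ap m (zs i) = zs j ∨ ap m (zs i) = -zs j) : T0 J (fun v => e (ap m v)) t ≤ T0 J e t := by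
  refine sup_le_sup_right (Subgroup.closure_mono (Set.iUnion_subset fun i x hx => ?_)) _
  obtain ⟨j, hj⟩ := h1 i
  rw [Q8_tw hm h] at hx
  exact Set.mem_iUnion.mpr ⟨j, Q8_neg' hj hx⟩

theorem δ_facts : (∀ u : V, (ap δ u).2.2.1 = (ap δ u).2.2.2 ↔ u.2.2.1 = u.2.2.2) ∧
    (∀ i, ∃ j, ap δ (zs i) = zs j ∨ ap δ (zs i) = -zs j) ∧
    (∀ u : V, (ap (mm δ δ) u).2.2.1 = (ap (mm δ δ) u).2.2.2 ↔ u.2.2.1 = u.2.2.2) ∧
    (∀ i, ∃ j, ap (mm δ δ) (zs i) = zs j ∨ ap (mm δ δ) (zs i) = -zs j) ∧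
    (∀ i j, i ≠ j → ∃ m ∈ [ms 0, δ, mm δ δ], ∃ k ∈ [ms 0, ms 2],
      (zs i = ap m (ap k (zs 0)) ∨ zs i = -ap m (ap k (zs 0))) ∧
        (zs j = ap m (ap k (zs 1)) ∨ zs j = -ap m (ap k (zs 1))) ∨
      (zs j = ap m (ap k (zs 0)) ∨ zs j = -ap m (ap k (zs 0))) ∧
        (zs i = ap m (ap k (zs 1)) ∨ zs i = -ap m (ap k (zs 1)))) ∧
    ∀ u ∈ sh, u.2.2.1 = u.2.2.2 → ∃ m ∈ [ms 0, δ, mm δ δ], ∃ k ∈ [ms 0, ms 2],
      u = ap m (ap k (1, 0, 0, 0)) ∨ u = -ap m (ap k (1, 0, 0, 0)) := by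
  decide +kernel

theorem cm_of (h : ∀ m ∈ [ms 0, δ, mm δ δ], ∀ k ∈ [ms 0, ms 2], CP e t (ap m (ap k (zs 0))) (ap m (ap k (zs 1)))) :
    Cm e t := fun i j ij x hx y hy => by
  obtain ⟨m, hm, k, hk, ⟨a, b⟩ | ⟨a, b⟩⟩ := δ_facts.2.2.2.2.1 i j ij
  exacts [h m hm k hk x (Q8_neg' a hx) y (Q8_neg' b hy), (h m hm k hk y (Q8_neg' a hy) x (Q8_neg' b hx)).symm]

theorem cs_of (hp : Param J e)
    (h : ∀ m ∈ [ms 0, δ, mm δ δ], ∀ k ∈ [ms 0, ms 2], SP J e t (ap m (ap k (1, 0, 0, 0)))) : Cs J e t :=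
  fun u hu u1 g g1 g2 => by
    obtain ⟨m, hm, k, hk, rfl | rfl⟩ := δ_facts.2.2.2.2.2 u hu u1
    exacts [h m hm k hk g g1 g2, h m hm k hk g g1 (Commute.inv_right_iff.mp (hp.neg _ ▸ g2))]

theorem ms0 (v : V) : ap (ms 0) v = v := by simp [ap, ms]

theorem br_of {X : Type*} [Group X] {a b : X} (ha : a * a = 1) (hb : b * b = 1) (h : (a * b) ^ 3 = 1) :
    a * b * a = b * a * b := by
  rw [← mul_inv_eq_one, mul_inv_rev, mul_inv_rev, inv_eq_of_mul_eq_one_right ha, inv_eq_of_mul_eq_one_right hb, ← h]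
  simp only [pow_succ, pow_zero, one_mul, mul_assoc]

/-- The extra transposition when the centraliser of two orthogonal short vectors involves `S₆`. -/
structure S6G (e : V → G) (φ : L →* G) (n p : G) : Prop where
  pp : p * p = 1
  c1 : Commute p (e (1, 0, 0, 0))
  c2 : Commute p (e (0, 1, 0, 0))
  pt : Commute p (φ s)
  pn : Commute p n
  b1 : (p * φ (eL (0, 1, 2) * s)) ^ 3 = 1
  b3 : (p * (n * φ (s * eL (1, 2, 2)))) ^ 3 = 1
  uniq : ∀ q, q * q = 1 → Commute q (e (1, 0, 0, 0)) → Commute q (e (0, 1, 0, 0)) → Commute q (φ s) → Commute q n →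
    (q * φ (eL (0, 1, 2) * s)) ^ 3 = 1 → (q * (n * φ (s * eL (1, 2, 2)))) ^ 3 = 1 → q = p
  vq : Commute (n * φ s * p) (φ qq)
  v3 : n * φ s * p * (e (0, 0, 2, 2) * (n * φ s * p) * (e (0, 0, 2, 2))⁻¹) *
    ((e (0, 0, 2, 2))⁻¹ * (n * φ s * p) * e (0, 0, 2, 2)) = 1

/-- The centraliser of two orthogonal short vectors normalises `J`. -/
def HL (J : Subgroup G) (e : V → G) : Prop :=
  ∀ g, Commute g (e (1, 0, 0, 0)) → Commute g (e (0, 1, 0, 0)) → g ∈ normalizer (J : Set G)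

end Cfsg.Agent.O83
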