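import Cfsg.Agent.P43.S33

/-! A norm three Brauer–Suzuki argument and passage to quotients by `3'`-subgroups. -/

set_option autoImplicit false

namespace Cfsg.Agent.O83

open Subgroup Cfsg.Agent.Char Cfsg.Agent.Local Cfsg.Agent.P43 Equiv
open scoped ComplexConjugate

universe u

/-- The elements of order three in `S₃`. -/
def cyc (σ : Perm (Fin 3)) : Prop := σ = finRotate 3 ∨ σ = (finRotate 3)⁻¹

instance : DecidablePred cyc := fun σ => inferInstanceAs (Decidable (σ = _ ∨ σ = _))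

theorem inner_comp_surj {H S : Type*} [Group H] [Group S] [Fintype H] [Fintype S] (p : H →* S)
    (hp : Function.Surjective p) (f g : S → ℂ) :
    classInner (fun x => f (p x)) (fun x => g (p x)) = classInner f g := by
  classical
  have h1 : ∀ F : S → ℂ, ∑ x, F (p x) = Nat.card p.ker * ∑ y, F y := fun F => by
    rw [← Finset.sum_fiberwise (s := Finset.univ) (g := p), Finset.mul_sum]
    refine Finset.sum_congr rfl fun y _ => ?_
    rw [Finset.sum_congr rfl (g := fun _ => F y) fun x hx => by rw [(Finset.mem_filter.mp hx).2],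
      Finset.sum_const, nsmul_eq_mul, MonoidHom.card_fiber_eq_of_mem_range p (hp y) (hp 1),
      Nat.card_eq_fintype_card, Fintype.card_subtype]
    simp only [MonoidHom.mem_ker]
  have h2 : Nat.card H = Nat.card p.ker * Nat.card S := by
    rw [← p.ker.card_mul_index, index_ker, p.range_eq_top_of_surjective hp, card_top]
  have := card_ne_zero' p.ker
  rw [classInner, classInner, h1 fun y => f y * conj (g y), h2]
  push_cast
  field_simp

theorem gen_cyc : IsGeneralizedCharacter (Perm (Fin 3)) fun σ => if cyc σ then 3 else 0 := by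
  have h1 := gen_sub (gen_add (gen_of_char (char_const_nat (G := Perm (Fin 3)) 2))
    (gen_of_char (irr_isCharacter (irr_of_monoidHom
      ((Int.castRingHom ℂ).toMonoidHom.comp ((Units.coeHom ℤ).comp Perm.sign))))))
    (gen_of_char (char_perm (G := Perm (Fin 3)) (Fin 3)))
  convert h1 using 2 with σ
  have h2 : ∀ σ : Perm (Fin 3), (if cyc σ then 3 else 0 : ℤ) = 2 + (Perm.sign σ : ℤ) -
      (Finset.univ.filter fun i => σ i = i).card := by decide
  have h3 : Nat.card (MulAction.fixedBy (Fin 3) σ) = (Finset.univ.filter fun i => σ i = i).card := by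
    rw [← Fintype.card_subtype, ← Nat.card_eq_fintype_card]; rfl
  have h4 := congrArg (Int.cast : ℤ → ℂ) (h2 σ)
  simpa [h3] using h4

theorem ti3 {X : Type*} [Group X] [Finite X] {H : Subgroup X} (π : X → Perm (Fin 3))
    (hm : ∀ x ∈ H, ∀ y ∈ H, π (x * y) = π x * π y) (hs : ∀ σ, ∃ x ∈ H, π x = σ)
    (hti : ∀ x ∈ H, cyc (π x) → ∀ g, g * x * g⁻¹ ∈ H → g ∈ H) {b : X}
    (hb : ∀ k, k * b * k⁻¹ ∈ H → ¬ cyc (π (k * b * k⁻¹)))
    (hbb : ∀ g k, k * (g * b * g⁻¹ * b) * k⁻¹ ∈ H → ¬ cyc (π (k * (g * b * g⁻¹ * b) * k⁻¹))) :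
    ∃ K : Subgroup X, K.Normal ∧ b ∈ K ∧ ∀ y ∈ H, y ∈ K → ¬ cyc (π y) := by
  classical
  have := Fintype.ofFinite X
  let p : H →* Perm (Fin 3) := MonoidHom.mk' (fun x => π x) fun x y => hm x x.2 y y.2
  have hp : Function.Surjective p := fun σ => let ⟨x, hx, e⟩ := hs σ; ⟨⟨x, hx⟩, e⟩
  let θ : H → ℂ := fun x => if cyc (p x) then 3 else 0
  have g1 : IsGeneralizedCharacter H θ := gen_comp gen_cyc p
  have hA : ∀ a ∈ {x | x ∈ H ∧ cyc (π x)}, ∀ x : X, x⁻¹ * a * x ∈ {x | x ∈ H ∧ cyc (π x)} → x ∈ H :=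
    fun a ha x hx => inv_mem_iff.mp (hti a ha.1 ha.2 x⁻¹ (by simpa using hx.1))
  have su : ∀ h : H, (h : X) ∉ {x | x ∈ H ∧ cyc (π x)} → θ h = 0 := fun h hh =>
    if_neg fun e => hh ⟨h.2, e⟩
  have van : ∀ x, (∀ k, k * x * k⁻¹ ∈ H → ¬ cyc (π (k * x * k⁻¹))) → indFun H θ x = 0 := fun x hx => by
    rw [indFun_apply, Finset.sum_eq_zero, mul_zero]
    intro y _
    by_cases hy : y⁻¹ * x * y ∈ H
    · rw [extendByZero_of_mem _ _ hy]
      exact if_neg (by simpa [p] using hx y⁻¹ (by simpa using hy))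
    · exact extendByZero_of_notMem _ _ hy
  have c2 : (Finset.univ.filter cyc).card = 2 := by decide
  obtain ⟨K, h1, h2, h3⟩ := bs_core (indFun_isClassFunction H θ) (fun χ hχ =>
    inner_gen_gen (gen_indFun H g1) (gen_of_char (irr_isCharacter hχ)))
    (by
      rw [inner_indFun_indFun_of_ti H _ (gen_isClassFunction g1) hA su su, inner_comp_surj p hp
        (fun σ => if cyc σ then 3 else 0) fun σ => if cyc σ then 3 else 0]
      simp [classInner, apply_ite conj, Finset.sum_ite, c2, Fintype.card_perm, Nat.factorial,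
        map_ofNat, Finset.filter_filter]
      norm_num)
    (by
      rw [inner_indFun_left H θ classFun_one]
      refine (inner_comp_surj p hp (fun σ => if cyc σ then 3 else 0) 1).trans ?_
      simp [classInner, Finset.sum_ite, c2, Fintype.card_perm, Nat.factorial]
      norm_num)
    (van 1 fun k _ => by
      rw [mul_one, mul_inv_cancel, show π 1 = 1 from map_one p]; decide) (van b hb)
    fun g => van _ (hbb g)
  refine ⟨K, h1, h2, fun y hy hk e => ?_⟩
  have := (indFun_apply_of_ti H _ (gen_isClassFunction g1) hA su ⟨y, hy⟩ ⟨hy, e⟩).symm.trans (h3 y hk)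
  simp [θ, p, e] at this

theorem cube_one {G : Type*} [Group G] {K : Subgroup G} (h3 : ¬ 3 ∣ Nat.card K) {k : G} (hk : k ∈ K)
    (h : k ^ 3 = 1) : k = 1 := by
  by_contra h1
  exact h3 (orderOf_eq_prime h h1 ▸ orderOf_dvd_card_of_mem hk)

theorem quot_pack {G : Type u} [Group G] [Finite G] {Y F A : Subgroup G} {e : V27 → G}
    (hp : Param A e) (hA : IsSylowIn 3 A Y) (FY : F ≤ Y) (YF : Y ≤ normalizer (F : Set G))
    (h3 : ¬ 3 ∣ Nat.card F)
    (sig : ∀ K ≤ Y, ¬ 3 ∣ Nat.card K → A ≤ normalizer (K : Set G) → K ≤ F) :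
    ∃ (X : Type u) (_ : Group X) (_ : Finite X) (f : Y →* X) (J : Subgroup X),
      Function.Surjective f ∧ (∀ y, f y = 1 ↔ y.1 ∈ F) ∧ WJ J ∧
      Param J (fun v => f ⟨e v, hA.le (hp.mem' v)⟩) ∧
      ∀ q ∈ normalizer (J : Set X), ∃ n : Y, n.1 ∈ normalizer (A : Set G) ∧ f n = q := by
  have hN : (F.subgroupOf Y).Normal := (normal_subgroupOf_iff_le_normalizer FY).mpr YF
  let f := QuotientGroup.mk' (F.subgroupOf Y)
  have hf : ∀ y, f y = 1 ↔ y.1 ∈ F := fun y => QuotientGroup.eq_one_iff y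
  have hs : Function.Surjective f := QuotientGroup.mk'_surjective _
  have hS : IsSylowIn 3 ((A.subgroupOf Y).map f) ⊤ := by
    have := (hA.subgroupOf le_rfl).map f
    rwa [subgroupOf_self, ← MonoidHom.range_eq_map, f.range_eq_top_of_surjective hs] at this
  have hP : Param ((A.subgroupOf Y).map f) fun v => f ⟨e v, hA.le (hp.mem' v)⟩ :=
    ⟨fun u v => by rw [← map_mul]; exact congrArg f (Subtype.ext (hp.add u v)), fun u v h => by
      have : (e u)⁻¹ * e v ∈ F := (hf ((⟨e u, _⟩ : Y)⁻¹ * ⟨e v, _⟩)).mp (by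
        rw [map_mul, map_inv, show f _ = f _ from h, inv_mul_cancel])
      rw [par_sub hp] at this
      have h4 := cube_one h3 this (hp.cube V27_three _)
      exact neg_add_eq_zero.mp (hp.inj (h4.trans hp.zero.symm)),
    fun g => ⟨fun ⟨y, hy, h⟩ => let ⟨v, hv⟩ := (hp.mem _).mp hy
      ⟨v, h ▸ congrArg f (Subtype.ext hv)⟩, fun ⟨v, hv⟩ => ⟨_, hp.mem' v, hv⟩⟩⟩
  refine ⟨_, inferInstance, inferInstance, f, _, hs, hf, ⟨hS.isPGroup, hP.comm, wn_of_sylow hS,
    fun K k1 k2 => ?_⟩, hP, fun q hq => ?_⟩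
  · have := sig ((K.comap f).map Y.subtype) (map_subtype_le _) (by
      rw [card_map_of_injective Y.subtype_injective, card_comap_mk',
        Nat.card_congr (subgroupOfEquivOfLe FY).toEquiv]
      exact fun h => (Nat.prime_three.dvd_mul.mp h).elim h3 k1) fun a ha =>
      mem_normalizer_of_conj_mem (by
        rintro _ ⟨k, hk, rfl⟩
        refine ⟨⟨a, hA.le ha⟩ * k * ⟨a, hA.le ha⟩⁻¹, ?_, rfl⟩
        rw [SetLike.mem_coe, mem_comap, map_mul, map_mul, map_inv]
        exact conj_mem_of_mem_normalizer (k2 ⟨_, ha, rfl⟩) hk)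
    refine eq_bot_iff.mpr fun q hq => ?_
    obtain ⟨k, rfl⟩ := hs q
    exact (hf k).mpr (this ⟨k, hq, rfl⟩)
  · obtain ⟨g, rfl⟩ := hs q
    have h1 : IsSylowIn 3 (A.subgroupOf Y) (((A.subgroupOf Y).map f).comap f) :=
      (hA.subgroupOf le_rfl).of_le (le_comap_map _ _) fun y _ => y.2
    obtain ⟨n, hn, h2⟩ := h1.frattini (g := g) (mem_normalizer_of_conj_mem fun k hk => by
      rw [mem_comap, map_mul, map_mul, map_inv]
      exact conj_mem_of_mem_normalizer hq hk)
    obtain ⟨a, ha, h4⟩ := hn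
    have h5 := mul_mem (le_normalizer ha) h2
    refine ⟨_, mem_normalizer_of_conj_mem fun x hx =>
      conj_mem_of_mem_normalizer h5 (n := ⟨x, hA.le hx⟩) hx, by simp [h4]⟩

end Cfsg.Agent.O83
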