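import Cfsg.Agent.O83.Ca
import Cfsg.Agent.O83.TI

/-! The centraliser of the short reflection. -/

set_option autoImplicit false
set_option linter.unusedSectionVars false
set_option maxRecDepth 100000
set_option synthInstance.maxSize 4096

namespace Cfsg.Agent.O83

open Subgroup Cfsg.Agent.Char Cfsg.Agent.Local Cfsg.Agent.P43 Cfsg.Agent.P43.L Equiv

attribute [local irreducible] Mat.memN r1 r2 r3 z s sg qq eL Mat.cmul Mat.cinv W W3 W4
attribute [local instance 10000] List.decidableBAll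

universe u

variable {G : Type u} [Group G] [Finite G] {J K : Subgroup G} {e : V → G} {φ : L →* G} {g k n ι w d : G}

/-- A `3'`-subgroup of `C(w)` normalised by the centraliser of `w` in `J`. -/
structure SG (e : V → G) (w : G) (K : Subgroup G) : Prop where
  cw : ∀ k ∈ K, Commute k w
  wK : w ∈ K
  h3 : ¬ 3 ∣ Nat.card K
  nj : ∀ v : V, v.1 = 0 → e v ∈ normalizer (K : Set G)

theorem ip_add (u v y : V) : ip (u + v) y = ip u y + ip v y := by
  simp only [ip, Prod.fst_add, Prod.snd_add]; ring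

theorem ip_neg (u y : V) : ip (-u) y = -ip u y := by
  simp only [ip, Prod.fst_neg, Prod.snd_neg]; ring

theorem emb_pr0 {v : V} (h : v.1 = 0) : emb (pr v) = v := by
  conv_rhs => rw [emb_pr v, h]
  exact (zero_add _).symm

namespace B

variable (h : B J e φ)
include h

theorem rank2 {N H : Subgroup G} {a b y : V} (h3 : ¬ 3 ∣ Nat.card N)
    (hN : ∀ v : V, v.1 = 0 → e v ∈ normalizer (N : Set G)) (a1 : a.1 = 0 ∧ ip a y = 0) (b1 : b.1 = 0 ∧ ip b y = 0)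
    (ab : b ≠ 0 ∧ a ≠ 0 ∧ a ≠ b ∧ a ≠ -b) (hH : ∀ v : V, v.1 = 0 → ip v y = 0 → v ≠ 0 → N ⊓ centralizer {e v} ≤ H) :
    N ≤ H := by
  refine le_of_centralizer_le_of_rank_two Nat.prime_three (hN a a1.1) (hN b b1.1) (h.ecm a b) (h.e3 a) (h.oe ab.1)
    (fun c => ?_) h3 fun x hx x1 => ?_
  · rcases mem_zpowers_three (h.oe ab.1) c with c | c | c
    exacts [h.par.ne_one ab.2.1 c, ab.2.2.1 (h.par.inj c), ab.2.2.2 (h.par.inj (c.trans (h.par.neg b).symm))]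
  · obtain ⟨v, v1, rfl⟩ : ∃ v : V, (v.1 = 0 ∧ ip v y = 0) ∧ e v = x := by
      clear x1
      induction hx using closure_induction with
      | mem x hx => rcases hx with rfl | rfl; exacts [⟨a, a1, rfl⟩, ⟨b, b1, rfl⟩]
      | one => exact ⟨0, ⟨rfl, by simp [ip]⟩, h.par.zero⟩
      | mul _ _ _ _ c1 c2 =>
        obtain ⟨u, u1, rfl⟩ := c1
        obtain ⟨v, v1, rfl⟩ := c2
        exact ⟨u + v, ⟨by rw [Prod.fst_add, u1.1, v1.1, add_zero], by rw [ip_add, u1.2, v1.2, add_zero]⟩, h.par.add u v⟩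
      | inv _ _ c1 =>
        obtain ⟨u, u1, rfl⟩ := c1
        exact ⟨-u, ⟨by rw [Prod.fst_neg, u1.1, neg_zero], by rw [ip_neg, u1.2, neg_zero]⟩, h.par.neg u⟩
    exact hH v v1.1 v1.2 fun c => x1 (c ▸ h.par.zero)

theorem hl_cj (hL : HL J e) {x y : V} (x0 : x.1 = 0) (y0 : y.1 = 0) (x1 : ip x x = 1) (y1 : ip y y = 1)
    (xy : ip x y = 0) (c1 : Commute k (e x)) (c2 : Commute k (e y)) : k ∈ normalizer (J : Set G) := by
  obtain ⟨m, hm, rfl, rfl⟩ := (by decide +kernel : ∀ x ∈ sh, ∀ y ∈ sh, x.1 = 0 → y.1 = 0 → ip x y = 0 →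
    ∃ m ∈ W4, ap m (1, 0, 0, 0) = x ∧ ap m (0, 1, 0, 0) = y) x ((mem_sh x).mpr x1) y ((mem_sh y).mpr y1) x0 y0 xy
  obtain ⟨g, hg⟩ := h.real m hm
  have k1 : ∀ v, Commute k (e (ap m v)) → Commute (g⁻¹ * k * g) (e v) := fun v c => by
    rw [← hg] at c
    simpa [mul_assoc] using (Commute.conj_iff g⁻¹).mpr c
  have := hL _ (k1 _ c1) (k1 _ c2)
  rwa [mul_mem_cancel_right (hg.norm h.par), mul_mem_cancel_left (inv_mem (hg.norm h.par))] at this

variable (hw : Ww e φ w)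
include hw

theorem w_ne (c : Commute w (e (1, 0, 0, 0))) : False := absurd (hw.act.fix h.par c.eq) (by decide)

theorem ow : orderOf w = 2 :=
  orderOf_eq_prime (by rw [sq, hw.ww]) fun c => h.w_ne hw (c ▸ Commute.one_left _)

theorem zp_w (hk : k ∈ zpowers w) : k = 1 ∨ k = w := by
  obtain ⟨i, rfl⟩ := hk
  have : w ^ (2 : ℤ) = 1 := by rw [zpow_two, hw.ww]
  rcases Int.even_or_odd' i with ⟨j, rfl | rfl⟩
  · exact .inl (by simp only [zpow_mul, this, one_zpow])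
  · exact .inr (by simp only [zpow_add, zpow_mul, this, one_zpow, one_mul, zpow_one])

theorem cow : (orderOf w).Coprime 3 := by rw [h.ow hw]; decide

theorem cent_zw (h1 : g * φ z = φ z * g) (h2 : Commute g w) : ∃ l, g = φ l ∨ g = φ l * w := by
  obtain ⟨l, c, rfl, c1, c2⟩ := h.cent g h1
  obtain ⟨m, hm, c3⟩ := h.C0 c1 c2
  have c4 : Commute c w := by simpa using (Commute.inv_left (hw.cm l).symm).mul_left h2
  have key : ∀ c, Ac e c (fun v => v) → (∀ o, inQ (o ^ 4) → c * φ o = φ o * c) → Commute c w → ∃ l', c = φ l' :=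
    fun c a1 a2 a3 => by
      obtain ⟨v, rfl⟩ := (h.par.mem _).mp (h.cJ c a1)
      have := hw.act.fix h.par a3.symm.eq
      exact ⟨eL (pr v), by
        rw [h.ee, emb_pr0 ((by decide : ∀ a : ZMod 3, -a = a → a = 0) _ (congrArg Prod.fst this))]⟩
  rcases (by decide +kernel : ∀ m ∈ C6, ap m (-1, 0, 0, 0) = (-(ap m (1, 0, 0, 0)).1, (ap m (1, 0, 0, 0)).2) →
    (∀ v, ap m v = v) ∨ ∀ v, ap m (-v.1, v.2) = v) m hm
      ((c3.mul hw.act).uniq h.par (c4.eq ▸ hw.act.mul c3) (1, 0, 0, 0)) with c5 | c5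
  · obtain ⟨o, rfl⟩ := key c (c3.congr c5) c2 c4
    exact ⟨l * o, .inl (map_mul φ l o).symm⟩
  · obtain ⟨o, ho⟩ := key (c * w) ((c3.mul hw.act).congr c5)
      (fun o ho => (Commute.mul_left (c2 o ho) (hw.cm o)).eq) (c4.mul_left (Commute.refl w))
    exact ⟨l * o, .inr (by rw [map_mul, ← ho, mul_assoc, mul_assoc, hw.ww, mul_one])⟩

theorem sig_z (hK : SG e w K) (hk : k ∈ K) (c : Commute k (φ z)) : k ∈ zpowers w := by
  have k4 : ∀ l, φ l ∈ K → l ^ 4 = 1 := fun l hl => h.inj (by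
    rw [map_pow, map_one]
    refine cube_one hK.h3 (pow_mem hl 4) (cube_one hK.h3 (pow_mem (pow_mem hl 4) 3) ?_)
    rw [← pow_mul, ← pow_mul, ← map_pow, exp36, map_one])
  have k1 : ∀ l, φ l ∈ K → l = 1 := fun l hl => (by decide +kernel : ∀ l : L, l ^ 4 = 1 →
      (l * (eL (0, 1, 2) * l⁻¹ * (eL (0, 1, 2))⁻¹)) ^ 4 = 1 → l = 1) l (k4 l hl) (k4 _ (by
    rw [map_mul, map_mul, map_mul, map_inv, map_inv, h.ee]
    exact mul_mem hl (conj_mem_of_mem_normalizer (hK.nj _ rfl) (inv_mem hl))))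
  obtain ⟨l, rfl | rfl⟩ := h.cent_zw hw c (hK.cw k hk)
  · rw [k1 l hk, map_one]; exact one_mem _
  · rw [k1 l ((mul_mem_cancel_right hK.wK).mp hk), map_one, one_mul]; exact mem_zpowers w

theorem sig_s (hK : SG e w K) (hk : k ∈ K) {u : V} (u0 : u.1 = 0) (u1 : u ≠ 0) (u2 : ip u u = 0)
    (c : Commute k (e u)) : k ∈ zpowers w := by
  obtain ⟨m, hm, m1, m2, m3⟩ := (by decide +kernel : ∀ u : V, u.1 = 0 → u ≠ 0 → ip u u = 0 → ∃ m ∈ W4,
    (ap m (0, 1, 1, 1) = u ∨ ap m (0, 1, 1, 1) = -u) ∧ (∀ v : V, v.1 = 0 → (ap m v).1 = 0) ∧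
      ∀ v : V, ap m (-v.1, v.2) = (-(ap m v).1, (ap m v).2)) u u0 u1 u2
  obtain ⟨g, hg⟩ := h.real m hm
  obtain ⟨ι, i1, -, i3⟩ := h.iota' hw
  obtain ⟨v, g1, g2⟩ := h.lift i1 hg
  generalize e v * g = g at g1 g2
  have g3 : Commute g w := h.lift_cm i1 g1 hw.act g2 i3 m3
  refine (h.conj' g1).sig_z ⟨hw.ww, fun v => (hw.act _).trans (congrArg e (m3 v).symm),
    fun l => ((g3.mul_left (hw.cm l).symm).mul_left g3.inv_left).symm.eq⟩
    ⟨hK.cw, hK.wK, hK.h3, fun v hv => hK.nj _ (m2 v hv)⟩ hk ?_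
  change Commute k (g * φ z * g⁻¹)
  rw [h.ez, g1]
  rcases m1 with m1 | m1 <;> rw [m1]
  exacts [c, h.par.neg u ▸ c.inv_right]

theorem sig_n (hK : SG e w K) (hk : k ∈ K) (c : k ∈ normalizer (J : Set G)) : k ∈ zpowers w := by
  have k1 : ∀ x ∈ K, x ∈ J → x = 1 := fun x hx hJ => by
    obtain ⟨v, rfl⟩ := (h.par.mem _).mp hJ
    exact cube_one hK.h3 hx (h.e3 v)
  rcases h.cent_J0 (g := k) fun v => by
    have := k1 (k * (e (emb v) * k⁻¹ * (e (emb v))⁻¹))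
      (mul_mem hk (conj_mem_of_mem_normalizer (hK.nj _ rfl) (inv_mem hk))) (by
        rw [← mul_assoc, ← mul_assoc]
        exact mul_mem (conj_mem_of_mem_normalizer c (h.par.mem' _)) (inv_mem (h.par.mem' _)))
    rwa [← mul_assoc, ← mul_assoc, mul_inv_eq_one, mul_inv_eq_iff_eq_mul] at this with c1 | c1
  · rw [k1 k hk (h.cJ k c1)]; exact one_mem _
  · rw [eq_inv_of_mul_eq_one_left (k1 _ (mul_mem hk hK.wK) (h.cJ _ ((c1.mul hw.act).congr fun v => by simp)))]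
    exact inv_mem (mem_zpowers w)

theorem sig_w (hL : HL J e) (hK : SG e w K) : K ≤ zpowers w := by
  refine h.rank2 (a := (0, 1, 0, 0)) (b := (0, 0, 1, 0)) (y := 0) hK.h3 hK.nj (by decide) (by decide) (by decide)
    fun u u0 _ u1 => ?_
  obtain ⟨⟨y, a, b⟩, -, y1, a1, b1, ab⟩ := (by decide +kernel : ∀ u : V, u.1 = 0 → u ≠ 0 →
    ∃ p ∈ [((0, 1, 0, 0), (0, 0, 1, 0), (0, 0, 0, 1)), ((0, 0, 1, 0), (0, 1, 0, 0), (0, 0, 0, 1)),
      (((0, 0, 0, 1), (0, 1, 0, 0), (0, 0, 1, 0)) : V × V × V)], ip u p.1 ≠ 0 ∧ (p.2.1.1 = 0 ∧ ip p.2.1 p.1 = 0) ∧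
      (p.2.2.1 = 0 ∧ ip p.2.2 p.1 = 0) ∧ p.2.2 ≠ 0 ∧ p.2.1 ≠ 0 ∧ p.2.1 ≠ p.2.2 ∧ p.2.1 ≠ -p.2.2) u u0 u1
  refine h.rank2 (fun c => hK.h3 (c.trans (card_dvd_of_le inf_le_left))) (fun v hv => mem_normalizer_of_conj_mem
    fun x hx => ⟨conj_mem_of_mem_normalizer (hK.nj v hv) hx.1, mem_centralizer_singleton_iff.mpr
      (((Commute.mul_left (h.ecm v u) (mem_centralizer_singleton_iff.mp hx.2))).mul_left
        (Commute.inv_left (h.ecm v u))).eq⟩) a1 b1 ab fun v v0 v1 v2 k hk => ?_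
  have c1 : Commute k (e u) := mem_centralizer_singleton_iff.mp hk.1.2
  have c2 : Commute k (e v) := mem_centralizer_singleton_iff.mp hk.2
  have c3 : ∀ x ∈ [u, v, u + v, u + -v], x.1 = 0 ∧ Commute k (e x) := by
    simp only [List.forall_mem_cons, h.par.add, h.par.neg, Prod.fst_add, Prod.fst_neg, u0, v0]
    exact ⟨⟨trivial, c1⟩, ⟨trivial, c2⟩, ⟨by simp, c1.mul_right c2⟩, ⟨by simp, c1.mul_right c2.inv_right⟩, by simp⟩
  rcases (by decide +kernel : ∀ u v : V27, emb v ≠ 0 → emb u ≠ 0 → emb u ≠ emb v → emb u ≠ -emb v →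
    (∃ x ∈ [emb u, emb v, emb u + emb v, emb u + -emb v], x ≠ 0 ∧ ip x x = 0) ∨
      ∃ x ∈ [emb u, emb v, emb u + emb v, emb u + -emb v], ∃ y ∈ [emb u, emb v, emb u + emb v, emb u + -emb v],
        ip x x = 1 ∧ ip y y = 1 ∧ ip x y = 0) (pr u) (pr v) (by rwa [emb_pr0 v0]) (by rwa [emb_pr0 u0])
      (by rw [emb_pr0 u0, emb_pr0 v0]; exact fun c => y1 (c ▸ v1))
      (by rw [emb_pr0 u0, emb_pr0 v0]; exact fun c => y1 (by rw [c, ip_neg, v1, neg_zero])) with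
    ⟨x, hx, x1, x2⟩ | ⟨x, hx, x', hx', x1, x2, x3⟩ <;> rw [emb_pr0 u0, emb_pr0 v0] at hx
  · exact h.sig_s hw hK hk.1.1 (c3 x hx).1 x1 x2 (c3 x hx).2
  · rw [emb_pr0 u0, emb_pr0 v0] at hx'
    exact h.sig_n hw hK hk.1.1 (h.hl_cj hL (c3 x hx).1 (c3 x' hx').1 x1 x2 x3 (c3 x hx).2 (c3 x' hx').2)

theorem sx_w (hL : HL J e) {X : Type u} [Group X] [Finite X] {π : G → X} (S : Sec w π) : Sx J e φ w π := by
  have cx : ∀ l, Commute (φ l) w := fun l => (hw.cm l).symm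
  have ce : ∀ v, Commute (e (emb v)) w := fun v => h.ee v ▸ cx _
  refine ⟨h, S, cx, ⟨(injective_iff_map_eq_one _).mpr fun l hl => ?_, fun q hq => ?_, fun K h3 hK => ?_⟩,
    fun g hg h1 => ?_, fun g m hg hm h1 => ?_⟩
  · rcases h.zp_w hw ((S.ker _ (cx l)).mp hl) with c | c
    exacts [h.inj (c.trans (map_one φ).symm), (h.w_ne hw (c ▸ h.ca l)).elim]
  · obtain ⟨g, hg, rfl⟩ := S.surj q
    obtain ⟨l, rfl | rfl⟩ := h.cent_zw hw (S.cm_of_pow (h.cow hw) hg (cx z) (by rw [h.ez, h.e3]) hq) hg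
    · exact ⟨l, rfl⟩
    · exact ⟨l, by
        rw [S.mul _ _ (cx l) (Commute.refl w), (S.ker _ (Commute.refl w)).mpr (mem_zpowers w), mul_one]; rfl⟩
  · refine S.bot_of (h.sig_w hw hL ⟨fun k hk => hk.1, ⟨Commute.refl w, (S.ker _ (Commute.refl w)).mpr (mem_zpowers w) ▸
      one_mem K⟩, fun c => ?_, fun v hv => emb_pr0 hv ▸ S.pre_norm (ce _) (hK ⟨pr v, by rw [← h.ee]; rfl⟩)⟩)
    obtain ⟨x, hx⟩ := exists_prime_orderOf_dvd_card' 3 c
    have x1 : orderOf (x : G) = 3 := (orderOf_coe x).trans hx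
    have := orderOf_dvd_of_mem_zpowers (S.pre_three (k := 1) h3 x.2 (by rw [pow_one, ← x1, pow_orderOf_eq_one]))
    rw [x1, h.ow hw] at this
    omega
  · have h2 : ∀ v, ∃ u, g * e (emb v) * g⁻¹ = e (emb u) := fun v => by
      obtain ⟨u, k, hk, h2⟩ := h1 v
      refine ⟨u, S.eq_of_pow (h.cow hw) ((hg.mul_left (ce v)).mul_left hg.inv_left) (ce u)
        (by rw [conj_pow, h.e3]; simp) (h.e3 _) ?_⟩
      have k1 : Commute k w := by
        rcases h.zp_w hw hk with rfl | rfl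
        exacts [Commute.one_left _, Commute.refl _]
      rw [h2, S.mul _ _ (ce u) k1, (S.ker _ k1).mpr hk, mul_one]
    have h3 : g ∈ normalizer (JJ φ : Set G) := mem_normalizer_of_conj_mem (by
      rintro _ ⟨v, rfl⟩
      obtain ⟨u, hu⟩ := h2 v
      exact ⟨u, by rw [P43.ee, P43.ee, h.ee, h.ee, hu]⟩)
    refine mem_normalizer_of_conj_mem fun j hj => ?_
    obtain ⟨v, rfl⟩ := (h.par.mem j).mp hj
    rcases h.cent_J0 (g := g * e v * g⁻¹) fun u => by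
      obtain ⟨u', hu⟩ := inv_conj_mem_of_mem_normalizer h3 (⟨u, rfl⟩ : P43.ee φ u ∈ JJ φ)
      rw [P43.ee, P43.ee, h.ee, h.ee] at hu
      rw [show e (emb u) = g * e (emb u') * g⁻¹ by rw [hu]; group, conj_mul, conj_mul, h.ecm] with c | c
    · exact h.cJ _ c
    · have c1 := c.mul (c.mul c)
      rw [← pow_three, conj_pow, h.e3] at c1
      exact absurd (c1.fix h.par (v := (1, 0, 0, 0)) (by simp)) (by decide)
  · have := (h1.mul hw.act).uniq h.par (hg.eq ▸ hw.act.mul h1) (1, 0, 0, 0)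
    exact (by decide +kernel : ∀ v ∈ sh, -v = (-v.1, v.2) → v = (1, 0, 0, 0) ∨ v = (2, 0, 0, 0)) _ (wf_sh1 hm)
      (wf_e1 m ▸ (ap_neg m (1, 0, 0, 0)).symm.trans this)

end B

end Cfsg.Agent.O83
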