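import Cfsg.Agent.O83.CaD

/-! Non-conjugacy of some involutions. -/

set_option autoImplicit false
set_option linter.unusedSectionVars false
set_option maxRecDepth 100000
set_option synthInstance.maxSize 4096

namespace Cfsg.Agent.O83

open Subgroup Cfsg.Agent.Char Cfsg.Agent.Local Cfsg.Agent.P43 Cfsg.Agent.P43.L Equiv
open scoped Pointwise

attribute [local irreducible] Mat.memN r1 r2 r3 z s sg qq eL Mat.cmul Mat.cinv W W3 W4
attribute [local instance 10000] List.decidableBAll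

universe u

variable {G : Type u} [Group G] [Finite G] {J : Subgroup G} {e : V → G} {φ : L →* G} {g n ι w d t p a b : G}
  {X : Type u} [Group X] [Finite X] {π : G → X}

theorem cw_card (hp : Param J e) {f : V → V} (h : Ac e g f) :
    Nat.card ↥(J ⊓ centralizer {g}) = (Finset.univ.filter fun v => f v = v).card :=
  hp.card_subtype (fun x => x ∈ J ⊓ centralizer {g}) _ (fun _ hx => hx.1) fun v =>
    ⟨fun hv => h.fix hp (mem_centralizer_singleton_iff.mp hv.2).symm,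
      fun hv => ⟨hp.mem' v, mem_centralizer_singleton_iff.mpr (h.comm hv).symm⟩⟩

theorem cw_pm (hg : (orderOf g).Coprime 4) (h1 : g * a * g⁻¹ = b ∨ g * a * g⁻¹ = b⁻¹)
    (h2 : g * b * g⁻¹ = a ∨ g * b * g⁻¹ = a⁻¹) : Commute g a := by
  have h3 : g * g * a * (g * g)⁻¹ = a ∨ g * g * a * (g * g)⁻¹ = a⁻¹ := by
    rw [show g * g * a * (g * g)⁻¹ = g * (g * a * g⁻¹) * g⁻¹ by group]
    rcases h1 with h1 | h1 <;> rw [h1]
    · exact h2
    · rw [← conj_inv]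
      exact h2.symm.imp (fun c => by rw [c, inv_inv]) fun c => by rw [c]
  refine mem_centralizer_singleton_iff.mp (mem_of_pow_mem_of_coprime hg (mem_centralizer_singleton_iff.mpr
    (mul_inv_eq_iff_eq_mul.mp ?_)))
  rw [show g ^ 4 * a * (g ^ 4)⁻¹ = g * g * (g * g * a * (g * g)⁻¹) * (g * g)⁻¹ by
    simp only [pow_succ, pow_zero, one_mul, mul_inv_rev, mul_assoc]]
  rcases h3 with h3 | h3
  · rw [h3, h3]
  · rw [h3, ← conj_inv, h3, inv_inv]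

theorem B.cw_J (h : B J e φ) (hg : (orderOf g).Coprime 4) {f : V → V} (h1 : Ac e g f)
    (h2 : ∀ v, f (f (f (f v))) = v) : g ∈ J :=
  mem_of_pow_mem_of_coprime hg (by
    rw [show g ^ 4 = g * (g * (g * g)) by simp only [pow_succ, pow_zero, one_mul, mul_assoc]]
    exact h.cJ _ ((h1.mul (h1.mul (h1.mul h1))).congr h2))

theorem B.cw_nc (h : B J e φ) {x y : G} {f f' : V → V} (hx : Ac e x f) (hy : Ac e y f')
    (c1 : (Finset.univ.filter fun v => f v = v).card = 9) (c2 : (Finset.univ.filter fun v => f' v = v).card = 27)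
    (H : ∀ g, (orderOf g).Coprime 4 →
      (∀ v, f v = v → ∃ u, f u = u ∧ ip u u = ip v v ∧ g * e v * g⁻¹ = e u) → g ∈ J) : ¬ IsConj y x := fun hc => by
  obtain ⟨c, rfl⟩ := isConj_iff.mp hc
  have h1 : IsSylowIn 3 (J ⊓ centralizer {c * y * c⁻¹}) (centralizer {c * y * c⁻¹}) :=
    isSylowIn_of_maximal inf_le_right h.wj.pg.to_inf_left fun Q hQ h1 h2 => by
      by_contra hne
      obtain ⟨g, g1, g2, g3⟩ := exists_mem_normalizer_of_lt_of_isNilpotent hQ.isNilpotent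
        (lt_of_le_of_ne h1 (Ne.symm hne))
      refine g3 ⟨H g (coprime_four_of_isPGroup hQ g1) fun v hv => ?_, h2 g1⟩
      obtain ⟨k1, k2⟩ := conj_mem_of_mem_normalizer g2 (⟨h.par.mem' v,
        mem_centralizer_singleton_iff.mpr (hx.comm hv).symm⟩ : e v ∈ J ⊓ centralizer {c * y * c⁻¹})
      obtain ⟨u, hu⟩ := (h.par.mem _).mp k1
      obtain ⟨-, m, hm, -, k3⟩ := h.fus hu.symm
      exact ⟨u, hx.fix h.par (hu ▸ (mem_centralizer_singleton_iff.mp k2).symm), by rw [← k3, ip_ap hm], hu.symm⟩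
  obtain ⟨k, -, h2⟩ := h1.exists_le_conj (Q := MulAut.conj c • (J ⊓ centralizer {y}))
    (h.wj.pg.to_inf_left.map _) (by
      rintro _ ⟨j, hj, rfl⟩
      refine mem_centralizer_singleton_iff.mpr ?_
      change c * j * c⁻¹ * (c * y * c⁻¹) = c * y * c⁻¹ * (c * j * c⁻¹)
      rw [conj_mul, conj_mul, mem_centralizer_singleton_iff.mp hj.2])
  have h3 := card_le_of_le h2
  rw [card_conj_smul, card_conj_smul, cw_card h.par hx, cw_card h.par hy, c1, c2] at h3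
  omega

theorem B.cw_pm' (h : B J e φ) {u v x : V} (h1 : g * e x * g⁻¹ = e u) (h2 : u = v ∨ u = -v) :
    g * e x * g⁻¹ = e v ∨ g * e x * g⁻¹ = (e v)⁻¹ :=
  h2.imp (fun c => by rw [h1, c]) fun c => by rw [h1, c, h.par.neg]

theorem B.n23 (h : B J e φ) (hw : Ww e φ w) : ¬ IsConj (φ s) (φ s * w) ∧ ¬ IsConj w (φ s * w) := by
  have H : ∀ g, (orderOf g).Coprime 4 → (∀ v : V, sw (-v.1, v.2) = v → ∃ u : V, sw (-u.1, u.2) = u ∧
      ip u u = ip v v ∧ g * e v * g⁻¹ = e u) → g ∈ J := fun g hg H => by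
    obtain ⟨a, a1, a2, a3⟩ := H (0, 1, 0, 0) (by decide)
    obtain ⟨b, b1, b2, b3⟩ := H (0, 0, 1, 1) (by decide)
    have a4 := h.cw_pm' a3 ((by decide +kernel : ∀ a : V, sw (-a.1, a.2) = a →
      ip a a = ip (0, 1, 0, 0) (0, 1, 0, 0) → a = (0, 1, 0, 0) ∨ a = -(0, 1, 0, 0)) a a1 a2)
    have b4 := h.cw_pm' b3 ((by decide +kernel : ∀ a : V, sw (-a.1, a.2) = a →
      ip a a = ip (0, 0, 1, 1) (0, 0, 1, 1) → a = (0, 0, 1, 1) ∨ a = -(0, 0, 1, 1)) b b1 b2)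
    have a5 := cw_pm hg a4 a4
    have b5 := cw_pm hg b4 b4
    obtain ⟨m, hm, h1⟩ := h.nor g (h.cent_zv (u := (0, 1, 0, 0)) (by decide) (by
      rw [h.ez, show e (0, 1, 1, 1) = e (0, 1, 0, 0) * e (0, 0, 1, 1) by rw [← h.par.add]; rfl]
      exact (a5.mul_right b5).eq) (a3 ▸ h.par.mem' a))
    exact h.cw_J hg h1 ((by decide +kernel : ∀ m ∈ W, ap m (0, 1, 0, 0) = (0, 1, 0, 0) →
      ap m (0, 0, 1, 1) = (0, 0, 1, 1) → ∀ v, ap m (ap m (ap m (ap m v))) = v) m hm (h1.fix h.par a5.eq)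
        (h1.fix h.par b5.eq))
  exact ⟨h.cw_nc (h.ac_s.mul hw.act) h.ac_s (by decide +kernel) (by decide +kernel) H,
    h.cw_nc (h.ac_s.mul hw.act) hw.act (by decide +kernel) (by decide +kernel) H⟩

theorem B.cw_tn (h : B J e φ) (hL : HL J e) (hn : Nn e φ n) : ¬ IsConj (φ s) n :=
  h.cw_nc hn.act h.ac_s (by decide +kernel) (by decide +kernel) fun g hg H => by
    obtain ⟨a, a1, a2, a3⟩ := H (1, 0, 0, 0) (by decide +kernel)
    obtain ⟨b, b1, b2, b3⟩ := H (0, 1, 0, 0) (by decide +kernel)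
    obtain ⟨c, -, c2, c3⟩ := H (1, 1, 0, 0) (by decide +kernel)
    obtain rfl : a + b = c := h.par.inj (by
      rw [← c3, h.par.add, ← a3, ← b3, conj_mul, ← h.par.add]; rfl)
    have k : Commute g (e (1, 0, 0, 0)) ∧ Commute g (e (0, 1, 0, 0)) := by
      rcases (by decide +kernel : ∀ a : V, ap (ms 1) a = a → ip a a = ip (1, 0, 0, 0) (1, 0, 0, 0) →
        ∀ b : V, ap (ms 1) b = b → ip b b = ip (0, 1, 0, 0) (0, 1, 0, 0) →
        ip (a + b) (a + b) = ip (1, 1, 0, 0) (1, 1, 0, 0) →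
        (a = (1, 0, 0, 0) ∨ a = -(1, 0, 0, 0)) ∧ (b = (0, 1, 0, 0) ∨ b = -(0, 1, 0, 0)) ∨
        (a = (0, 1, 0, 0) ∨ a = -(0, 1, 0, 0)) ∧ (b = (1, 0, 0, 0) ∨ b = -(1, 0, 0, 0))) a a1 a2 b b1 b2 c2 with
        ⟨k1, k2⟩ | ⟨k1, k2⟩ <;> have a4 := h.cw_pm' a3 k1 <;> have b4 := h.cw_pm' b3 k2
      exacts [⟨cw_pm hg a4 a4, cw_pm hg b4 b4⟩, ⟨cw_pm hg a4 b4, cw_pm hg b4 a4⟩]
    obtain ⟨m, hm, h1⟩ := h.nor g (hL g k.1 k.2)
    exact h.cw_J hg h1 ((by decide +kernel : ∀ m ∈ W, ap m (1, 0, 0, 0) = (1, 0, 0, 0) →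
      ap m (0, 1, 0, 0) = (0, 1, 0, 0) → ∀ v, ap m (ap m (ap m (ap m v))) = v) m hm (h1.fix h.par k.1.eq)
        (h1.fix h.par k.2.eq))

theorem B.cw_k (h : B J e φ) (hc : Cm e (φ s)) {l : L} (hl : l ∈ QL) (h1 : l * l = s) :
    ∃ k : L, k * l * k⁻¹ = qq ∧ ∀ y ∈ Q8 e (φ s) (zs 1), Commute (φ k) y := by
  obtain ⟨a, ha, b, hb, h2⟩ := (by decide +kernel : ∀ l : L, l * s = s * l → l ^ 4 = 1 → l * l = s →
    ∃ a ∈ [1, r1 * qq * r1⁻¹], ∃ b ∈ [1, r1, r1⁻¹], a * b * l * (a * b)⁻¹ = qq) l hl.1 hl.2 h1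
  refine ⟨a * b, h2, fun y hy => ?_⟩
  have h3 : Commute (φ r1) y := by
    rw [← eL_val.1, h.ee]
    exact (hy.2.2 _ rfl (by decide)).symm
  simp only [List.mem_cons, List.not_mem_nil, or_false] at ha hb
  rw [map_mul]
  refine Commute.mul_left ?_ ?_
  · rcases ha with rfl | rfl
    exacts [map_one φ ▸ Commute.one_left y,
      hc 0 1 (by decide) _ (h.q8.mpr ⟨_, qq_QL.2.1, qq_QL.2.2, rfl⟩) y hy]
  · rcases hb with rfl | rfl | rfl
    exacts [map_one φ ▸ Commute.one_left y, h3, map_inv φ r1 ▸ h3.inv_left]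

theorem B.n4 (h : B J e φ) (hc : Cm e (φ s)) (hL : HL J e) (hn : Nn e φ n)
    (hq : IsConj n (φ qq * (n * φ qq * n⁻¹))) :
    ∀ x ∈ R e (φ s) 2, ∀ y ∈ R e (φ s) 3, x * x = φ s → y * y = φ s → ¬ IsConj (φ s) (x * y) := by
  intro x hx y hy xx yy hxy
  obtain ⟨g, g1, g2, g3⟩ := h.exR 2
  obtain ⟨l, hl, rfl⟩ := (g3 x).mp (h.mem_R.mp hx)
  obtain ⟨m1, -, -, m2⟩ := ms_facts 1
  obtain ⟨m3, -, -, m4⟩ := ms_facts 2
  have n1 := hn.act.inv m2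
  have n2 : n⁻¹ * φ s = φ s * n⁻¹ := (Commute.inv_left hn.ns).eq
  have d : ap (ms 2) (zs 3) = zs 1 ∧ ap (ms 1) (zs 1) = zs 0 ∧ ap (ms 1) (zs 0) = zs 1 := by decide +kernel
  have y1 := h.Q8_conj (W4_le m3) (g1.inv m4) (Commute.inv_left g2).eq (h.mem_R.mp hy)
  rw [d.1] at y1
  have y2 := h.Q8_conj (W4_le m1) n1 n2 y1
  rw [d.2.1] at y2
  obtain ⟨l', l1, l2, l3⟩ := h.q8.mp y2
  have q1 := h.Q8_conj (W4_le m1) n1 n2 (h.q8.mpr ⟨qq, qq_QL.1.1, qq_QL.1.2, rfl⟩)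
  rw [d.2.2] at q1
  obtain ⟨k, k1, k2⟩ := h.cw_k hc hl (h.inj (by
    rw [conj_mul, mul_inv_eq_iff_eq_mul, ← g2, mul_right_inj] at xx
    rw [map_mul, xx]))
  obtain ⟨k', k3, k4⟩ := h.cw_k hc (l := l') ⟨l1, l2⟩ (h.inj (by
    rw [map_mul, ← l3, conj_mul, conj_mul, yy, mul_inv_eq_iff_eq_mul.mpr (Commute.inv_left g2).eq,
      mul_inv_eq_iff_eq_mul.mpr n2]))
  refine h.cw_tn hL hn (hxy.trans (IsConj.trans (isConj_iff.mpr ⟨n * φ k' * n⁻¹ * φ k * g⁻¹, ?_⟩) hq.symm))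
  calc _ = n * φ k' * n⁻¹ * (φ k * φ l * (φ k)⁻¹ * (φ k * (g⁻¹ * y * g⁻¹⁻¹) * (φ k)⁻¹)) * (n * φ k' * n⁻¹)⁻¹ := by
        group
    _ = n * (φ k' * (n⁻¹ * φ qq * n⁻¹⁻¹) * (φ k')⁻¹) * n⁻¹ *
        (n * (φ k' * (n⁻¹ * (g⁻¹ * y * g⁻¹⁻¹) * n⁻¹⁻¹) * (φ k')⁻¹) * n⁻¹) := by
        rw [map_cj φ k1, mul_inv_eq_iff_eq_mul.mpr (k2 _ y1).eq]; group
    _ = _ := by
        rw [l3, map_cj φ k3, mul_inv_eq_iff_eq_mul.mpr (k4 _ q1).eq]; group

theorem cw_param {ε : V27 → X} (h1 : ∀ u v, ε (u + v) = ε u * ε v) (h2 : Function.Injective ε) :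
    ∃ E : Subgroup X, Param E ε :=
  ⟨(MonoidHom.mk' (fun v : Multiplicative V27 => ε v.toAdd) fun _ _ => h1 _ _).range, h1, h2, fun _ => Iff.rfl⟩

theorem cw_ea : (∀ u v, ea (u + v) = ea u + ea v) ∧ (∀ u v, ea u = ea v → u = v) ∧
    ∀ u v : V27, ip (emb u) (emb u) = ip (ea (0, 2, 2)) (ea (0, 2, 2)) →
      ip (emb v) (emb v) = ip (ea (1, 2, 1)) (ea (1, 2, 1)) →
      ip (emb u + emb v) (emb u + emb v) = ip (ea (1, 1, 0)) (ea (1, 1, 0)) → emb v = 0 := by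
  decide +kernel

theorem B.n1 (h : B J e φ) (hw : Ww e φ w) (S : Sx J e φ w π) : ¬ IsConj (φ s) w := fun hc => by
  obtain ⟨g, hg⟩ := isConj_iff.mp hc
  have c3 : (orderOf w).Coprime 3 :=
    Nat.Coprime.coprime_dvd_left (orderOf_dvd_of_pow_eq_one ((pow_two w).trans hw.ww)) (by norm_num)
  have a1 : ∀ v, Commute (g * e (ea v) * g⁻¹) w := fun v => by
    rw [← hg]
    change _ * _ = _ * _
    rw [conj_mul, conj_mul, h.ac_s.comm (v := ea v) rfl]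
  have a2 : ∀ v, (g * e (ea v) * g⁻¹) ^ 3 = 1 := fun v => by rw [conj_pow, h.e3]; simp
  have a3 : ∀ u v, π (g * e (ea (u + v)) * g⁻¹) = π (g * e (ea u) * g⁻¹) * π (g * e (ea v) * g⁻¹) := fun u v => by
    rw [← S.mul _ _ (a1 u) (a1 v), conj_mul, cw_ea.1, h.par.add]
  have a4 : Function.Injective fun v => π (g * e (ea v) * g⁻¹) := fun u v c =>
    cw_ea.2.1 u v (h.par.inj (by simpa using S.eq_of_pow c3 (a1 u) (a1 v) (a2 u) (a2 v) c))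
  obtain ⟨E, hE⟩ := cw_param a3 a4
  obtain ⟨q, -, h1⟩ := S.base.sylS.exists_le_conj (Q := E) (fun x => ⟨1, Subtype.ext (by
    obtain ⟨v, hv⟩ := (hE.mem _).mp x.2
    rw [pow_one, coe_pow, ← hv, hE.cube V27_three, coe_one])⟩) le_top
  obtain ⟨F, hF⟩ := cw_param (ε := fun v => q⁻¹ * π (g * e (ea v) * g⁻¹) * q⁻¹⁻¹)
    (fun u v => by rw [a3, conj_mul]) fun u v c => a4 (by simpa using c)
  obtain ⟨k, hk⟩ := conj_JJ S.base.inj (E := F) (fun x hx => by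
      obtain ⟨v, rfl⟩ := (hF.mem x).mp hx
      obtain ⟨l, -, hl⟩ := (Local.mem_conj_smul_iff).mp (h1 (hE.mem' v))
      exact ⟨l, by rw [hl, inv_inv]⟩) hF.comm (fun x hx => by
      obtain ⟨v, rfl⟩ := (hF.mem x).mp hx
      exact hF.cube V27_three v) (by rw [hF.card]; simp)
  obtain ⟨c, c1, c2⟩ := S.surj (S.ψ k * q⁻¹)
  have key : ∀ v, ∃ u, c * g * e (ea v) * (c * g)⁻¹ = e (emb u) ∧ ip (emb u) (emb u) = ip (ea v) (ea v) :=
    fun v => by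
      obtain ⟨u, hu⟩ : _ ∈ JJ S.ψ := hk ▸ conj_mem_conj_smul (S.ψ k) (hF.mem' v)
      have h2 : c * g * e (ea v) * (c * g)⁻¹ = e (emb u) := by
        rw [show c * g * e (ea v) * (c * g)⁻¹ = c * (g * e (ea v) * g⁻¹) * c⁻¹ by group]
        refine S.eq_of_pow c3 ((c1.mul_left (a1 v)).mul_left c1.inv_left) (S.ce u)
          (by rw [conj_pow, a2]; simp) (h.e3 _) ?_
        rw [S.cj c1 (a1 v), c2, ← S.ee', hu]
        group
      obtain ⟨-, m, hm, -, h3⟩ := h.fus h2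
      exact ⟨u, h2, by rw [← h3, ip_ap hm]⟩
  obtain ⟨u1, u2, u3⟩ := key (0, 2, 2)
  obtain ⟨v1, v2, v3⟩ := key (1, 2, 1)
  obtain ⟨w1, w2, w3⟩ := key (1, 1, 0)
  have h4 : emb u1 + emb v1 = emb w1 := h.par.inj (by
    rw [← w2, h.par.add, ← u2, ← v2, conj_mul, ← h.par.add, ← cw_ea.1]; rfl)
  rw [cw_ea.2.2 u1 v1 u3 v3 (h4 ▸ w3), h.par.zero, mul_inv_eq_one, mul_eq_left] at v2
  exact h.par.ne_one (by decide) v2

end Cfsg.Agent.O83
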