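import Cfsg.Agent.P43.Fin

/-! The three-local frame of the extensions of the orthogonal group in dimension eight. -/

set_option autoImplicit false
set_option maxRecDepth 100000
set_option synthInstance.maxSize 4096

namespace Cfsg.Agent.O83

open Subgroup Cfsg.Agent.Char Cfsg.Agent.Local Cfsg.Agent.P43 Cfsg.Agent.P43.L

attribute [local irreducible] Mat.memN r1 r2 r3 z s sg qq eL Mat.cmul Mat.cinv
attribute [local instance 10000] List.decidableBAll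

/-- Coordinates of `J`. -/
abbrev V := ZMod 3 × ZMod 3 × ZMod 3 × ZMod 3

/-- Matrices, given by their columns. -/
abbrev M := V × V × V × V

/-- The bilinear form. -/
def ip (u v : V) : ZMod 3 := u.1 * v.1 + u.2.1 * v.2.1 + u.2.2.1 * v.2.2.1 + u.2.2.2 * v.2.2.2

/-- The linear map of a matrix. -/
def ap (m : M) (v : V) : V :=
  (v.1 * m.1.1 + v.2.1 * m.2.1.1 + v.2.2.1 * m.2.2.1.1 + v.2.2.2 * m.2.2.2.1,
    v.1 * m.1.2.1 + v.2.1 * m.2.1.2.1 + v.2.2.1 * m.2.2.1.2.1 + v.2.2.2 * m.2.2.2.2.1,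
    v.1 * m.1.2.2.1 + v.2.1 * m.2.1.2.2.1 + v.2.2.1 * m.2.2.1.2.2.1 + v.2.2.2 * m.2.2.2.2.2.1,
    v.1 * m.1.2.2.2 + v.2.1 * m.2.1.2.2.2 + v.2.2.1 * m.2.2.1.2.2.2 + v.2.2.2 * m.2.2.2.2.2.2)

/-- The vectors of norm one. -/
def sh : List V := [(1, 0, 0, 0), (2, 0, 0, 0), (0, 1, 0, 0), (0, 2, 0, 0), (0, 0, 1, 0), (0, 0, 2, 0),
  (0, 0, 0, 1), (0, 0, 0, 2), (1, 1, 1, 1), (1, 1, 2, 2), (1, 2, 1, 2), (1, 2, 2, 1), (2, 1, 1, 2),
  (2, 1, 2, 1), (2, 2, 1, 1), (2, 2, 2, 2), (1, 1, 1, 2), (1, 1, 2, 1), (1, 2, 1, 1), (2, 1, 1, 1),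
  (1, 2, 2, 2), (2, 1, 2, 2), (2, 2, 1, 2), (2, 2, 2, 1)]

/-- The orthogonal group, that is the Weyl group of type `F₄`. -/
def W : List M := sh.flatMap fun a => (sh.filter (ip a · = 0)).flatMap fun b =>
  (sh.filter fun c => ip a c = 0 ∧ ip b c = 0).flatMap fun c =>
    (sh.filter fun d => ip a d = 0 ∧ ip b d = 0 ∧ ip c d = 0).map fun d => (a, b, c, d)

/-- The frame containing a vector of norm one. -/
def fr (v : V) : ZMod 3 := v.1 * v.2.1 * v.2.2.1 * v.2.2.2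

/-- The matrices rotating the three frames. -/
def W3 : List M := W.filter fun m => fr (ap m (1, 1, 1, 1)) = fr m.1 + 1

/-- The matrices fixing the three frames, that is the Weyl group of type `D₄`. -/
def W4 : List M := W.filter fun m => fr m.1 = 0 ∧ fr (ap m (1, 1, 1, 1)) = 1

/-- The triality. -/
def δ : M := ((1, 1, 1, 1), (2, 2, 1, 1), (2, 1, 2, 1), (2, 1, 1, 2))

/-- The coordinates of the orthogonal complement of the first basis vector. -/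
def emb (v : V27) : V := (0, v.1 - v.2.1 - v.2.2, -v.1 + v.2.1 - v.2.2, -v.1 - v.2.1 + v.2.2)

/-- The coordinates of `A = C_J(t)` in the basis of three orthogonal long roots. -/
def ea (v : V27) : V := (v.2.1 + v.2.2, v.2.1 - v.2.2, v.1, v.1)

/-- The four singular points of `A`. -/
def zs : Fin 4 → V := ![(0, 1, 1, 1), (0, 1, 2, 2), (1, 0, 1, 1), (1, 0, 2, 2)]

theorem mem_sh : ∀ v, v ∈ sh ↔ ip v v = 1 := by decide +kernel

theorem mem_W {m : M} : m ∈ W ↔ ip m.1 m.1 = 1 ∧ (ip m.2.1 m.2.1 = 1 ∧ ip m.1 m.2.1 = 0) ∧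
    (ip m.2.2.1 m.2.2.1 = 1 ∧ ip m.1 m.2.2.1 = 0 ∧ ip m.2.1 m.2.2.1 = 0) ∧ ip m.2.2.2 m.2.2.2 = 1 ∧
    ip m.1 m.2.2.2 = 0 ∧ ip m.2.1 m.2.2.2 = 0 ∧ ip m.2.2.1 m.2.2.2 = 0 := by
  obtain ⟨a, b, c, d⟩ := m
  simp only [W, List.mem_flatMap, List.mem_filter, List.mem_map, mem_sh, decide_eq_true_eq, Prod.mk.injEq]
  exact ⟨fun ⟨_, h1, _, h2, _, h3, _, h4, e1, e2, e3, e4⟩ => by subst e1 e2 e3 e4; exact ⟨h1, h2, h3, h4⟩,
    fun ⟨h1, h2, h3, h4⟩ => ⟨_, h1, _, h2, _, h3, _, h4, rfl, rfl, rfl, rfl⟩⟩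

theorem W4_le {m : M} (h : m ∈ W4) : m ∈ W := (List.mem_filter.mp h).1

theorem W3_le {m : M} (h : m ∈ W3) : m ∈ W := (List.mem_filter.mp h).1

theorem ap_add (m : M) (u v : V) : ap m (u + v) = ap m u + ap m v := by
  simp only [ap, Prod.fst_add, Prod.snd_add, Prod.mk_add_mk, Prod.mk.injEq]
  refine ⟨?_, ?_, ?_, ?_⟩ <;> ring

theorem ap_neg (m : M) (u : V) : ap m (-u) = -ap m u := by
  simp only [ap, Prod.fst_neg, Prod.snd_neg, Prod.neg_mk, Prod.mk.injEq]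
  refine ⟨?_, ?_, ?_, ?_⟩ <;> ring

theorem ip_comm (u v : V) : ip u v = ip v u := by unfold ip; ring

theorem ip_ap {m : M} (h : m ∈ W) (u v : V) : ip (ap m u) (ap m v) = ip u v := by
  obtain ⟨h1, ⟨h2, h3⟩, ⟨h4, h5, h6⟩, h7, h8, h9, h10⟩ := mem_W.mp h
  simp only [ip, ap] at *
  linear_combination u.1 * v.1 * h1 + u.2.1 * v.2.1 * h2 + (u.1 * v.2.1 + u.2.1 * v.1) * h3 +
    u.2.2.1 * v.2.2.1 * h4 + (u.1 * v.2.2.1 + u.2.2.1 * v.1) * h5 +
    (u.2.1 * v.2.2.1 + u.2.2.1 * v.2.1) * h6 + u.2.2.2 * v.2.2.2 * h7 +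
    (u.1 * v.2.2.2 + u.2.2.2 * v.1) * h8 + (u.2.1 * v.2.2.2 + u.2.2.2 * v.2.1) * h9 +
    (u.2.2.1 * v.2.2.2 + u.2.2.2 * v.2.2.1) * h10

/-- The product of matrices. -/
def mm (m n : M) : M := (ap m n.1, ap m n.2.1, ap m n.2.2.1, ap m n.2.2.2)

theorem ap_mm (m n : M) (v : V) : ap (mm m n) v = ap m (ap n v) := by
  simp only [ap, mm, Prod.mk.injEq]
  refine ⟨?_, ?_, ?_, ?_⟩ <;> ring

theorem mm_mem {m n : M} (hm : m ∈ W) (hn : n ∈ W) : mm m n ∈ W := by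
  simpa only [mem_W, mm, ip_ap hm] using hn

theorem ap_ext {m n : M} (h : ∀ v, ap m v = ap n v) : m = n := by
  have h1 := h (1, 0, 0, 0)
  have h2 := h (0, 1, 0, 0)
  have h3 := h (0, 0, 1, 0)
  have h4 := h (0, 0, 0, 1)
  simp only [ap, one_mul, zero_mul, add_zero, zero_add] at h1 h2 h3 h4
  exact Prod.ext h1 (Prod.ext h2 (Prod.ext h3 h4))

variable {G : Type*} [Group G] {J : Subgroup G} {e : V → G} {φ : L →* G}

/-- Conjugation by `g` induces `f` on the coordinates. -/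
def Ac (e : V → G) (g : G) (f : V → V) : Prop := ∀ v, g * e v * g⁻¹ = e (f v)

section Ac

variable {g h : G} {f f' : V → V}

theorem Ac.mul (h1 : Ac e g f) (h2 : Ac e h f') : Ac e (g * h) fun v => f (f' v) := fun v => by
  rw [← h1, ← h2]; group

theorem Ac.congr (h1 : Ac e g f) (h2 : ∀ v, f v = f' v) : Ac e g f' := fun v => h2 v ▸ h1 v

theorem Ac.inv (h1 : Ac e g f) (h2 : ∀ v, f (f' v) = v) : Ac e g⁻¹ f' := fun v => by
  rw [← h2 v, ← h1, h2]; group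

theorem Ac.comm (h1 : Ac e g f) {v : V} (h2 : f v = v) : g * e v = e v * g :=
  mul_inv_eq_iff_eq_mul.mp ((h1 v).trans (congrArg e h2))

theorem Ac.fix (hp : Param J e) (h1 : Ac e g f) {v : V} (h2 : g * e v = e v * g) : f v = v :=
  hp.inj ((h1 v).symm.trans (mul_inv_eq_iff_eq_mul.mpr h2))

theorem Ac.uniq (hp : Param J e) (h1 : Ac e g f) (h2 : Ac e g f') (v : V) : f v = f' v :=
  hp.inj ((h1 v).symm.trans (h2 v))

theorem Ac.norm [Finite G] (hp : Param J e) (h1 : Ac e g f) : g ∈ normalizer (J : Set G) :=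
  mem_normalizer_fintype fun x hx => by
    obtain ⟨v, rfl⟩ := (hp.mem x).mp hx
    exact (hp.mem _).mpr ⟨_, (h1 v).symm⟩

theorem ac_par (hp : Param J e) (w : V) : Ac e (e w) fun v => v := par_cj hp w

end Ac

/-- The frame: `J` is elementary of order `81`, `φ z` is the central element of order three. -/
structure B (J : Subgroup G) (e : V → G) (φ : L →* G) : Prop where
  par : Param J e
  inj : Function.Injective φ
  ee : ∀ v, φ (eL v) = e (emb v)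
  ca : ∀ l, φ l * e (1, 0, 0, 0) = e (1, 0, 0, 0) * φ l
  cent : ∀ g, g * φ z = φ z * g → ∃ l h, g = φ l * h ∧ h ∈ normalizer (J : Set G) ∧
    ∀ o, inQ (o ^ 4) → h * φ o = φ o * h
  cJ : ∀ g, Ac e g (fun v => v) → g ∈ J
  wj : WJ J
  nor : ∀ g ∈ normalizer (J : Set G), ∃ m ∈ W, Ac e g (ap m)
  real : ∀ m ∈ W4, ∃ g, Ac e g (ap m)

/-- The element inducing triality. -/
structure Dd (e : V → G) (φ : L →* G) (d : G) : Prop where
  d3 : d ^ 3 = 1
  act : Ac e d (ap δ)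
  cm : ∀ o, inQ (o ^ 4) → d * φ o = φ o * d

/-- The element inducing a short reflection. -/
structure Ww (e : V → G) (φ : L →* G) (w : G) : Prop where
  ww : w * w = 1
  act : Ac e w fun v => (-v.1, v.2)
  cm : ∀ l, w * φ l = φ l * w

/-- The frame together with its two twists under triality. -/
structure B3 (J : Subgroup G) (e : V → G) (φ : L →* G) : Prop extends B J e φ where
  tw1 : ∃ ψ, B J (fun v => e (ap δ v)) ψ ∧ ψ s = φ s
  tw2 : ∃ ψ, B J (fun v => e (ap δ (ap δ v))) ψ ∧ ψ s = φ s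

/-- The normaliser of `J` induces the Weyl group of type `D₄`. -/
def N4 (J : Subgroup G) (e : V → G) : Prop := ∀ g ∈ normalizer (J : Set G), ∃ m ∈ W4, Ac e g (ap m)

/-- The quaternion group attached to a singular vector of `A`. -/
def Q8 (e : V → G) (t : G) (v : V) : Set G :=
  {x | x * t = t * x ∧ x ^ 4 = 1 ∧ ∀ u : V, u.2.2.1 = u.2.2.2 → ip u v = 0 → x * e u = e u * x}

/-- The extraspecial group. -/
def E (e : V → G) (t : G) : Subgroup G := closure (⋃ i, Q8 e t (zs i))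

/-- The candidate for the centraliser of `t`. -/
def T0 (J : Subgroup G) (e : V → G) (t : G) : Subgroup G :=
  E e t ⊔ normalizer (J : Set G) ⊓ centralizer {t}

/-- The four quaternion groups commute. -/
def Cm (e : V → G) (t : G) : Prop :=
  ∀ i j, i ≠ j → ∀ x ∈ Q8 e t (zs i), ∀ y ∈ Q8 e t (zs j), x * y = y * x

/-- Centralisers in `C(t)` of the short vectors of `A`. -/
def Cs (J : Subgroup G) (e : V → G) (t : G) : Prop :=
  ∀ u ∈ sh, u.2.2.1 = u.2.2.2 → ∀ g, g * t = t * g → g * e u = e u * g → g ∈ T0 J e t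

/-- The map from `T0` onto `S₃ × S₃ × S₃`. -/
structure Pi (J : Subgroup G) (e : V → G) (t : G) (π : G → Fin 3 → Equiv.Perm (Fin 3)) : Prop where
  mul : ∀ x ∈ T0 J e t, ∀ y ∈ T0 J e t, π (x * y) = π x * π y
  ker : ∀ x ∈ T0 J e t, π x = 1 ↔ x ∈ E e t
  surj : ∀ σ, ∃ x ∈ T0 J e t, π x = σ
  val : ∀ v : V27, π (e (ea v)) = ![finRotate 3 ^ v.1.val, finRotate 3 ^ v.2.1.val, finRotate 3 ^ v.2.2.val]

theorem B.ez (h : B J e φ) : φ z = e (0, 1, 1, 1) := by rw [← eL_val.2.2.1, h.ee]; rfl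

theorem B.ac_s (h : B J e φ) : Ac e (φ s) fun v => (v.1, v.2.1, v.2.2.2, v.2.2.1) := fun v => by
  obtain ⟨k, u, rfl⟩ := (by decide +kernel : ∀ v : V, ∃ k : ZMod 3, ∃ u, v = (k, 0, 0, 0) + emb u) v
  have h1 : φ s * e (k, 0, 0, 0) * (φ s)⁻¹ = e (k, 0, 0, 0) := by
    have := h.ca s
    obtain rfl | rfl | rfl := (by decide : ∀ k : ZMod 3, k = 0 ∨ k = 1 ∨ k = -1) k
    · exact (congrArg (φ s * · * (φ s)⁻¹) h.par.zero).trans (by simp [show e (0, 0, 0, 0) = 1 from h.par.zero])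
    · exact mul_inv_eq_iff_eq_mul.mpr this
    · rw [show e (-1, 0, 0, 0) = _ from h.par.neg (1, 0, 0, 0), ← conj_inv, mul_inv_eq_iff_eq_mul.mpr this]
  rw [h.par.add, ← conj_mul, h1, ← h.ee, map_cj φ (s_act u), h.ee, ← h.par.add]
  exact congrArg e ((by decide +kernel : ∀ (k : ZMod 3) (u : V27), ((k, 0, 0, 0) : V) + emb (u.1, u.2.2, u.2.1) =
    (fun v : V => (v.1, v.2.1, v.2.2.2, v.2.2.1)) ((k, 0, 0, 0) + emb u)) k u)

end Cfsg.Agent.O83
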