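import Cfsg.Agent.O83.Basic

/-! The extraspecial group `E` and the map onto `S₃ × S₃ × S₃`. -/

set_option autoImplicit false
set_option maxRecDepth 100000
set_option synthInstance.maxSize 4096

namespace Cfsg.Agent.O83

open Subgroup Cfsg.Agent.Char Cfsg.Agent.Local Cfsg.Agent.P43 Cfsg.Agent.P43.L

attribute [local irreducible] Mat.memN r1 r2 r3 z s sg qq eL Mat.cmul Mat.cinv W W3 W4
attribute [local instance 10000] List.decidableBAll

variable {G : Type*} [Group G]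

/-- Extraspecial-like groups with centre generated by `t`. -/
structure Ex (t : G) (D : Subgroup G) : Prop where
  tt : t * t = 1
  tD : t ∈ D
  ct : ∀ x ∈ D, x * t = t * x
  sq : ∀ x ∈ D, x * x = 1 ∨ x * x = t
  cm : ∀ x ∈ D, ∀ y ∈ D, x * y = y * x ∨ x * y = y * x * t
  cen : ∀ x ∈ D, (∀ y ∈ D, x * y = y * x) → x = 1 ∨ x = t

/-- `r` normalises `D` and has no fixed points on `D / ⟨t⟩`. -/
def Fp (t r : G) (D : Subgroup G) : Prop := (∀ x ∈ D, r * x * r⁻¹ ∈ D) ∧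
  ∀ x ∈ D, r * x * r⁻¹ = x ∨ r * x * r⁻¹ = x * t → x = 1 ∨ x = t

theorem mem_sup_cm [Finite G] {D R : Subgroup G} (c : ∀ x ∈ D, ∀ y ∈ R, x * y = y * x) {g : G}
    (hg : g ∈ D ⊔ R) : ∃ d ∈ D, ∃ r ∈ R, d * r = g :=
  (mem_sup_of_right_le_normalizer fun r hr => mem_normalizer_of_conj_mem fun x hx => by
    rwa [← c x hx r hr, mul_inv_cancel_right]).mp hg

theorem Ex.sup [Finite G] {t : G} {D R : Subgroup G} (hD : Ex t D) (hR : Ex t R) (t1 : t ≠ 1)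
    (c : ∀ x ∈ D, ∀ y ∈ R, x * y = y * x) : Ex t (D ⊔ R) ∧
      Nat.card ↥(D ⊔ R) * 2 = Nat.card D * Nat.card R ∧ ∀ r, Fp t r D → Fp t r R → Fp t r (D ⊔ R) := by
  have c' : ∀ {x y}, x ∈ D → y ∈ R → Commute y x := fun hx hy => (c _ hx _ hy).symm
  have hi : ∀ x ∈ D, x ∈ R → x = 1 ∨ x = t := fun x hx hx' => hR.cen x hx' (c x hx)
  refine ⟨⟨hD.tt, mem_sup_left hD.tD, fun x hx => ?_, fun x hx => ?_, fun x hx y hy => ?_,
    fun x hx h => ?_⟩, ?_, fun ρ f1 f2 => ⟨fun x hx => ?_, fun x hx h => ?_⟩⟩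
  · obtain ⟨d, hd, r, hr, rfl⟩ := mem_sup_cm c hx
    exact (Commute.mul_left (hD.ct d hd) (hR.ct r hr)).eq
  · obtain ⟨d, hd, r, hr, rfl⟩ := mem_sup_cm c hx
    rw [(c' hd hr).mul_mul_mul_comm]
    rcases hD.sq d hd with e1 | e1 <;> rcases hR.sq r hr with e2 | e2 <;> simp [e1, e2, hD.tt]
  · obtain ⟨d, hd, r, hr, rfl⟩ := mem_sup_cm c hx
    obtain ⟨d', hd', r', hr', rfl⟩ := mem_sup_cm c hy
    rw [(c' hd' hr).mul_mul_mul_comm, (c' hd hr').mul_mul_mul_comm]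
    have e3 := hR.ct _ (mul_mem hr' hr)
    rcases hD.cm d hd d' hd' with e1 | e1 <;> rcases hR.cm r hr r' hr' with e2 | e2 <;> rw [e1, e2]
    · exact .inl rfl
    · exact .inr (mul_assoc _ _ _).symm
    · exact .inr (by rw [mul_assoc _ t, ← e3, ← mul_assoc])
    · exact .inl (by rw [e3, mul_assoc _ t, ← mul_assoc t, hD.tt, one_mul])
  · obtain ⟨d, hd, r, hr, rfl⟩ := mem_sup_cm c hx
    have e1 := hD.cen d hd fun y hy => mul_right_cancel (b := r) (by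
      rw [mul_assoc, c y hy r hr, ← mul_assoc, h y (mem_sup_left hy), mul_assoc])
    have e2 := hR.cen r hr fun y hy => mul_left_cancel (a := d) (by
      rw [← mul_assoc, h y (mem_sup_right hy), ← mul_assoc, ← mul_assoc, c d hd y hy])
    rcases e1 with rfl | rfl <;> rcases e2 with rfl | rfl <;> simp [hD.tt]
  · have h1 : D ⊓ R = zpowers t := le_antisymm (fun x hx => by
      rcases hi x hx.1 hx.2 with rfl | rfl
      exacts [one_mem _, mem_zpowers _]) (zpowers_le.mpr ⟨hD.tD, hR.tD⟩)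
    rw [← card_sup_mul_card_inf fun r hr => mem_normalizer_of_conj_mem fun x hx => by
      rwa [← c x hx r hr, mul_inv_cancel_right], h1, Nat.card_zpowers,
      orderOf_eq_prime (p := 2) (by rw [pow_two, hD.tt]) t1]
  · obtain ⟨d, hd, r, hr, rfl⟩ := mem_sup_cm c hx
    rw [← conj_mul]
    exact mul_mem (mem_sup_left (f1.1 d hd)) (mem_sup_right (f2.1 r hr))
  · obtain ⟨d, hd, r, hr, rfl⟩ := mem_sup_cm c hx
    have h1 : d⁻¹ * (ρ * d * ρ⁻¹) ∈ R := by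
      rw [show d⁻¹ * (ρ * d * ρ⁻¹) = d⁻¹ * (ρ * (d * r) * ρ⁻¹) * (ρ * r * ρ⁻¹)⁻¹ by group]
      refine mul_mem ?_ (inv_mem (f2.1 r hr))
      rcases h with e1 | e1 <;> rw [e1]
      · simpa using hr
      · simpa [mul_assoc] using mul_mem hr hR.tD
    have h2 := f1.2 d hd ((hi _ (mul_mem (inv_mem hd) (f1.1 d hd)) h1).imp
      (fun e1 => (inv_mul_eq_one.mp e1).symm) inv_mul_eq_iff_eq_mul.mp)
    refine f2.2 _ (mul_mem ?_ hr) h
    rcases h2 with rfl | rfl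
    exacts [one_mem R, hR.tD]

theorem QF.ex {t : G} {R : Fin 4 → Subgroup G} (h : QF t R) (i : Fin 4) : Ex t (R i) :=
  ⟨h.tt, h.tR i, fun x hx => (h.cm1 i x hx).1, fun x hx => by
    rcases h.sq i x hx with e1 | e1 | e1
    exacts [.inl (by simp [e1]), .inl (e1 ▸ h.tt), .inr e1.1], fun x hx => (h.cm1 i x hx).2,
    fun x hx c => (h.sq i x hx).imp id fun e1 => e1.resolve_right fun ⟨_, y, hy, e2⟩ =>
      h.t1 (by simpa [c y hy] using e2)⟩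

theorem QF.sup [Finite G] {t : G} {R : Fin 4 → Subgroup G} (h : QF t R) : Ex t (⨆ i, R i) ∧
    Nat.card ↥(⨆ i, R i) = 512 ∧ ∀ r, (∀ i, Fp t r (R i)) → Fp t r (⨆ i, R i) := by
  have h0 : ⨆ i, R i = R 0 ⊔ R 1 ⊔ R 2 ⊔ R 3 := le_antisymm (iSup_le fun i => by
    fin_cases i
    exacts [le_sup_of_le_left (le_sup_of_le_left le_sup_left),
      le_sup_of_le_left (le_sup_of_le_left le_sup_right), le_sup_of_le_left le_sup_right, le_sup_right])
    (by simp only [sup_le_iff, le_iSup, and_self])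
  have c : ∀ {D D' : Subgroup G} {i}, (∀ x ∈ D, ∀ y ∈ R i, x * y = y * x) →
      (∀ x ∈ D', ∀ y ∈ R i, x * y = y * x) → ∀ x ∈ D ⊔ D', ∀ y ∈ R i, x * y = y * x :=
    fun a b x hx y hy => mem_centralizer_singleton_iff.mp ((sup_le
      (fun x hx => mem_centralizer_singleton_iff.mpr (a x hx y hy))
      (fun x hx => mem_centralizer_singleton_iff.mpr (b x hx y hy)) : _ ≤ centralizer {y}) hx)
  obtain ⟨a1, a2, a3⟩ := (h.ex 0).sup (h.ex 1) h.t1 (h.cm 0 1 (by decide))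
  obtain ⟨b1, b2, b3⟩ := a1.sup (h.ex 2) h.t1 (c (h.cm 0 2 (by decide)) (h.cm 1 2 (by decide)))
  obtain ⟨c1, c2, c3⟩ := b1.sup (h.ex 3) h.t1 (c (c (h.cm 0 3 (by decide)) (h.cm 1 3 (by decide)))
    (h.cm 2 3 (by decide)))
  rw [h.card] at a2 b2 c2
  rw [h.card] at a2
  rw [h0]
  exact ⟨c1, by omega, fun r f => c3 r (b3 r (a3 r (f 0) (f 1)) (f 2)) (f 3)⟩

/-- The action of `S₃` on the field of order three. -/
def ap1 (σ : Equiv.Perm (Fin 3)) (x : ZMod 3) : ZMod 3 := σ x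

/-- The action of `S₃ × S₃ × S₃` on the coordinates. -/
def app (σ : Fin 3 → Equiv.Perm (Fin 3)) (v : V27) : V27 :=
  (ap1 (σ 0) v.1, ap1 (σ 1) v.2.1, ap1 (σ 2) v.2.2)

theorem app_inj {σ τ : Fin 3 → Equiv.Perm (Fin 3)} (h : ∀ v, app σ v = app τ v) : σ = τ := by
  funext i
  ext1 x
  have := h (x, x, x)
  fin_cases i
  exacts [congrArg (·.1) this, congrArg (·.2.1) this, congrArg (·.2.2) this]

/-- The diagonal matrices on `A`. -/
def dg (ε : V27) : M := ((ε.2.1 * 2 + ε.2.2 * 2, ε.2.1 * 2 + ε.2.2, 0, 0), (ε.2.1 * 2 + ε.2.2, ε.2.1 * 2 + ε.2.2 * 2, 0, 0),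
  (0, 0, ε.1 * 2 + 2, ε.1 * 2 + 1), (0, 0, ε.1 * 2 + 1, ε.1 * 2 + 2))

variable [Finite G] {J : Subgroup G} {e : V → G} {φ : L →* G}

namespace B

variable (h : B J e φ)
include h

theorem exE (hc : Cm e (φ s)) : Ex (φ s) (E e (φ s)) := E_eq e (φ s) ▸ (h.qf hc).sup.1

theorem card_E (hc : Cm e (φ s)) : Nat.card (E e (φ s)) = 512 := E_eq e (φ s) ▸ (h.qf hc).sup.2.1

theorem E_fp (hc : Cm e (φ s)) {u : V} (u1 : u.2.2.1 = u.2.2.2) (u2 : ∀ i, ip u (zs i) ≠ 0) :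
    Fp (φ s) (e u) (E e (φ s)) := E_eq e (φ s) ▸ (h.qf hc).sup.2.2 _ fun i => ⟨fun _ hy =>
  h.mem_R.mpr ((by decide +kernel : ∀ i, ap (ms 0) (zs i) = zs i) i ▸ h.Q8_conj
    (W4_le (ms_facts 0).1) ((ac_par h.par _).congr (by decide +kernel))
    (h.ac_s.comm (by rw [← u1]; exact congrArg (fun c => (u.1, u.2.1, u.2.2.1, c)) u1)).symm
    (h.mem_R.mp hy)), fun _ => h.R_fpf u1 (u2 i)⟩

theorem E_fpf (hc : Cm e (φ s)) {x : G} (hx : x ∈ E e (φ s)) {ρ : V}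
    (hρ : ρ ∈ [(0, 0, 1, 1), (1, 1, 0, 0), (1, 2, 0, 0)]) (c : x * e ρ = e ρ * x) : x = 1 ∨ x = φ s := by
  obtain ⟨u1, u2⟩ := (by decide +kernel : ∀ u ∈ [((0, 0, 1, 1) : V), (1, 1, 0, 0), (1, 2, 0, 0)],
    u.2.2.1 = u.2.2.2 ∧ ∀ i, ip u (zs i) ≠ 0) ρ hρ
  exact (h.E_fp hc u1 u2).2 x hx (.inl (mul_inv_eq_iff_eq_mul.mpr c.symm))

theorem cs {g : G} {f : V → V} (h1 : Ac e g f) (h2 : g * φ s = φ s * g) (v : V) : f (sw v) = sw (f v) :=
  (h1.mul h.ac_s).uniq h.par (h2 ▸ h.ac_s.mul h1) v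

theorem N_le_nE {n : G} (h1 : n ∈ normalizer (J : Set G) ⊓ centralizer {φ s}) :
    n ∈ normalizer (E e (φ s) : Set G) := by
  obtain ⟨m, hm, a⟩ := h.nor n h1.1
  have c := mem_centralizer_singleton_iff.mp h1.2
  refine mem_normalizer_of_conj_mem fun x hx => (closure_le ((E e (φ s)).comap
    (MulAut.conj n).toMonoidHom)).mpr (Set.iUnion_subset fun i y hy => ?_) hx
  have := h.Q8_conj hm a c hy
  obtain ⟨j, e1 | e1⟩ := (by decide +kernel : ∀ m ∈ W, (∀ v, ap m (sw v) = sw (ap m v)) → ∀ i, ∃ j,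
    ap m (zs i) = zs j ∨ -ap m (zs i) = zs j) m hm (h.cs a c) i
  exacts [subset_closure (Set.mem_iUnion.mpr ⟨j, e1 ▸ this⟩),
    subset_closure (Set.mem_iUnion.mpr ⟨j, e1 ▸ Q8_neg this⟩)]

theorem E_N (hc : Cm e (φ s)) {x : G} (hx : x ∈ E e (φ s)) (hn : x ∈ normalizer (J : Set G)) :
    x = 1 ∨ x = φ s := by
  refine h.E_fpf hc hx (ρ := (0, 0, 1, 1)) (by simp) ?_
  have a1 := mul_mem hx ((h.E_fp hc (u := (0, 0, 1, 1)) rfl (by decide +kernel)).1 _ (inv_mem hx))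
  obtain ⟨v, hv⟩ := (h.par.mem _).mp (mul_mem (conj_mem_of_mem_normalizer hn (h.par.mem' (0, 0, 1, 1)))
    (inv_mem (h.par.mem' (0, 0, 1, 1))))
  rw [← mul_assoc, ← mul_assoc, ← hv] at a1
  have a2 : e v = 1 := by
    have := h.e3 v
    rw [pow_succ, pow_two] at this
    rcases (h.exE hc).sq _ a1 with e1 | e1 <;> rw [e1] at this
    · simpa using this
    · rw [← inv_eq_of_mul_eq_one_right this, inv_eq_of_mul_eq_one_right h.tt, h.tt] at e1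
      exact absurd e1.symm h.t1
  rw [a2, eq_comm, mul_inv_eq_one, mul_inv_eq_iff_eq_mul] at hv
  exact hv

theorem exists_Pi (h4 : N4 J e) (hc : Cm e (φ s)) : ∃ π, Pi J e (φ s) π := by
  obtain ⟨ι, i1, i2⟩ := h.iota
  let N := normalizer (J : Set G) ⊓ centralizer {φ s}
  let A : G → (Fin 3 → Equiv.Perm (Fin 3)) → Prop := fun n σ =>
    ∀ v, n * (ι * e (ea v)) * n⁻¹ = ι * e (ea (app σ v))
  have ea1 : ∀ u v, ea u = ea v → u = v := by decide +kernel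
  have sA : ∀ v, φ s * e (ea v) = e (ea v) * φ s := fun v => h.ac_s.comm rfl
  have A0 : ∀ n σ τ, A n σ → A n τ → σ = τ := fun n σ τ a b => app_inj fun v =>
    ea1 _ _ (h.par.inj (mul_left_cancel ((a v).symm.trans (b v))))
  have A1 : ∀ n m σ τ, A n σ → A m τ → A (n * m) (σ * τ) := fun n m σ τ a b v => by
    rw [show app (σ * τ) v = app σ (app τ v) from rfl, ← a, ← b]; group
  have A2 : A 1 1 := fun v => by rw [one_mul, inv_one, mul_one]; rfl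
  have A3 : A (φ s) 1 := fun v => mul_inv_eq_iff_eq_mul.mpr (Commute.mul_right i2 (sA v)).eq
  have A4 : ∀ n ∈ N, ∃ σ, A n σ := fun n hn => by
    obtain ⟨m, hm, a⟩ := h4 n hn.1
    have c := mem_centralizer_singleton_iff.mp hn.2
    obtain ⟨u, hu⟩ := h.coset i1 (h.cj_ι i1 a)
    obtain ⟨w, rfl⟩ := (by decide +kernel : ∀ u : V, sw u = u → ∃ v, ea v = u) u
      (h.ac_s.fix h.par (by
        rw [← inv_mul_cancel_left ι (e u), ← hu]
        exact (Commute.mul_right (Commute.inv_right i2) ((Commute.mul_right c.symm i2).mul_right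
          (Commute.inv_right c.symm))).eq))
    obtain ⟨ε, ⟨e1, e2, e3⟩, e4⟩ := (by decide +kernel : ∀ m ∈ W4, (∀ v, ap m (sw v) = sw (ap m v)) →
      ∃ ε : V27, (ε.1 ≠ 0 ∧ ε.2.1 ≠ 0 ∧ ε.2.2 ≠ 0) ∧ ∀ v, ap m (ea v) = ea (ε * v)) m hm (h.cs a c)
    have p := (by decide : ∀ c ε : ZMod 3, ε ≠ 0 → ∃ σ : Equiv.Perm (Fin 3), ∀ x : ZMod 3,
      c + ε * x = ap1 σ x)
    obtain ⟨σ0, s0⟩ := p w.1 _ e1
    obtain ⟨σ1, s1⟩ := p w.2.1 _ e2
    obtain ⟨σ2, s2⟩ := p w.2.2 _ e3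
    refine ⟨![σ0, σ1, σ2], fun v => ?_⟩
    rw [← conj_mul, hu, a, mul_assoc, ← h.par.add, e4,
      ← (by decide +kernel : ∀ u v, ea (u + v) = ea u + ea v)]
    exact congrArg (fun v => ι * e (ea v)) (Prod.ext (s0 _) (Prod.ext (s1 _) (s2 _)))
  have A5 : ∀ w (n : G) f σ, Ac e n f → n * ι = ι * n → (∀ v, ea w + f (ea v) = ea (app σ v)) →
      A (e (ea w) * n) σ := fun w n f σ a c b v => by
    have h3 : e (ea w) * ι = ι * e (-ea w) := by
      have := i1 (-ea w)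
      rw [← neg_neg (ea w), ← this, inv_mul_cancel_right, neg_neg]
    calc _ = e (ea w) * (n * ι * n⁻¹) * (n * e (ea v) * n⁻¹) * (e (ea w))⁻¹ := by group
      _ = _ := by
        rw [c, mul_inv_cancel_right, a, h3, ← h.par.neg, mul_assoc, mul_assoc, ← h.par.add, ← h.par.add,
          ← b, (by decide +kernel : ∀ u v : V, -u + (v + -u) = u + v)]
  let P : G → (Fin 3 → Equiv.Perm (Fin 3)) → Prop := fun g σ =>
    ∃ f ∈ E e (φ s), ∃ n ∈ N, f * n = g ∧ A n σ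
  have P0 : ∀ g σ, P g σ → Classical.epsilon (P g) = σ := fun g σ a => by
    obtain ⟨f', hf', n', hn', e2, b⟩ := Classical.epsilon_spec ⟨σ, a⟩
    obtain ⟨f, hf, n, hn, e1, a⟩ := a
    have e3 : f⁻¹ * f' = n * n'⁻¹ := by
      rw [inv_mul_eq_iff_eq_mul, ← mul_assoc, e1, ← e2, mul_inv_cancel_right]
    rcases h.E_N hc (e3 ▸ mul_mem (inv_mem hf) hf') (mul_mem hn (inv_mem hn')).1 with e4 | e4
    · exact A0 _ _ _ (mul_inv_eq_one.mp e4 ▸ b) a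
    · exact A0 _ _ _ (mul_inv_eq_iff_eq_mul.mp e4 ▸ one_mul (Classical.epsilon (P g)) ▸ A1 _ _ _ _ A3 b) a
  have P1 : ∀ g ∈ T0 J e (φ s), ∃ σ, P g σ := fun g hg => by
    obtain ⟨f, hf, n, hn, e1⟩ := (mem_sup_of_right_le_normalizer fun n hn => h.N_le_nE hn).mp hg
    obtain ⟨σ, a⟩ := A4 n hn
    exact ⟨σ, f, hf, n, hn, e1, a⟩
  have eN : ∀ w, e (ea w) ∈ N := fun w => ⟨le_normalizer (h.par.mem' _),
    mem_centralizer_singleton_iff.mpr (sA w).symm⟩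
  refine ⟨fun g => Classical.epsilon (P g), fun x hx y hy => ?_, fun x hx => ?_, fun σ => ?_, fun v => ?_⟩
  · obtain ⟨σ, a⟩ := P1 x hx
    obtain ⟨τ, b⟩ := P1 y hy
    rw [P0 _ _ a, P0 _ _ b]
    obtain ⟨f, hf, n, hn, rfl, a⟩ := a
    obtain ⟨f', hf', n', hn', rfl, b⟩ := b
    exact P0 _ _ ⟨_, mul_mem hf (conj_mem_of_mem_normalizer (h.N_le_nE hn) hf'), _, mul_mem hn hn',
      by group, A1 _ _ _ _ a b⟩
  · refine ⟨fun e1 => ?_, fun hx => P0 _ _ ⟨x, hx, 1, one_mem _, mul_one x, A2⟩⟩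
    obtain ⟨σ, a⟩ := P1 x hx
    obtain rfl := (P0 _ _ a).symm.trans e1
    obtain ⟨f, hf, n, hn, rfl, a⟩ := a
    have c : n * ι = ι * n := by
      have := a 0
      rwa [show ea (app 1 0) = 0 from rfl, show ea 0 = 0 from rfl, h.par.zero, mul_one,
        mul_inv_eq_iff_eq_mul] at this
    refine mul_mem hf ?_
    rcases h.cent_A (g := n) fun v => mul_inv_eq_iff_eq_mul.mp (mul_left_cancel (a := ι) (by
      rw [← show _ = ι * e (ea v) from a v, ← mul_assoc n, c]; group)) with e2 | e2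
    · rw [h.lift_ext i1 e2 Ac.one c (by simp)]; exact one_mem _
    · rw [h.lift_ext i1 e2 h.ac_s c i2]; exact (h.exE hc).tD
  · obtain ⟨w, ε, hε, b⟩ := (by decide +kernel : ∀ σ, ∃ w, ∃ ε ∈ [((1, 1, 1) : V27), (1, 1, 2), (1, 2, 1),
      (1, 2, 2), (2, 1, 1), (2, 1, 2), (2, 2, 1), (2, 2, 2)], w = app σ 0 ∧ ∀ v, w + ε * v = app σ v) σ
    obtain ⟨m1, m2, m3⟩ := (by decide +kernel : ∀ ε ∈ [((1, 1, 1) : V27), (1, 1, 2), (1, 2, 1),
      (1, 2, 2), (2, 1, 1), (2, 1, 2), (2, 2, 1), (2, 2, 2)], dg ε ∈ W4 ∧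
      (∀ v, ap (dg ε) (sw v) = sw (ap (dg ε) v)) ∧ ∀ v, ap (dg ε) (ea v) = ea (ε * v)) ε hε
    obtain ⟨g, hg⟩ := h.real _ m1
    obtain ⟨u, g1, g2⟩ := h.lift i1 hg
    have g3 : e (ea w) * (e u * g) ∈ N := mul_mem (eN w) ⟨g1.norm h.par,
      mem_centralizer_singleton_iff.mpr (h.lift_cm i1 g1 h.ac_s g2 i2 m2)⟩
    exact ⟨_, mem_sup_right g3, P0 _ _ ⟨1, one_mem _, _, g3, one_mul _, A5 _ _ _ _ g1 g2 fun v => by
      rw [m3, ← b.2, (by decide +kernel : ∀ u v, ea (u + v) = ea u + ea v)]⟩⟩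
  · exact P0 _ _ ⟨1, one_mem _, _, mul_mem (eN v) (one_mem _), by simp,
      A5 _ _ _ _ Ac.one (by simp) (by clear * -; revert v; decide +kernel)⟩

end B

end Cfsg.Agent.O83
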