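import Cfsg.Agent.O83.Idx3
import Cfsg.Agent.O83.Basic

/-! From the frame to the normal subgroup, given the identification of the simple group. -/

set_option autoImplicit false

namespace Cfsg.Agent.O83

open Subgroup Cfsg.Agent.Char Cfsg.Agent.Local Cfsg.Agent.P43 Cfsg.Agent.P43.L

universe u

attribute [local irreducible] Mat.memN r1 r2 r3 z s sg qq eL Mat.cmul Mat.cinv W W3 W4

/-- The identification of the simple group from the frame with its twists. -/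
def IsoH (Ω : Type*) [Group Ω] : Prop :=
  ∀ (X : Type u) [Group X] [Finite X] (J : Subgroup X) (e : V → X) (φ : L →* X),
    B3 J e φ → N4 J e → Nonempty (X ≃* Ω)

/-- The index two subgroup. -/
def Idx2H : Prop :=
  ∀ (X : Type u) [Group X] [Finite X] (J : Subgroup X) (e : V → X) (φ : L →* X) (w : X),
    B3 J e φ → Ww e φ w → ∃ N : Subgroup X, N.Normal ∧ N.index = 2 ∧ w ∉ N

variable {G : Type u} [Group G] [Finite G] {J : Subgroup G} {e : V → G} {φ : L →* G} {d : G}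
  {Ω : Type*} [Group Ω]

theorem B.fin3 (h : B J e φ) (hd : Dd e φ d) (hI : IsoH.{u} Ω)
    (h3 : ∀ g ∈ normalizer (J : Set G), ∃ m ∈ W3, Ac e g (ap m)) :
    ∃ N : Subgroup G, N.Normal ∧ N.index = 3 ∧ d ∉ N ∧ Nonempty (N ≃* Ω) := by
  obtain ⟨N, hN, h1, h2⟩ := h.idx3 hd h3
  have ht : φ s ∈ N := s_mem_of_three h1
  refine ⟨N, hN, h1, h2, hI N _ _ _ ((h.b3 hd).restrict N (h.JN ht) (h.φN ht)) fun g hg => ?_⟩
  obtain ⟨m, hm, h4⟩ := h3 g ((norm_sub (h.JN ht)).mp hg)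
  exact ⟨m, h.W4_of_mem hd ht h2 g.2 hm h4, fun v => Subtype.ext (h4 v)⟩

theorem B.final (h : B J e φ) (hd : Dd e φ d) (hI : IsoH.{u} Ω) (h2 : Idx2H.{u}) :
    ∃ N : Subgroup G, N.Normal ∧ Nonempty (N ≃* Ω) ∧ centralizer (N : Set G) = ⊥ ∧
      (N.index = 3 ∨ N.index = 6) := by
  by_cases h3 : ∀ g ∈ normalizer (J : Set G), ∃ m ∈ W3, Ac e g (ap m)
  · obtain ⟨N, hN, h4, -, h5⟩ := h.fin3 hd hI h3
    exact ⟨N, hN, h5, h.cent_eq_bot (s_mem_of_three h4), .inl h4⟩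
  push Not at h3
  obtain ⟨g, hg, h3⟩ := h3
  obtain ⟨m, hm, h4⟩ := h.nor g hg
  obtain ⟨w, hw⟩ := h.exists_w hd hm (fun h5 => h3 m h5 h4) h4
  obtain ⟨X, hX, i2, wX⟩ := h2 G J e φ w (h.b3 hd) hw
  have ht : φ s ∈ X := s_mem_of_two i2
  have dX : d ∈ X := by
    have h5 := mul_self_mem_of_index_two i2 d
    rwa [eq_inv_of_mul_eq_one_left ((pow_three' d).symm.trans hd.d3), inv_mem_iff] at h5
  have h' := h.restrict X (h.JN ht) (h.φN ht)
  have hd' := hd.restrict (h.eN ht) (h.φN ht) dX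
  have h3' : ∀ g ∈ normalizer (J.subgroupOf X : Set X), ∃ m ∈ W3,
      Ac (fun v => (⟨e v, h.eN ht v⟩ : X)) g (ap m) := fun g hg => by
    obtain ⟨m, hm, h5⟩ := h.nor g ((norm_sub (h.JN ht)).mp hg)
    exact ⟨m, h.W3_of_mem hd hw ht dX wX g.2 hm h5, fun v => Subtype.ext (h5 v)⟩
  obtain ⟨N, hN, i3, dN, ⟨ι⟩⟩ := h'.fin3 hd' hI h3'
  have hn : (N.map X.subtype).Normal := ⟨by
    rintro _ ⟨x, hx, rfl⟩ k
    have h5 := h'.idx3_le hd' h3' (N' := N.comap (MulAut.conjNormal k).toMonoidHom) i3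
      ((index_comap_of_surjective _ (MulAut.conjNormal k).surjective).trans i3) dN hx
    exact ⟨_, h5, rfl⟩⟩
  refine ⟨N.map X.subtype, hn, ⟨(N.equivMapOfInjective _ X.subtype_injective).symm.trans ι⟩,
    h.cent_eq_bot ⟨_, s_mem_of_three (φ := φ.codRestrict X (h.φN ht)) i3, rfl⟩, .inr ?_⟩
  rw [index_map_of_injective _ X.subtype_injective, range_subtype, i3, i2]

end Cfsg.Agent.O83
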