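import Cfsg.Agent.O83.Blk
import Cfsg.Agent.O83.Tr

/-! The index two subgroup. -/

set_option autoImplicit false
set_option maxRecDepth 100000
set_option synthInstance.maxSize 4096

namespace Cfsg.Agent.O83

open Subgroup Cfsg.Agent.Char Cfsg.Agent.Local Cfsg.Agent.P43 Cfsg.Agent.P43.L
open scoped Pointwise

attribute [local irreducible] Mat.memN r1 r2 r3 z s sg qq eL Mat.cmul Mat.cinv W W3 W4
attribute [local instance 10000] List.decidableBAll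

theorem bk_W : ∀ m ∈ W, (∀ v, ap m (sw v) = sw (ap m v)) → ∃ σ : Equiv.Perm (Fin 4),
    (∀ i, ap m (zs i) = zs (σ i) ∨ -ap m (zs i) = zs (σ i)) ∧
      (σ = 1 → (∀ v, ap m (ea v) = ea v) ∨ ∀ v, ap m (ea v) = -ea v) := by decide +kernel

/-- The reflection in the first basis vector. -/
def bkR : M := ((2, 0, 0, 0), (0, 1, 0, 0), (0, 0, 1, 0), (0, 0, 0, 1))

theorem bk_R : bkR ∈ W ∧ (∀ v, ap bkR v = (-v.1, v.2)) ∧ (∀ i, ap bkR (zs i) = zs (Equiv.swap 2 3 i) ∨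
    -ap bkR (zs i) = zs (Equiv.swap 2 3 i)) ∧ (∀ i, ap (ms 2) (zs i) = zs ((Equiv.swap 0 2 *
      Equiv.swap 1 3 : Equiv.Perm (Fin 4)) i) ∨ -ap (ms 2) (zs i) = zs ((Equiv.swap 0 2 *
      Equiv.swap 1 3 : Equiv.Perm (Fin 4)) i)) ∧ ap (ms 1) (zs 1) = zs 0 :=
  ⟨mem_W.mpr (by decide), by decide +kernel⟩

theorem bk_S4 : (∀ a b : Equiv.Perm (Fin 4), a * Equiv.swap 2 3 = Equiv.swap 2 3 * a →
    b * Equiv.swap 2 3 = Equiv.swap 2 3 * b → (a 0 ≠ 0 → b 0 ≠ 0 → (a * b) 0 = 0) ∧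
      (a 0 = 0 → b 0 = 0 → a 2 ≠ 2 → b 2 ≠ 2 → (a * b) 2 = 2) ∧ (a 0 = 0 → a 2 = 2 → a = 1)) ∧
    (∀ a : Equiv.Perm (Fin 4), a 0 = 0 → a 1 = 1 → a = 1 ∨ a = Equiv.swap 2 3) ∧
    ∀ a : Equiv.Perm (Fin 4), a * a = 1 → Equiv.Perm.sign a ≠ 1 → ∃ c ∈ [1, Equiv.swap 0 2 *
      Equiv.swap 1 3, a * Equiv.swap 2 3], c * a * c⁻¹ = Equiv.swap 2 3 := by decide +kernel

variable {G : Type*} [Group G] [Finite G] {J : Subgroup G} {e : V → G} {φ : L →* G} {w g k x y : G}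

namespace B

variable (h : B J e φ)
include h

theorem bl_ac {m : M} (hm : m ∈ W) (h1 : Ac e g (ap m)) (h2 : g * φ s = φ s * g)
    {σ : Equiv.Perm (Fin 4)} (h3 : ∀ i, ap m (zs i) = zs (σ i) ∨ -ap m (zs i) = zs (σ i)) :
    Bl (R e (φ s)) g σ := fun i x hx => by
  have := h.Q8_conj hm h1 h2 (h.mem_R.mp hx)
  rcases h3 i with e1 | e1
  exacts [h.mem_R.mpr (e1 ▸ this), h.mem_R.mpr (e1 ▸ Q8_neg this)]

theorem eA {u : V} (u1 : u.2.2.1 = u.2.2.2) : e u * φ s = φ s * e u :=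
  (h.ac_s.comm (by rw [← u1]; exact congrArg (fun c => (u.1, u.2.1, u.2.2.1, c)) u1)).symm

theorem bl_A {u : V} (u1 : u.2.2.1 = u.2.2.2) : Bl (R e (φ s)) (e u) 1 :=
  h.bl_ac (W4_le (ms_facts 0).1) ((ac_par h.par _).congr (by decide +kernel)) (h.eA u1)
    (by decide +kernel)

theorem T0_dec (hg : g ∈ T0 J e (φ s)) : ∃ f ∈ E e (φ s), ∃ k ∈ normalizer (J : Set G),
    k * φ s = φ s * k ∧ f * k = g := by
  obtain ⟨f, hf, n, hn, e1⟩ := (mem_sup_of_right_le_normalizer fun n hn => h.N_le_nE hn).mp hg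
  exact ⟨f, hf, n, hn.1, mem_centralizer_singleton_iff.mp hn.2, e1⟩

theorem T0t (hg : g ∈ T0 J e (φ s)) : g * φ s = φ s * g :=
  mem_centralizer_singleton_iff.mp (h.T0_le hg)

theorem nE (h1 : k ∈ normalizer (J : Set G)) (h2 : k * φ s = φ s * k) :
    k ∈ normalizer (E e (φ s) : Set G) := h.N_le_nE ⟨h1, mem_centralizer_singleton_iff.mpr h2⟩

theorem plus {f : G} (hf : f ∈ E e (φ s)) (hc : Cm e (φ s)) (h2 : k * φ s = φ s * k)
    (h3 : ∀ v, k * e (ea v) * k⁻¹ = e (ea v)) :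
    ∃ f' ∈ E e (φ s), ∃ v : V, v.2.2.1 = v.2.2.2 ∧ f * k = f' * e v := by
  have k1 : ∀ {v : V}, e v * φ s = φ s * e v → v.2.2.1 = v.2.2.2 := fun c =>
    congrArg (·.2.2.2) (h.ac_s.fix h.par c.symm)
  rcases h.cent_A fun v => mul_inv_eq_iff_eq_mul.mp (h3 v) with e1 | e1
  · obtain ⟨v, rfl⟩ := (h.par.mem _).mp (h.cJ _ e1)
    exact ⟨f, hf, v, k1 h2, rfl⟩
  · obtain ⟨v, hv⟩ := (h.par.mem _).mp (h.cJ _ ((h.ac_s.mul e1).congr fun _ => rfl))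
    exact ⟨f * φ s, mul_mem hf (h.exE hc).tD, v, k1 (by rw [hv, mul_assoc, h2]),
      by rw [hv, mul_assoc, ← mul_assoc (φ s), h.tt, one_mul]⟩

variable (hc : Cm e (φ s))
include hc

theorem blE (hg : g ∈ E e (φ s)) : Bl (R e (φ s)) g 1 := (h.qf hc).bl_E (E_eq e (φ s) ▸ hg)

theorem exBl (hg : g ∈ T0 J e (φ s)) : ∃ σ, Bl (R e (φ s)) g σ := by
  obtain ⟨f, hf, k, h1, h2, rfl⟩ := h.T0_dec hg
  obtain ⟨m, hm, a⟩ := h.nor k h1
  obtain ⟨σ, h3, -⟩ := bk_W m hm (h.cs a h2)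
  exact ⟨_, (h.blE hc hf).mul (h.bl_ac hm a h2 h3)⟩

theorem sgn (hg : g ∈ T0 J e (φ s)) (hb : Bl (R e (φ s)) g 1) : ∃ f ∈ E e (φ s),
    ∃ k ∈ normalizer (J : Set G), k * φ s = φ s * k ∧ f * k = g ∧
      ((∀ v, k * e (ea v) * k⁻¹ = e (ea v)) ∨ ∀ v, k * e (ea v) * k⁻¹ = e (-ea v)) := by
  obtain ⟨f, hf, k, h1, h2, rfl⟩ := h.T0_dec hg
  obtain ⟨m, hm, a⟩ := h.nor k h1
  obtain ⟨σ, h3, h4⟩ := bk_W m hm (h.cs a h2)
  have h5 := (h.qf hc).bl_uniq (h.T0t hg) ((h.blE hc hf).mul (h.bl_ac hm a h2 h3)) hb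
  exact ⟨f, hf, k, h1, h2, rfl, (h4 (by simpa using h5)).imp (fun e1 v => by rw [a, e1])
    fun e1 v => by rw [a, e1]⟩

theorem blk (hg : g ∈ T0 J e (φ s)) (hb : Bl (R e (φ s)) g 1) (c0 : g ∈ TrS h.tt (R e (φ s) 0))
    (c1 : g ∈ TrS h.tt (R e (φ s) 1)) : ∃ f ∈ E e (φ s), ∃ c, g = f * e (c, 0, 0, 0) := by
  have Q := h.qf hc
  have tE : ∀ {f}, f ∈ E e (φ s) → ∀ i, f ∈ TrS h.tt (R e (φ s) i) := fun hf => Q.tr_E (E_eq e (φ s) ▸ hf)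
  have k0 : ∀ {u : V} {i}, u.2.2.1 = u.2.2.2 → e u ∈ TrS h.tt (R e (φ s) i) → ip u (zs i) = 0 :=
    fun {u i} u1 h1 => by
      by_contra u2
      obtain ⟨x, hx, x1, x2⟩ := Q.exists_nc i
      exact (h.R_fpf u1 u2 hx (h1.2 x hx)).elim x1 x2
  obtain ⟨f, hf, k, h1, h2, rfl, h3 | h3⟩ := h.sgn hc hg hb
  · obtain ⟨f', hf', v, v1, e1⟩ := h.plus hf hc h2 h3
    rw [e1] at c0 c1 ⊢
    exact ⟨f', hf', v.1, congrArg (f' * e ·) ((by decide +kernel : ∀ v : V, v.2.2.1 = v.2.2.2 →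
      ip v (zs 0) = 0 → ip v (zs 1) = 0 → v = (v.1, 0, 0, 0)) v v1
      (k0 v1 ((mul_mem_cancel_left (tE hf' 0)).mp c0)) (k0 v1 ((mul_mem_cancel_left (tE hf' 1)).mp c1)))⟩
  · have a1 := inv_mem ((mul_mem_cancel_left (tE hf 0)).mp c0)
    have a2 := h3 (0, 2, 1)
    have a3 := h.eA (u := ea (0, 2, 1)) rfl
    have a4 := Q.bl_inv (h.bl_A (u := ea (0, 2, 1)) rfl) 0
    have a5 : e (ea (0, 2, 1)) * k⁻¹ * (e (ea (0, 2, 1)))⁻¹ ∈ TrS h.tt (R e (φ s) 0) := by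
      generalize e (ea (0, 2, 1)) = b at a3 a4
      refine ⟨((Commute.mul_left a3 a1.1).mul_left (Commute.inv_left a3)).eq, fun q hq => ?_⟩
      rw [show b * k⁻¹ * b⁻¹ * q * (b * k⁻¹ * b⁻¹)⁻¹ = b * (k⁻¹ * (b⁻¹ * q * b⁻¹⁻¹) * k⁻¹⁻¹) * b⁻¹ by group]
      refine (a1.2 _ (a4 q hq)).imp (fun e1 => by rw [e1]; group) fun e1 => ?_
      rw [e1, ← conj_mul, a3]; group
    have a6 := mul_mem (inv_mem a1) a5
    rw [inv_inv, ← mul_assoc, ← mul_assoc, a2, ← h.par.neg, ← h.par.add] at a6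
    exact absurd (k0 rfl a6) (by decide)

theorem two_E (hg : g ∈ T0 J e (φ s)) {f : G} (hf : f ∈ E e (φ s)) {v : V} (e1 : g = f * e v) {n : ℕ}
    (h1 : g ^ 2 ^ n = 1) : g ∈ E e (φ s) := by
  subst e1
  refine bk_two hf (h.nE (le_normalizer (h.par.mem' v)) ?_) (h.e3 v) h1
  have := h.T0t hg
  rwa [mul_assoc, ← mul_assoc (φ s), ← (h.exE hc).ct f hf, mul_assoc, mul_right_inj] at this

variable (hw : Ww e φ w)
include hw

omit hc in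
theorem w_bl : Bl (R e (φ s)) w (Equiv.swap 2 3) :=
  h.bl_ac bk_R.1 (hw.act.congr fun v => (bk_R.2.1 v).symm) (hw.cm s) bk_R.2.2.1

theorem w_01 : ∀ p ∈ R e (φ s) 0 ⊔ R e (φ s) 1, w * p = p * w := by
  have h0 : ∀ p ∈ R e (φ s) 0, w * p = p * w := fun p hp => by
    obtain ⟨l, -, -, rfl⟩ := h.q8.mp (h.mem_R.mp hp)
    exact hw.cm l
  obtain ⟨ι, i1, i2, i3⟩ := h.iota' hw
  obtain ⟨g, hg⟩ := h.real _ (ms_facts 1).1
  obtain ⟨u, g1, g2⟩ := h.lift i1 hg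
  have g3 := h.lift_cm i1 g1 h.ac_s g2 i2 (ms_facts 1).2.2.1
  have g4 := h.lift_cm i1 g1 hw.act g2 i3 (by decide +kernel)
  intro p hp
  obtain ⟨a, ha, b, hb, rfl⟩ := mem_sup_cm ((h.qf hc).cm 0 1 (by decide)) hp
  refine (Commute.mul_right (h0 a ha) ?_).eq
  have h1 := h0 _ (h.mem_R.mpr (bk_R.2.2.2.2 ▸ h.Q8_conj (W4_le (ms_facts 1).1) g1 g3 (h.mem_R.mp hb)))
  generalize e u * g = n at g4 h1
  change w * b = b * w
  calc _ = n⁻¹ * (n * w) * b := by group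
    _ = n⁻¹ * (w * (n * b * n⁻¹)) * n := by rw [g4]; group
    _ = b * n⁻¹ * (w * n) := by rw [h1]; group
    _ = _ := by rw [← g4]; group

theorem lemM (hx : x ∈ T0 J e (φ s)) (xx : x * x = 1) (bx : Bl (R e (φ s)) x (Equiv.swap 2 3))
    (c : ∀ p ∈ R e (φ s) 0 ⊔ R e (φ s) 1, x * p = p * x) :
    ∃ c ∈ T0 J e (φ s), c * x * c⁻¹ = w ∨ c * x * c⁻¹ = φ s * w := by
  have Q := h.qf hc
  have wT := h.mem_T0 hw.act (hw.cm s)
  have c2 : ∀ p ∈ R e (φ s) 0 ⊔ R e (φ s) 1, x * w * p = p * (x * w) := fun p hp =>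
    (Commute.mul_left (c p hp) (h.w_01 hc hw p hp)).eq
  have c3 : ∀ i, R e (φ s) i ≤ R e (φ s) 0 ⊔ R e (φ s) 1 → x * w ∈ TrS h.tt (R e (φ s) i) := fun i hi =>
    ⟨h.T0t (mul_mem hx wT), fun q hq => .inl (mul_inv_eq_iff_eq_mul.mpr (c2 q (hi hq)))⟩
  obtain ⟨f, hf, u, e1⟩ := h.blk hc (mul_mem hx wT) (by simpa using bx.mul (h.w_bl hw))
    (c3 0 le_sup_left) (c3 1 le_sup_right)
  have at' := h.eA (u := (u, 0, 0, 0)) rfl
  have aT := h.mem_T0 (ac_par h.par (u, 0, 0, 0)) at'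
  have aE := h.nE (le_normalizer (h.par.mem' _)) at'
  have c4 : ∀ p ∈ R e (φ s) 0 ⊔ R e (φ s) 1, e (u, 0, 0, 0) * p = p * e (u, 0, 0, 0) := fun p hp => by
    obtain ⟨a, ha, b, hb, rfl⟩ := mem_sup_cm (Q.cm 0 1 (by decide)) hp
    exact (Commute.mul_right ((h.mem_R.mp ha).2.2 (u, 0, 0, 0) rfl (by simp [ip, zs])).symm
      ((h.mem_R.mp hb).2.2 (u, 0, 0, 0) rfl (by simp [ip, zs])).symm).eq
  have e2 := inv_conj (h.e3 (u, 0, 0, 0)) hw.ww (by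
    have := hw.act (u, 0, 0, 0)
    rw [inv_eq_of_mul_eq_one_right hw.ww] at this
    rw [mul_assoc, ← mul_assoc w, this, ← h.par.add]
    exact (congrArg e (by simp [Prod.ext_iff])).trans h.par.zero)
  generalize e (u, 0, 0, 0) = a at e1 aT aE c4 e2
  have e3 : a * x * a⁻¹ = a * f * a⁻¹ * w := by
    calc _ = a * (x * w * w) * a⁻¹ := by rw [mul_assoc x, hw.ww, mul_one]
      _ = _ := by rw [e1, mul_assoc f, ← e2]; group
  have f1 := conj_mem_of_mem_normalizer aE hf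
  have f2 : a * f * a⁻¹ ∈ R e (φ s) 2 ⊔ R e (φ s) 3 := Q.mem23 (E_eq e (φ s) ▸ f1) fun p hp => by
    rw [eq_mul_inv_of_mul_eq e1.symm]
    exact ((Commute.mul_left (c4 p hp) (Commute.mul_left (c2 p hp) (Commute.inv_left (c4 p hp)))).mul_left
      (Commute.inv_left (c4 p hp))).eq
  have f3 : a * f * a⁻¹ * w * (a * f * a⁻¹ * w) = 1 := by rw [← e3, conj_mul, xx]; group
  generalize a * f * a⁻¹ = f' at e3 f1 f2 f3
  have f4 : w * f' * w⁻¹ = f'⁻¹ := by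
    rw [inv_eq_of_mul_eq_one_right hw.ww, eq_inv_iff_mul_eq_one]
    calc _ = f'⁻¹ * (f' * w * (f' * w)) * f' := by group
      _ = 1 := by rw [f3]; group
  obtain ⟨q, hq, τ, hτ, e4⟩ := Q.z8 (h.w_bl hw) f2 (by
    rw [f4]
    refine ((h.exE hc).sq _ f1).imp (fun e5 => inv_eq_of_mul_eq_one_right e5) fun e5 => ?_
    exact inv_eq_of_mul_eq_one_right (by rw [← mul_assoc, e5, h.tt]))
  refine ⟨q⁻¹ * a, mul_mem (inv_mem (h.R_le_T0 2 hq)) aT, ?_⟩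
  have e5 : q⁻¹ * a * x * (q⁻¹ * a)⁻¹ = w * q * (w⁻¹ * τ * w) * q := by
    calc _ = q⁻¹ * (a * x * a⁻¹) * q := by group
      _ = _ := by rw [e3, e4]; group
  have c5 := (Q.cm1 2 q hq).1
  have c6 : w⁻¹ * φ s * w = φ s := by rw [mul_assoc, ← hw.cm s]; group
  rw [e5]
  rcases (Q.ex 2).sq q hq with e6 | e6 <;> rcases hτ with rfl | rfl
  · exact .inl (by rw [mul_one, inv_mul_cancel, mul_one, mul_assoc, e6, mul_one])
  · exact .inr (by rw [c6, mul_assoc w, c5, mul_assoc, mul_assoc, e6, mul_one, hw.cm s])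
  · exact .inr (by rw [mul_one, inv_mul_cancel, mul_one, mul_assoc, e6, hw.cm s])
  · exact .inl (by rw [c6, mul_assoc w, c5, mul_assoc, mul_assoc, e6, h.tt, mul_one])

theorem exU : ∃ U : Subgroup G, IsPGroup 2 U ∧ 1024 ≤ Nat.card U ∧ U ≤ T0 J e (φ s) ∧
    U ≤ centralizer {w} ∧ w ∈ U ∧ R e (φ s) 0 ⊔ R e (φ s) 1 ≤ U ∧
      ∃ n ∈ T0 J e (φ s), Bl (R e (φ s)) n (Equiv.swap 0 2 * Equiv.swap 1 3) := by
  have Q := h.qf hc
  obtain ⟨ι, i1, i2, i3⟩ := h.iota' hw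
  obtain ⟨g, hg⟩ := h.real _ (ms_facts 2).1
  obtain ⟨u, g1, g2⟩ := h.lift i1 hg
  have g3 := h.lift_cm i1 g1 h.ac_s g2 i2 (ms_facts 2).2.2.1
  have g4 := h.bl_ac (W4_le (ms_facts 2).1) g1 g3 bk_R.2.2.2.1
  have g5 := (g1.mul hw.act).mul (g1.inv (ms_facts 2).2.2.2)
  generalize e u * g = n at g1 g2 g3 g4 g5
  have b2 : Bl (R e (φ s)) (n * w * n⁻¹) (Equiv.swap 0 1) := by
    have := (g4.mul (h.w_bl hw)).mul (Q.bl_inv g4)
    rwa [show Equiv.swap 0 2 * Equiv.swap 1 3 * Equiv.swap 2 3 * (Equiv.swap 0 2 * Equiv.swap 1 3)⁻¹ =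
      (Equiv.swap 0 1 : Equiv.Perm (Fin 4)) by decide] at this
  have c1 : n * w * n⁻¹ * ι = ι * (n * w * n⁻¹) :=
    ((Commute.mul_left g2 i3).mul_left (Commute.inv_left g2)).eq
  have c2 : n * w * n⁻¹ * φ s = φ s * (n * w * n⁻¹) :=
    ((Commute.mul_left g3 (hw.cm s)).mul_left (Commute.inv_left g3)).eq
  have c3 := h.lift_cm i1 g5 hw.act c1 i3 (by decide +kernel)
  have c4 : n * w * n⁻¹ * (n * w * n⁻¹) = 1 := by rw [conj_mul, hw.ww]; group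
  generalize n * w * n⁻¹ = w2 at g5 b2 c1 c2 c3 c4
  have bι : Bl (R e (φ s)) ι 1 := h.bl_ac (m := ((2, 0, 0, 0), (0, 2, 0, 0), (0, 0, 2, 0), (0, 0, 0, 2)))
    (mem_W.mpr (by decide)) (i1.congr (by decide +kernel)) i2.symm (by decide +kernel)
  have nF : ∀ {k f}, Ac e k f → k * φ s = φ s * k → k * w = w * k →
      k ∈ normalizer ((E e (φ s) ⊓ centralizer {w} : Subgroup G) : Set G) := fun a b c =>
    mem_normalizer_of_conj_mem fun y hy => ⟨conj_mem_of_mem_normalizer (h.nE (a.norm h.par) b) hy.1,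
      mem_centralizer_singleton_iff.mpr ((Commute.mul_left c (mem_centralizer_singleton_iff.mp hy.2)).mul_left
        (Commute.inv_left c)).eq⟩
  have nS : ∀ {K : Subgroup G} {k a : G}, k ∈ normalizer (K : Set G) → k * a = a * k →
      k ∈ normalizer ((K ⊔ zpowers a : Subgroup G) : Set G) := fun {K k a} h1 h2 =>
    le_normalizer_sup (A := zpowers k) (zpowers_le.mpr h1) (zpowers_le.mpr (mem_normalizer_of_conj_mem (by
      rintro _ ⟨j, rfl⟩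
      rw [(Commute.zpow_right h2 j).eq, mul_inv_cancel_right]
      exact ⟨j, rfl⟩))) (mem_zpowers k)
  have nE : ∀ i, E e (φ s) ⊓ centralizer {w} ≤ normalizer (R e (φ s) i : Set G) := fun i y hy =>
    (h.blE hc hy.1).norm rfl
  obtain ⟨p1, d1⟩ := bk_ext (K := E e (φ s) ⊓ centralizer {w}) ((IsPGroup.of_card (n := 9)
    (h.card_E hc)).to_le inf_le_left) (nF i1 i2.symm i3.symm) (fun e1 => by
      rcases h.E_N hc e1.1 (i1.norm h.par) with rfl | e2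
      · exact absurd (i1.uniq h.par Ac.one (1, 0, 0, 0)) (by decide)
      · exact absurd (i1.uniq h.par (e2 ▸ h.ac_s) (1, 0, 0, 0)) (by decide)) (h.ii i1)
  obtain ⟨p2, d2⟩ := bk_ext p1 (nS (nF hw.act (hw.cm s) rfl) i3) (fun e1 => absurd
    (Q.bl_fix (hw.cm s) (h.w_bl hw) ((sup_le (nE 2) (zpowers_le.mpr (bι.norm rfl))) e1)) (by decide)) hw.ww
  obtain ⟨p3, d3⟩ := bk_ext p2 (nS (nS (nF g5 c2 c3) c1) c3) (fun e1 => absurd
    (Q.bl_fix c2 b2 ((sup_le (sup_le (nE 0) (zpowers_le.mpr (bι.norm rfl)))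
      (zpowers_le.mpr ((h.w_bl hw).norm (by decide)))) e1)) (by decide)) c4
  have d0 := Q.card_F hw.ww (hw.cm s) (h.w_bl hw) (h.w_01 hc hw)
  rw [← E_eq] at d0
  refine ⟨_, p3, by omega, sup_le (sup_le (sup_le (inf_le_left.trans le_sup_left)
    (zpowers_le.mpr (h.mem_T0 i1 i2.symm))) (zpowers_le.mpr (h.mem_T0 hw.act (hw.cm s))))
    (zpowers_le.mpr (h.mem_T0 g5 c2)), sup_le (sup_le (sup_le inf_le_right (zpowers_le.mpr
      (mem_centralizer_singleton_iff.mpr i3.symm))) (zpowers_le.mpr (mem_centralizer_singleton_iff.mpr rfl)))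
      (zpowers_le.mpr (mem_centralizer_singleton_iff.mpr c3)),
    mem_sup_left (mem_sup_right (mem_zpowers w)), fun p hp => mem_sup_left (mem_sup_left (mem_sup_left
      ⟨E_eq e (φ s) ▸ (QF.E_dec _).ge (mem_sup_left hp),
        mem_centralizer_singleton_iff.mpr (h.w_01 hc hw p hp).symm⟩)), n, h.mem_T0 g1 g3, g4⟩

omit hw in
theorem cnt2 (hx : x ∈ T0 J e (φ s)) (xx : x * x = 1) (bx : Bl (R e (φ s)) x (Equiv.swap 2 3))
    {U : Subgroup G} (pU : IsPGroup 2 U) (cU : 1024 ≤ Nat.card U) (h1 : U ≤ T0 J e (φ s))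
    (h2 : U ≤ centralizer {x}) : ∀ p ∈ R e (φ s) 0 ⊔ R e (φ s) 1, x * p = p * x := by
  have Q := h.qf hc
  have k : ∀ a ∈ U, ∃ σ, Bl (R e (φ s)) a σ ∧ σ * Equiv.swap 2 3 = Equiv.swap 2 3 * σ ∧
      ∀ i, a ∈ normalizer (R e (φ s) i : Set G) ↔ σ i = i := fun a ha => by
    obtain ⟨σ, h3⟩ := h.exBl hc (h1 ha)
    exact ⟨σ, h3, Q.bl_uniq (h.T0t (mul_mem (h1 ha) hx)) (h3.mul bx)
      (mem_centralizer_singleton_iff.mp (h2 ha) ▸ bx.mul h3),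
      fun i => ⟨Q.bl_fix (h.T0t (h1 ha)) h3, h3.norm⟩⟩
  have d1 := bk_half (X := U) (L := normalizer (R e (φ s) 0 : Set G)) fun a ha b hb a1 b1 => by
    obtain ⟨σ, s1, s2, s3⟩ := k a ha
    obtain ⟨τ, t1, t2, t3⟩ := k b hb
    exact (s1.mul t1).norm ((bk_S4.1 σ τ s2 t2).1 (mt (s3 0).2 a1) (mt (t3 0).2 b1))
  have d2 := bk_half (X := U ⊓ normalizer (R e (φ s) 0 : Set G)) (L := normalizer (R e (φ s) 2 : Set G))
    fun a ha b hb a1 b1 => by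
      obtain ⟨σ, s1, s2, s3⟩ := k a ha.1
      obtain ⟨τ, t1, t2, t3⟩ := k b hb.1
      exact (s1.mul t1).norm ((bk_S4.1 σ τ s2 t2).2.1 ((s3 0).1 ha.2) ((t3 0).1 hb.2)
        (mt (s3 2).2 a1) (mt (t3 2).2 b1))
  have d3 := bk_half (X := U ⊓ normalizer (R e (φ s) 0 : Set G) ⊓ normalizer (R e (φ s) 2 : Set G))
    (L := E e (φ s)) fun a ha b hb a1 b1 => by
      have k2 : ∀ a ∈ U ⊓ normalizer (R e (φ s) 0 : Set G) ⊓ normalizer (R e (φ s) 2 : Set G),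
          a ∉ E e (φ s) → ∃ f ∈ E e (φ s), ∃ k ∈ normalizer (J : Set G), k * φ s = φ s * k ∧ f * k = a ∧
            ∀ v, k * e (ea v) * k⁻¹ = e (-ea v) := fun a ha a1 => by
        obtain ⟨σ, s1, s2, s3⟩ := k a ha.1.1
        obtain rfl := (bk_S4.1 σ σ s2 s2).2.2 ((s3 0).1 ha.1.2) ((s3 2).1 ha.2)
        obtain ⟨f, hf, k, k1, k2, e1, k3 | k3⟩ := h.sgn hc (h1 ha.1.1) s1
        · obtain ⟨f', hf', v, -, e2⟩ := h.plus hf hc k2 k3
          obtain ⟨n, hn⟩ := pU ⟨a, ha.1.1⟩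
          exact absurd (h.two_E hc (h1 ha.1.1) hf' (e1.symm.trans e2) (congrArg Subtype.val hn)) a1
        · exact ⟨f, hf, k, k1, k2, e1, k3⟩
      obtain ⟨f, hf, k, k1, k2', rfl, k3⟩ := k2 a ha a1
      obtain ⟨f', hf', k', k1', k4, rfl, k5⟩ := k2 b hb b1
      obtain ⟨f'', hf'', v, -, e2⟩ := h.plus (k := k * k')
        (mul_mem hf (conj_mem_of_mem_normalizer (h.nE k1 k2') hf')) hc (Commute.mul_left k2' k4).eq fun v => by
          rw [show k * k' * e (ea v) * (k * k')⁻¹ = k * (k' * e (ea v) * k'⁻¹) * k⁻¹ by group, k5, h.par.neg,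
            ← conj_inv, k3, h.par.neg, inv_inv]
      obtain ⟨n, hn⟩ := pU ⟨_, mul_mem ha.1.1 hb.1.1⟩
      exact h.two_E hc (h1 (mul_mem ha.1.1 hb.1.1)) hf'' (by rw [← e2]; group) (congrArg Subtype.val hn)
  exact Q.cnt xx (h.T0t hx) bx (Y := U ⊓ normalizer (R e (φ s) 0 : Set G) ⊓
    normalizer (R e (φ s) 2 : Set G) ⊓ E e (φ s)) (E_eq e (φ s) ▸ inf_le_right)
    (fun a ha => h2 ha.1.1.1) (by omega)

omit hw hc in
theorem idx2_of (hw : Ww e φ w) (hc : Cm e (φ s))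
    (hX : ∀ g, g * φ s = φ s * g → g * w = w * g → g ∈ T0 J e (φ s))
    (n1 : ¬ IsConj (φ s) w) (n2 : ¬ IsConj (φ s) (φ s * w)) (n3 : ¬ IsConj w (φ s * w))
    (n4 : ∀ x ∈ R e (φ s) 2, ∀ y ∈ R e (φ s) 3, x * x = φ s → y * y = φ s → ¬ IsConj (φ s) (x * y)) :
    ∃ N : Subgroup G, N.Normal ∧ N.index = 2 ∧ w ∉ N := by
  have Q := h.qf hc
  obtain ⟨U, pU, cU, UT, Uw, wU, RU, n, nT, bn⟩ := h.exU hc hw
  choose β hβ using fun g : T0 J e (φ s) => h.exBl hc g.2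
  have hu : ∀ (g : T0 J e (φ s)) σ, Bl (R e (φ s)) g σ → β g = σ := fun g σ => Q.bl_uniq (h.T0t g.2) (hβ g)
  let ψ : T0 J e (φ s) →* ℤˣ := MonoidHom.mk' (fun g => Equiv.Perm.sign (β g)) fun a b => by
    rw [hu (a * b) _ ((hβ a).mul (hβ b)), map_mul]
  have main : ∀ g, g * φ s = φ s * g → (∀ r ∈ U, g⁻¹ * r * g ∈ T0 J e (φ s)) →
      Bl (R e (φ s)) (g⁻¹ * w * g) (Equiv.swap 2 3) → g ∈ T0 J e (φ s) := fun g gt h1 bx => by
    have xx : g⁻¹ * w * g * (g⁻¹ * w * g) = 1 := by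
      calc _ = g⁻¹ * (w * w) * g := by group
        _ = 1 := by rw [hw.ww]; group
    obtain ⟨c, cT, h2 | h2⟩ := h.lemM hc hw (h1 w wU) xx bx (h.cnt2 hc (h1 w wU) xx bx
      (U := MulAut.conj g⁻¹ • U) (pU.map _) (by rwa [card_conj_smul]) (by
        rintro _ ⟨r, hr, rfl⟩
        simpa using h1 r hr) (by
        rintro _ ⟨r, hr, rfl⟩
        refine mem_centralizer_singleton_iff.mpr ?_
        change g⁻¹ * r * g⁻¹⁻¹ * (g⁻¹ * w * g) = g⁻¹ * w * g * (g⁻¹ * r * g⁻¹⁻¹)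
        calc _ = g⁻¹ * (r * w) * g := by group
          _ = _ := by rw [mem_centralizer_singleton_iff.mp (Uw hr)]; group))
    · refine (mul_mem_cancel_right (inv_mem cT)).mp (hX _ (Commute.mul_left gt
        (Commute.inv_left (h.T0t cT))).eq ?_)
      nth_rewrite 1 [← h2]
      group
    · exact absurd (isConj_iff.mpr ⟨c * g⁻¹, by rw [← h2]; group⟩) n3
  refine exists_index_two_fix ψ hw.ww pU wU (fun r hr => mem_centralizer_singleton_iff.mp (Uw hr)) UT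
    (by change Equiv.Perm.sign (β _) ≠ 1; rw [hu _ _ (h.w_bl hw)]; decide) fun g hg h1 h2 => ?_
  have gt : g * φ s = φ s * g := by
    have c0 : ∀ r ∈ U, g * φ s * g⁻¹ * r = r * (g * φ s * g⁻¹) := fun r hr => by
      calc _ = g * (φ s * (g⁻¹ * r * g)) * g⁻¹ := by group
        _ = _ := by rw [← h.T0t (h1 r hr)]; group
    have cj : IsConj (φ s) (g * φ s * g⁻¹) := isConj_iff.mpr ⟨g, rfl⟩
    have tt : g * φ s * g⁻¹ * (g * φ s * g⁻¹) = 1 := by rw [conj_mul, h.tt]; group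
    have t1 : g * φ s * g⁻¹ ≠ 1 := fun e1 => h.t1 (conj_eq_one_iff.mp e1)
    rw [← mul_inv_eq_iff_eq_mul]
    generalize g * φ s * g⁻¹ = t' at c0 cj tt t1
    have tT := hX t' (c0 _ (RU Q.D01.1.tD)) (c0 w wU)
    obtain ⟨σ, hσ⟩ := h.exBl hc tT
    have c1 : ∀ i, R e (φ s) i ≤ R e (φ s) 0 ⊔ R e (φ s) 1 → t' ∈ TrS h.tt (R e (φ s) i) ∧ σ i = i :=
      fun i hi => ⟨⟨h.T0t tT, fun q hq => .inl (mul_inv_eq_iff_eq_mul.mpr (c0 q (RU (hi hq))))⟩,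
        Q.bl_fix (h.T0t tT) hσ (mem_normalizer_of_conj_mem fun q hq => by
          rwa [c0 q (RU (hi hq)), mul_inv_cancel_right])⟩
    rcases bk_S4.2.1 σ (c1 0 le_sup_left).2 (c1 1 le_sup_right).2 with rfl | rfl
    · obtain ⟨f, hf, c, e1⟩ := h.blk hc tT hσ (c1 0 le_sup_left).1 (c1 1 le_sup_right).1
      obtain ⟨q, hq, τ, hτ, e2⟩ := Q.z8 (h.w_bl hw) (Q.mem23 (E_eq e (φ s) ▸ h.two_E hc tT hf e1 (n := 1)
        (by rw [pow_one, sq, tt])) fun p hp => c0 p (RU hp)) (.inl (by rw [← c0 w wU, mul_inv_cancel_right]))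
      have c2 : w * φ s * w⁻¹ = φ s := by rw [hw.cm s, mul_inv_cancel_right]
      rcases Q.sq 2 q hq with rfl | rfl | ⟨e3, -⟩
      · exact (hτ.resolve_left fun e4 => t1 (by simp [e2, e4])) ▸ by simp [e2]
      · rw [c2, h.tt, one_mul] at e2
        exact e2.trans (hτ.resolve_left fun e4 => t1 (e2.trans e4))
      · have m3 := h.w_bl hw 2 q hq
        refine absurd (mul_assoc q _ _ ▸ e2 ▸ cj) (n4 q hq (w * q * w⁻¹ * τ) ?_ e3 ?_)
        · rcases hτ with rfl | rfl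
          exacts [mul_mem m3 (one_mem _), mul_mem m3 (Q.tR 3)]
        · rcases hτ with rfl | rfl
          · rw [mul_one, conj_mul, e3, c2]
          · rw [mul_assoc, ← mul_assoc (φ s), ← (Q.cm1 3 _ m3).1, mul_assoc _ (φ s), h.tt, mul_one,
              conj_mul, e3, c2]
    · obtain ⟨c, -, e1 | e1⟩ := h.lemM hc hw tT tt hσ fun p hp => c0 p (RU hp)
      exacts [absurd (cj.trans (isConj_iff.mpr ⟨c, e1⟩)) n1, absurd (cj.trans (isConj_iff.mpr ⟨c, e1⟩)) n2]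
  have bx := hβ ⟨_, hg⟩
  obtain ⟨γ, hγ, e1⟩ := bk_S4.2.2 (β ⟨_, hg⟩) (Q.bl_uniq (g := 1) (by simp) (by
    have := bx.mul bx
    rwa [show g⁻¹ * w * g * (g⁻¹ * w * g) = g⁻¹ * (w * w) * g by group, hw.ww, mul_one, inv_mul_cancel] at this)
    fun i x hx => by simpa using hx) h2
  obtain ⟨c, cT, bc⟩ : ∃ c ∈ T0 J e (φ s), Bl (R e (φ s)) c γ := by
    simp only [List.mem_cons, List.not_mem_nil, or_false] at hγ
    rcases hγ with rfl | rfl | rfl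
    exacts [⟨1, one_mem _, fun i x hx => by simpa using hx⟩, ⟨n, nT, bn⟩,
      ⟨_, mul_mem hg (UT wU), bx.mul (h.w_bl hw)⟩]
  refine (mul_mem_cancel_right (inv_mem cT)).mp (main _ (Commute.mul_left gt
    (Commute.inv_left (h.T0t cT))).eq (fun r hr => ?_) ?_)
  · simpa [mul_assoc] using mul_mem (mul_mem cT (h1 r hr)) (inv_mem cT)
  · rw [← e1, show (g * c⁻¹)⁻¹ * w * (g * c⁻¹) = c * (g⁻¹ * w * g) * c⁻¹ by group]
    exact (bc.mul bx).mul (Q.bl_inv bc)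

end B

end Cfsg.Agent.O83
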