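import Cfsg.Agent.O83.E
import Cfsg.Agent.O83.CT
import Cfsg.Agent.O8.End

/-! Identification with the orthogonal group. -/

set_option autoImplicit false
set_option maxRecDepth 100000
set_option synthInstance.maxSize 4096

namespace Cfsg.Agent.O83

open Subgroup Cfsg.Agent.Char Cfsg.Agent.Local Cfsg.Agent.P43 Cfsg.Agent.P43.L

attribute [local irreducible] Mat.memN r1 r2 r3 z s sg qq eL Mat.cmul Mat.cinv W W3 W4
attribute [local instance 10000] List.decidableBAll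

variable {G : Type*} [Group G] [Finite G] {J : Subgroup G} {e : V → G} {φ : L →* G}

theorem B.iso (h : B J e φ) (h4 : N4 J e) (hc : Cm e (φ s))
    (hT : centralizer {φ s} ≤ T0 J e (φ s)) :
    Nonempty (G ≃* Cfsg.Omega (ZMod 2) (Cfsg.quadFormPlus 4 (ZMod 2))) := by
  obtain ⟨π, hπ⟩ := h.exists_Pi h4 hc
  have E := h.exE hc
  have H : O8.Hyp (φ s) (O83.E e (φ s)) π := ⟨h.tt, h.t1, E.tD, le_sup_left.trans h.T0_le, E.cm, E.sq,
    E.cen, h.card_E hc, fun x hx y hy => hπ.mul x (hT hx) y (hT hy), fun x hx => hπ.ker x (hT hx),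
    fun σ => (hπ.surj σ).imp fun x hx => ⟨h.T0_le hx.1, hx.2⟩⟩
  obtain ⟨ι, i1, i2⟩ := h.iota
  obtain ⟨g, hg⟩ := h.real ((2, 0, 0, 0), (0, 1, 0, 0), (0, 0, 1, 0), (0, 0, 0, 2)) (by decide +kernel)
  obtain ⟨u, g1, g2⟩ := h.lift i1 hg
  have a := (g1.mul h.ac_s).mul (g1.inv (f' := ap ((2, 0, 0, 0), (0, 1, 0, 0), (0, 0, 1, 0), (0, 0, 0, 2)))
    (by decide +kernel))
  obtain ⟨w, hw, h3, h4⟩ := H.not_wc (isConj_iff.mpr ⟨e u * g, rfl⟩) (h.lift_cm i1 a h.ac_s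
    ((Commute.mul_left g2 i2).mul_left (Commute.inv_left g2)).eq i2 (by decide +kernel))
    fun c => absurd ((c ▸ a).uniq h.par h.ac_s (0, 0, 1, 0)) (by decide +kernel)
  obtain ⟨w, Q', E, φ', e, P⟩ := H.exists_fr hw h3 h4
  obtain ⟨gs, P⟩ := P.out
  exact P.iso

theorem B.iso' (h : B J e φ) (h4 : N4 J e) (hc : Cm e (φ s)) (hs : Cs J e (φ s)) :
    Nonempty (G ≃* Cfsg.Omega (ZMod 2) (Cfsg.quadFormPlus 4 (ZMod 2))) :=
  (h.exists_Pi h4 hc).elim fun _ hπ => h.iso h4 hc (h.cent_t h4 hc hs hπ)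

end Cfsg.Agent.O83
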