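import Cfsg.Agent.O83.CaD
import Cfsg.Agent.O83.E
import Cfsg.Agent.O83.E6

/-! A copy of the Weyl group of type `E₆` in the section, given the commutation lemma. -/

set_option autoImplicit false
set_option linter.unusedSectionVars false
set_option maxRecDepth 100000
set_option synthInstance.maxSize 4096

namespace Cfsg.Agent.O83

open Subgroup Cfsg.Agent.Char Cfsg.Agent.Local Cfsg.Agent.P43 Cfsg.Agent.P43.L Equiv

attribute [local irreducible] Mat.memN r1 r2 r3 z s sg qq eL Mat.cmul Mat.cinv W W3 W4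
attribute [local instance 10000] List.decidableBAll

universe u

variable {G : Type u} [Group G] [Finite G] {J : Subgroup G} {e : V → G} {φ : L →* G} {g n ι w d t p a b : G}
  {X : Type u} [Group X] [Finite X] {π : G → X}

/-- The commutation lemma as a proposition. -/
def KcH (e : V → G) (t : G) : Prop :=
  ∀ a b : G, (∀ x ∈ E e t, a * x = x * a) → (∀ x ∈ E e t, b * x = x * b) → Commute a (e (1, 1, 0, 0)) →
    Commute b (e (1, 1, 0, 0)) → Commute a (e (2, 1, 0, 0)) → Commute b (e (0, 0, 2, 2)) → a * a = 1 →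
    a * (e (0, 0, 2, 2) * a * (e (0, 0, 2, 2))⁻¹) * ((e (0, 0, 2, 2))⁻¹ * a * e (0, 0, 2, 2)) = 1 →
    b * (e (2, 1, 0, 0) * b * (e (2, 1, 0, 0))⁻¹) * ((e (2, 1, 0, 0))⁻¹ * b * e (2, 1, 0, 0)) = 1 → a * b = b * a

namespace N6A

/-- The reflection in `(2, 1, 1, 1)`. -/
def mg : M := ((2, 2, 2, 2), (2, 2, 1, 1), (2, 1, 2, 1), (2, 1, 1, 2))

theorem mg_mem : mg ∈ W := mem_W.mpr (by decide)

omit [Finite G] in
theorem cj_cm {g x y : G} (h : Commute x y) : Commute (g * x * g⁻¹) (g * y * g⁻¹) := by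
  change _ * _ = _ * _
  rw [conj_mul, conj_mul, h.eq]

omit [Finite G] in
theorem cj_fix {g x y : G} (h : Commute x y) (hy : Commute g y) : Commute (g * x * g⁻¹) y :=
  (hy.mul_left h).mul_left hy.inv_left

omit [Finite G] in
theorem cj_br {g x y : G} (h : (x * y) ^ 3 = 1) (hy : Commute g y) : (g * x * g⁻¹ * y) ^ 3 = 1 := by
  have : g * x * g⁻¹ * y = g * (x * y) * g⁻¹ := by
    rw [← conj_mul, mul_inv_eq_iff_eq_mul.mpr hy.eq]
  rw [this, conj_pow, h]; simp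

omit [Finite G] in
theorem br_symm {x y : G} (h : (x * y) ^ 3 = 1) : (y * x) ^ 3 = 1 := by
  have : y * x = x⁻¹ * (x * y) * x⁻¹⁻¹ := by group
  rw [this, conj_pow, h]; simp

omit [Finite G] in
theorem cj_sq {g x : G} (h : x * x = 1) : g * x * g⁻¹ * (g * x * g⁻¹) = 1 := by
  rw [conj_mul, h]; simp

theorem zf : ap (ms 1) (zs 1) = zs 0 ∧ ap (ms 2) (zs 2) = zs 0 ∧ ap (ms 2) (zs 3) = zs 1 := by decide +kernel

/-- An element commuting with enough elements centralises `E`. -/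
theorem cent_E (h : B J e φ) {v r : G} (hn : Nn e φ n) (hr : Ac e r (ap (ms 2))) (rt : r * φ s = φ s * r)
    (c2 : Commute v (e (0, 1, 0, 0))) (ct : Commute v (φ s)) (cq : Commute v (φ qq)) (cn : Commute v n)
    (cr : Commute v r) : ∀ x ∈ E e (φ s), v * x = x * v := by
  have k1 : φ r1 = (e (0, 1, 0, 0))⁻¹ * e (0, 2, 2, 2) := by
    rw [← eL_val.1, h.ee, ← h.par.neg, ← h.par.add]; rfl
  have k2 : Commute v (φ (r1 * qq * r1⁻¹)) := by
    have : φ (r1 * qq * r1⁻¹) = (e (0, 1, 0, 0))⁻¹ * φ qq * (e (0, 1, 0, 0))⁻¹⁻¹ := by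
      rw [map_mul, map_mul, map_inv, k1, mul_inv_rev, mul_assoc _ (e _), ← h.zk qq 0 2]; group
    rw [this]
    exact (c2.inv_right.mul_right cq).mul_right c2.inv_right.inv_right
  have k3 : Commute v (φ (r1⁻¹ * qq * r1)) := by
    have : φ (r1⁻¹ * qq * r1) = e (0, 1, 0, 0) * φ qq * (e (0, 1, 0, 0))⁻¹ := by
      have c : (e (0, 1, 0, 0))⁻¹ * e (0, 2, 2, 2) = e (0, 2, 2, 2) * (e (0, 1, 0, 0))⁻¹ :=
        (Commute.inv_left (h.ecm _ _)).eq
      rw [map_mul, map_mul, map_inv, k1, c, mul_inv_rev, inv_inv, ← mul_assoc, mul_assoc _ (φ qq), h.zk qq 0 2]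
      group
    rw [this]
    exact (c2.mul_right cq).mul_right c2.inv_right
  have q0 : ∀ x ∈ Q8 e (φ s) (zs 0), Commute v x := fun x hx => by
    obtain ⟨l, l1, l2, rfl⟩ := h.q8.mp hx
    have := (QL_facts l l1 l2).2.2.1
    simp only [List.mem_cons, List.not_mem_nil, or_false] at this
    rcases this with rfl | rfl | rfl | rfl | rfl | rfl | rfl | rfl
    · rw [map_one]; exact Commute.one_right v
    · exact ct
    · exact cq
    · rw [map_mul]; exact cq.mul_right ct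
    · exact k2
    · rw [map_mul]; exact k2.mul_right ct
    · exact k3
    · rw [map_mul]; exact k3.mul_right ct
  have tr : ∀ {k x : G}, Commute v k → Commute v (k * x * k⁻¹) → Commute v x := fun {k x} c1 c2 => by
    have : x = k⁻¹ * (k * x * k⁻¹) * k := by group
    rw [this]
    exact (c1.inv_right.mul_right c2).mul_right c1
  have q1 : ∀ x ∈ Q8 e (φ s) (zs 1), Commute v x := fun x hx =>
    tr cn (q0 _ (zf.1 ▸ h.Q8_conj (W4_le (ms_facts 1).1) hn.act hn.ns hx))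
  have q2 : ∀ x ∈ Q8 e (φ s) (zs 2), Commute v x := fun x hx =>
    tr cr (q0 _ (zf.2.1 ▸ h.Q8_conj (W4_le (ms_facts 2).1) hr rt hx))
  have q3 : ∀ x ∈ Q8 e (φ s) (zs 3), Commute v x := fun x hx =>
    tr cr (q1 _ (zf.2.2 ▸ h.Q8_conj (W4_le (ms_facts 2).1) hr rt hx))
  intro x hx
  have : E e (φ s) ≤ centralizer {v} := (closure_le _).mpr (Set.iUnion_subset fun i y hy =>
    mem_centralizer_singleton_iff.mpr (by
      fin_cases i
      exacts [(q0 y hy).symm.eq, (q1 y hy).symm.eq, (q2 y hy).symm.eq, (q3 y hy).symm.eq]))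
  exact (mem_centralizer_singleton_iff.mp (this hx)).symm

end N6A

open N6A in
theorem B.no6a_of (h : B J e φ) (hk : KcH e (φ s)) (hd : Dd e φ d) (hw : Ww e φ w) (i1 : Ac e ι fun v => -v)
    (i2 : φ s * ι = ι * φ s) (hn : Nn e φ n) (i4 : n * ι = ι * n) (hp : S6G e φ n p)
    (S : Sec (e (1, 1, 0, 0)) π) : ∃ ψ : L →* X, Function.Injective ψ := by
  obtain ⟨g0, hg0⟩ := h.realW hd hw mg_mem
  obtain ⟨v0, hg, gι⟩ := h.lift i1 hg0
  generalize e v0 * g0 = g at hg gι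
  have gg : g * g = 1 := h.lift_sq i1 hg gι (by decide +kernel)
  have gt : Commute g (φ s) := h.lift_cm i1 hg h.ac_s gι i2 (by decide +kernel)
  have ginv : g⁻¹ = g := inv_eq_of_mul_eq_one_right gg
  have nt : Commute n (φ s) := hn.ns
  obtain ⟨ρ, hρ⟩ : ∃ ρ, ρ = n * φ s := ⟨_, rfl⟩
  have aρ : Ac e ρ fun v => (v.1, v.2.1, -v.2.2.2, -v.2.2.1) :=
    hρ ▸ (hn.act.mul h.ac_s).congr (by decide +kernel)
  have ρι : ρ * ι = ι * ρ := hρ ▸ (Commute.mul_left i4 i2).eq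
  have ρρ : ρ * ρ = 1 := h.lift_sq i1 aρ ρι (by decide +kernel)
  have ρt : Commute ρ (φ s) := hρ ▸ nt.mul_left (Commute.refl _)
  have pρ : Commute p ρ := hρ ▸ hp.pn.mul_right hp.pt
  obtain ⟨σ, hσ⟩ : ∃ σ, σ = g * ρ * g⁻¹ := ⟨_, rfl⟩
  have aσ : Ac e σ (ap (ms 2)) := by
    rw [hσ, ginv]; exact ((hg.mul aρ).mul hg).congr (by decide +kernel)
  have σι : σ * ι = ι * σ := hσ ▸ (cj_fix ρι gι).eq
  have σt : Commute σ (φ s) := hσ ▸ cj_fix ρt gt
  have σn : Commute σ n := h.lift_cm i1 aσ hn.act σι i4 (by decide +kernel)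
  have σρ : Commute σ ρ := hρ ▸ σn.mul_right σt
  have gσ : g * σ * g⁻¹ = ρ := by
    rw [hσ, show g * (g * ρ * g⁻¹) * g⁻¹ = g * g * ρ * (g * g)⁻¹ by group, gg]; simp
  have e1 : φ (eL (0, 1, 2) * s) = e (0, 0, 2, 1) * φ s := by rw [map_mul, h.ee]; rfl
  have e3 : n * φ (s * eL (1, 2, 2)) = ρ * e (0, 0, 2, 2) := by rw [map_mul, h.ee, hρ, mul_assoc]; rfl
  have b1 := hp.b1
  have b3 := hp.b3
  have uq := hp.uniq
  have vq := hp.vq
  have v3 := hp.v3
  rw [e1] at b1 uq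
  rw [e3] at b3 uq
  rw [← hρ] at vq v3
  have σ1 : Commute σ (e (0, 0, 2, 1) * φ s) := Commute.mul_right (aσ.comm (by decide)) σt
  have σ3 : Commute σ (ρ * e (0, 0, 2, 2)) := Commute.mul_right σρ (aσ.comm (by decide))
  have g1 : Commute g (e (0, 0, 2, 1) * φ s) := Commute.mul_right (hg.comm (by decide)) gt
  have σp : Commute σ p := by
    refine mul_inv_eq_iff_eq_mul.mp (uq _ (cj_sq hp.pp) ?_ ?_ (cj_fix hp.pt σt) (cj_fix hp.pn σn) (cj_br b1 σ1)
      (cj_br b3 σ3))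
    · have := cj_cm (g := σ) hp.c2
      rwa [aσ] at this
    · have := cj_cm (g := σ) hp.c1
      rwa [aσ] at this
  obtain ⟨q, hq⟩ : ∃ q, q = g * p * g⁻¹ := ⟨_, rfl⟩
  have ρq : Commute ρ q := by rw [← gσ, hq]; exact cj_cm σp
  have pe : ∀ i j : ZMod 3, Commute p (e (i, j, 0, 0)) := fun i j => by
    have a1 : ∀ i : ZMod 3, Commute p (e (i, 0, 0, 0)) := fun i => by
      obtain rfl | rfl | rfl := (by decide : ∀ k : ZMod 3, k = 0 ∨ k = 1 ∨ k = -1) i
      · rw [show e (0, 0, 0, 0) = 1 from h.par.zero]; exact Commute.one_right _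
      · exact hp.c1
      · rw [show e (-1, 0, 0, 0) = _ from h.par.neg (1, 0, 0, 0)]; exact hp.c1.inv_right
    have a2 : ∀ i : ZMod 3, Commute p (e (0, i, 0, 0)) := fun i => by
      obtain rfl | rfl | rfl := (by decide : ∀ k : ZMod 3, k = 0 ∨ k = 1 ∨ k = -1) i
      · rw [show e (0, 0, 0, 0) = 1 from h.par.zero]; exact Commute.one_right _
      · exact hp.c2
      · rw [show e (0, -1, 0, 0) = _ from h.par.neg (0, 1, 0, 0)]; exact hp.c2.inv_right
    rw [show e (i, j, 0, 0) = e (i, 0, 0, 0) * e (0, j, 0, 0) by rw [← h.par.add]; simp]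
    exact (a1 i).mul_right (a2 j)
  have ve : ∀ i j : ZMod 3, Commute (ρ * p) (e (i, j, 0, 0)) := fun i j =>
    Commute.mul_left (aρ.comm (by simp)) (pe i j)
  have vE := cent_E h hn aσ σt.eq (ve 0 1) (ρt.mul_left hp.pt) vq
    (Commute.mul_left (hρ ▸ (Commute.refl n).mul_left nt.symm) hp.pn) (σρ.symm.mul_left σp.symm)
  have gE := h.N_le_nE (n := g) ⟨hg.norm h.par, mem_centralizer_singleton_iff.mpr gt.eq⟩
  have wE : ∀ x ∈ E e (φ s), g * (ρ * p) * g⁻¹ * x = x * (g * (ρ * p) * g⁻¹) := fun x hx => by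
    have h1 : Commute (ρ * p) (g⁻¹ * x * g) := vE _ ((mem_normalizer_iff''.mp gE x).mp hx)
    have h2 := cj_cm (g := g) h1
    rwa [show g * (g⁻¹ * x * g) * g⁻¹ = x by group] at h2
  have gu : g * e (0, 0, 2, 2) * g⁻¹ = e (2, 1, 0, 0) := hg _
  have gv : g * e (2, 1, 0, 0) * g⁻¹ = e (0, 0, 2, 2) := hg _
  have gx : Commute g (e (1, 1, 0, 0)) := hg.comm (by decide)
  have kc : Commute (ρ * p) (g * (ρ * p) * g⁻¹) := by
    refine hk _ _ vE wE (ve 1 1) (cj_fix (ve 1 1) gx) (ve 2 1) (gv ▸ cj_cm (ve 2 1)) ?_ v3 ?_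
    · rw [mul_assoc, ← mul_assoc p, pρ.eq, mul_assoc, hp.pp, mul_one, ρρ]
    · rw [← gu]
      have := congrArg (fun y => g * y * g⁻¹) v3
      simp only [mul_one, mul_inv_cancel] at this
      rw [← this]; group
  have pq : Commute p q := by
    rw [← conj_mul, ← hσ, ← hq] at kc
    have h1 : Commute (ρ * p) q := by
      have := (σρ.symm.mul_left σp.symm).inv_right.mul_right kc
      rwa [inv_mul_cancel_left] at this
    have := ρq.inv_left.mul_left h1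
    rwa [inv_mul_cancel_left] at this
  obtain ⟨y, hy⟩ : ∃ y, y = g * (ρ * e (0, 0, 2, 2)) * g⁻¹ := ⟨_, rfl⟩
  have hy' : y = σ * e (2, 1, 0, 0) := by rw [hy, ← conj_mul, ← hσ, gu]
  -- the six involutions
  have x0 : Commute (φ s) (e (1, 1, 0, 0)) := h.ac_s.comm rfl
  have x1 : Commute (e (0, 0, 2, 1) * φ s) (e (1, 1, 0, 0)) := Commute.mul_left (h.ecm _ _) x0
  have x2 : Commute p (e (1, 1, 0, 0)) := pe 1 1
  have x3 : Commute (ρ * e (0, 0, 2, 2)) (e (1, 1, 0, 0)) := Commute.mul_left (aρ.comm (by decide)) (h.ecm _ _)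
  have x4 : Commute q (e (1, 1, 0, 0)) := hq ▸ cj_fix x2 gx
  have x5 : Commute y (e (1, 1, 0, 0)) := hy ▸ cj_fix x3 gx
  have sq1 : e (0, 0, 2, 1) * φ s * (e (0, 0, 2, 1) * φ s) = 1 := by
    have := h.ac_s (0, 0, 2, 1)
    rw [inv_eq_of_mul_eq_one_right h.tt] at this
    rw [mul_assoc, ← mul_assoc (φ s), this, ← h.par.add]; exact h.par.zero
  have sq3 : ρ * e (0, 0, 2, 2) * (ρ * e (0, 0, 2, 2)) = 1 := by
    have := aρ (0, 0, 2, 2)
    rw [inv_eq_of_mul_eq_one_right ρρ] at this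
    rw [← mul_assoc, this, ← h.par.add]; exact h.par.zero
  have c03 : Commute (φ s) (ρ * e (0, 0, 2, 2)) := ρt.symm.mul_right (h.ac_s.comm rfl)
  have c13 : Commute (e (0, 0, 2, 1) * φ s) (ρ * e (0, 0, 2, 2)) :=
    Commute.mul_left (Commute.mul_right (Commute.symm (aρ.comm (by decide))) (h.ecm _ _)) c03
  have c25 : Commute p y := hy' ▸ σp.symm.mul_right (pe 2 1)
  have c34 : Commute (ρ * e (0, 0, 2, 2)) q := by
    have := cj_cm (g := g) c25.symm
    rwa [← hq, hy', ← conj_mul, gσ, gv] at this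
  have c35 : Commute (ρ * e (0, 0, 2, 2)) y :=
    hy' ▸ Commute.mul_right σ3.symm (Commute.mul_left (aρ.comm (by decide)) (h.ecm _ _))
  have sq : ∀ {a : G}, Commute a (e (1, 1, 0, 0)) → a * a = 1 → π a * π a = 1 := fun {a} ha h1 => by
    rw [← S.mul _ _ ha ha, h1, S.one]
  have br : ∀ {a b : G}, Commute a (e (1, 1, 0, 0)) → Commute b (e (1, 1, 0, 0)) → (a * b) ^ 3 = 1 →
      (π a * π b) ^ 3 = 1 := fun {a b} ha hb h1 => by
    rw [← S.mul _ _ ha hb, ← S.pow (ha.mul_left hb), h1, S.one]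
  obtain ⟨ψ, hψ, -⟩ := e6 (sq x0 h.tt) (sq x1 sq1) (sq x2 hp.pp) (sq x3 sq3) (sq x4 (hq ▸ cj_sq hp.pp))
    (sq x5 (hy ▸ cj_sq sq3)) (br x0 x1 (by
      have := h.ac_s (0, 0, 2, 1)
      rw [inv_eq_of_mul_eq_one_right h.tt] at this
      rw [← mul_assoc, this, h.e3])) (br x1 x2 (br_symm b1)) (br x2 x3 b3)
    (br x1 x4 (br_symm (hq ▸ cj_br b1 g1))) (br x4 x5 (by rw [hq, hy, conj_mul, conj_pow, b3]; simp))
    (S.cm x0 x2 hp.pt.symm) (S.cm x0 x3 c03) (S.cm x0 x4 (hq ▸ cj_fix hp.pt gt).symm)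
    (S.cm x0 x5 (hy ▸ cj_fix c03.symm gt).symm) (S.cm x1 x3 c13) (S.cm x1 x5 (hy ▸ cj_fix c13.symm g1).symm)
    (S.cm x2 x4 pq) (S.cm x2 x5 c25) (S.cm x3 x4 c34) (S.cm x3 x5 c35) (fun c => by
      have := S.eq_of_pow (n := 2) (by rw [h.oe (by decide)]; norm_num) x0 x1 (by rw [pow_two, h.tt])
        (by rw [pow_two, sq1]) c
      exact h.par.ne_one (v := (0, 0, 2, 1)) (by decide) (right_eq_mul.mp this))
  exact ⟨ψ, hψ⟩

end Cfsg.Agent.O83
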