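import Cfsg.Agent.O83.CaD

/-! The centraliser of a long vector does not involve the centraliser of a transvection in `PSp₄(3)`. -/

set_option autoImplicit false
set_option linter.unusedSectionVars false
set_option maxRecDepth 100000
set_option synthInstance.maxSize 4096

namespace Cfsg.Agent.O83

open Subgroup Cfsg.Agent.Char Cfsg.Agent.Local Cfsg.Agent.P43 Cfsg.Agent.P43.L Equiv
open scoped Pointwise

attribute [local irreducible] Mat.memN r1 r2 r3 z s sg qq eL Mat.cmul Mat.cinv W W3 W4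
attribute [local instance 10000] List.decidableBAll

universe u

variable {G : Type u} [Group G] [Finite G] {J : Subgroup G} {e : V → G} {φ : L →* G}
  {X : Type u} [Group X] [Finite X] {π : G → X}

/-- The elements of order dividing three fixing the long vector. -/
def W9 : List M := W.filter fun m => ap m (1, 1, 0, 0) = (1, 1, 0, 0) ∧ mm m (mm m m) = ms 0

theorem W9_facts : ∀ m ∈ W9, (∀ n ∈ W9, mm (mm m n) (mm (mm m n) (mm m n)) = ms 0 →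
    mm (mm m (mm n n)) (mm (mm m (mm n n)) (mm m (mm n n))) = ms 0 → mm m n = mm n m) ∧ (m = ms 0 ∨ ∀ u : V,
      ∀ i : ZMod 3, ap m u = u + (i, i, 0, 0) → (∃ j : ZMod 3, u = (j, j, 0, 0)) ∨ ∃ j : ZMod 3, u + (j, j, 0, 0) ≠ 0 ∧
        ip (u + (j, j, 0, 0)) (u + (j, j, 0, 0)) = 0 ∧ ip (u + (j, j, 0, 0)) (1, 1, 0, 0) = 0) := by
  decide +kernel

theorem no6_V : (∀ v : V, v ≠ 0 → ip v v = 0 → ∃ m ∈ W4, ap m v = (0, 1, 1, 1)) ∧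
    (∀ v : V, ∀ j : ZMod 3, ip v v = 0 → ip v (1, 1, 0, 0) = 0 → ip (v + (j, j, 0, 0)) (v + (j, j, 0, 0)) = 0 → j = 0) ∧
    (∀ v : V, ip v v = 2 → ip (0, 1, 1, 1) v = 0 → v = emb (pr v) ∧ inQ (eL (pr v) ^ 4) ∧
      ∀ l : L, l * eL (pr v) = eL (pr v) * l → inJ l) ∧
    ∀ m ∈ C6, mm (mm m m) (mm m m) = ms 0 → ∀ v, ap m (ap m v) = v := by
  decide +kernel

theorem no6_L : sg ^ 3 = 1 ∧ eL (0, 1, 2) ^ 3 = 1 ∧ (sg * eL (0, 1, 2)) ^ 3 = 1 ∧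
    (sg * (eL (0, 1, 2) * eL (0, 1, 2))) ^ 3 = 1 ∧ qq ^ 4 = 1 ∧ qq ^ 9 = qq ∧
    ((eL (0, 1, 2) * sg)⁻¹ * (sg * eL (0, 1, 2)) = z ∨ (eL (0, 1, 2) * sg)⁻¹ * (sg * eL (0, 1, 2)) = z⁻¹) := by
  decide +kernel

theorem B.zp_ρ (h : B J e φ) {k : G} : k ∈ zpowers (e (1, 1, 0, 0)) ↔ ∃ i, k = e (i, i, 0, 0) := by
  refine ⟨fun hk => ?_, ?_⟩
  · rcases mem_zpowers_three (h.oe (by decide)) hk with rfl | rfl | rfl
    exacts [⟨0, h.par.zero.symm⟩, ⟨1, rfl⟩, ⟨-1, (h.par.neg (1, 1, 0, 0)).symm⟩]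
  · rintro ⟨i, rfl⟩
    obtain rfl | rfl | rfl := (by decide : ∀ k : ZMod 3, k = 0 ∨ k = 1 ∨ k = -1) i
    exacts [(show e (0, 0, 0, 0) = 1 from h.par.zero) ▸ one_mem _, mem_zpowers _,
      (show e (-1, -1, 0, 0) = _ from h.par.neg (1, 1, 0, 0)) ▸ inv_mem (mem_zpowers _)]

theorem B.ac_one (h : B J e φ) {g : G} {m : M} (h1 : Ac e g (ap m)) (hg : g ∈ J) : m = ms 0 := by
  obtain ⟨v, rfl⟩ := (h.par.mem g).mp hg
  exact ap_ext fun u => (h1.uniq h.par (ac_par h.par v) u).trans (ms0 u).symm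

theorem B.ac_cube (h : B J e φ) {g : G} {m : M} (h1 : Ac e g (ap m)) (hg : g ^ 3 ∈ J) : mm m (mm m m) = ms 0 :=
  h.ac_one ((h1.mul (h1.mul h1)).congr fun v => by rw [ap_mm, ap_mm]) (pow_three g ▸ hg)

theorem B.no6b (h : B J e φ) (S : Sec (e (1, 1, 0, 0)) π) (ψ : L →* X) (hψ : Function.Injective ψ) : False := by
  have xJ : zpowers (e (1, 1, 0, 0)) ≤ J := zpowers_le.mpr (h.par.mem' _)
  have ex : ∀ v, Commute (e v) (e (1, 1, 0, 0)) := fun v => h.ecm _ _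
  obtain ⟨ψ, hψ, hN⟩ : ∃ ψ : L →* X, Function.Injective ψ ∧ ∀ g l, inS l → Commute g (e (1, 1, 0, 0)) → π g = ψ l →
      g ∈ normalizer (J : Set G) := by
    obtain ⟨T, hT, JT⟩ := exists_isSylowIn_ge (N := centralizer {e (1, 1, 0, 0)}) h.wj.pg fun j hj =>
      mem_centralizer_singleton_iff.mpr (h.wj.comm _ hj _ (h.par.mem' _))
    obtain ⟨c, hc, h1⟩ := hT.exists_le_conj (Q := S.pre (SL.map ψ)) (by
      rintro ⟨g, hg, l, hl, h1⟩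
      obtain ⟨i, hi⟩ := h.zp_ρ.mp ((S.ker _ (hg.pow_left 9)).mp (by
        rw [S.pow hg, ← h1, ← map_pow, (inS_facts.2.2.2 l hl).2.1, map_one]))
      exact ⟨3, Subtype.ext (by rw [coe_pow, show 3 ^ 3 = 9 * 3 by rfl, pow_mul, hi, h.e3]; rfl)⟩)
      fun g hg => mem_centralizer_singleton_iff.mpr hg.1
    replace hc : Commute c _ := mem_centralizer_singleton_iff.mp hc
    refine ⟨(MulAut.conj (π c)⁻¹).toMonoidHom.comp ψ, (MulAut.conj _).injective.comp hψ, fun g l hl hg e1 => ?_⟩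
    have := h1 (x := c * g * c⁻¹) ⟨(hc.mul_left hg).mul_left hc.inv_left, l, hl, by rw [S.cj hc hg, e1]; simp [mul_assoc]⟩
    exact (h.wj.wn' _).le_norm hT.isPGroup JT hT.le (smul_mem_pointwise_smul_iff.mp this)
  have cube : ∀ g l, Commute g (e (1, 1, 0, 0)) → π g = ψ l → l ^ 3 = 1 → g ^ 3 ∈ J := fun g l hg h1 h2 =>
    xJ ((S.ker _ (hg.pow_left 3)).mp (by rw [S.pow hg, h1, ← map_pow, h2, map_one]))
  obtain ⟨l1, l2, l3, l4, l5, l6, l7⟩ := no6_L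
  obtain ⟨a, ha, a1⟩ := S.surj (ψ sg)
  obtain ⟨b, hb, b1⟩ := S.surj (ψ (eL (0, 1, 2)))
  obtain ⟨m, hm, a2⟩ := h.nor a (hN a _ inS_facts.2.1 ha a1)
  obtain ⟨n, hn, b2⟩ := h.nor b (hN b _ (inS_facts.2.2.1 _) hb b1)
  have m9 : m ∈ W9 := List.mem_filter.mpr ⟨hm, decide_eq_true ⟨a2.fix h.par ha, h.ac_cube a2 (cube a _ ha a1 l1)⟩⟩
  have n9 : n ∈ W9 := List.mem_filter.mpr ⟨hn, decide_eq_true ⟨b2.fix h.par hb, h.ac_cube b2 (cube b _ hb b1 l2)⟩⟩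
  have h1 := (W9_facts m m9).1 n n9 (h.ac_cube ((a2.mul b2).congr fun v => (ap_mm _ _ v).symm)
    (cube _ _ (ha.mul_left hb) (by rw [S.mul _ _ ha hb, a1, b1, map_mul]) l3))
    (h.ac_cube ((a2.mul (b2.mul b2)).congr fun v => by rw [ap_mm, ap_mm]) (cube _ _ (ha.mul_left (hb.mul_left hb))
      (by rw [S.mul _ _ ha (hb.mul_left hb), S.mul _ _ hb hb, a1, b1, map_mul, map_mul]) l4))
  obtain ⟨u, hu⟩ := h.coset (b2.mul a2) ((a2.mul b2).congr fun v => by rw [← ap_mm, h1, ap_mm])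
  have h2 : π (e u) = ψ z ∨ π (e u) = ψ z⁻¹ := by
    have := congrArg π hu
    rw [S.mul _ _ (hb.mul_left ha) (ex u), S.mul _ _ ha hb, S.mul _ _ hb ha, a1, b1, ← inv_mul_eq_iff_eq_mul,
      ← map_mul, ← map_mul, ← map_inv, ← map_mul] at this
    exact l7.imp (this.symm.trans <| congrArg ψ ·) (this.symm.trans <| congrArg ψ ·)
  have h3 : ∀ l, ψ l * π (e u) = π (e u) * ψ l := fun l => by
    rcases h2 with c | c <;> rw [c]
    exacts [map_cm ψ (z_comm l), map_cm ψ (Commute.inv_right (z_comm l)).eq]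
  have h4 : π (e u) ≠ 1 := fun c => s_facts.2.2.2.2.2.2.2.1 (hψ (by
    rcases h2 with d | d
    · rw [← d, c, map_one]
    · rw [map_one, ← inv_eq_one, ← map_inv, ← d, c]))
  have h5 : ∀ g k l, Commute g (e (1, 1, 0, 0)) → π g = ψ l → Ac e g (ap k) → k ∈ W9 → k = ms 0 ∨ ∃ j : ZMod 3,
      u + (j, j, 0, 0) ≠ 0 ∧ ip (u + (j, j, 0, 0)) (u + (j, j, 0, 0)) = 0 ∧ ip (u + (j, j, 0, 0)) (1, 1, 0, 0) = 0 :=
    fun g k l hg c1 c2 c3 => (W9_facts k c3).2.imp_right fun c => by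
      obtain ⟨_, hk, c4⟩ := S.cm' hg (ex u) (c1 ▸ h3 l)
      obtain ⟨i, rfl⟩ := h.zp_ρ.mp hk
      exact (c u i (h.par.inj (by rw [← c2, c4, h.par.add]))).resolve_left fun ⟨j, c5⟩ =>
        h4 ((S.ker _ (ex u)).mpr (h.zp_ρ.mpr ⟨j, by rw [c5]⟩))
  obtain ⟨j, j1, j2, j3⟩ : ∃ j : ZMod 3, u + (j, j, 0, 0) ≠ 0 ∧ ip (u + (j, j, 0, 0)) (u + (j, j, 0, 0)) = 0 ∧
      ip (u + (j, j, 0, 0)) (1, 1, 0, 0) = 0 := by
    rcases h5 a m _ ha a1 a2 m9 with rfl | c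
    · rcases h5 b n _ hb b1 b2 n9 with rfl | c
      · rw [h.wj.comm _ (h.cJ a (a2.congr ms0)) _ (h.cJ b (b2.congr ms0)), left_eq_mul] at hu
        exact absurd (hu ▸ S.one) h4
      exact c
    exact c
  replace h3 : ∀ l, ψ l * π (e (u + (j, j, 0, 0))) = π (e (u + (j, j, 0, 0))) * ψ l := by
    rwa [h.par.add, S.mul _ _ (ex _) (ex _), (S.ker _ (ex _)).mpr (h.zp_ρ.mpr ⟨j, rfl⟩), mul_one]
  generalize u + (j, j, 0, 0) = v at j1 j2 j3 h3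
  obtain ⟨y, hy, y1, y2⟩ : ∃ y, Commute y (e (1, 1, 0, 0)) ∧ π y = ψ qq ∧ y ^ 4 = 1 := by
    obtain ⟨y, hy, y1⟩ := S.surj (ψ qq)
    obtain ⟨i, hi⟩ := h.zp_ρ.mp ((S.ker _ (hy.pow_left 4)).mp (by rw [S.pow hy, y1, ← map_pow, l5, map_one]))
    exact ⟨y ^ 9, hy.pow_left 9, by rw [S.pow hy, y1, ← map_pow, l6], by
      rw [← pow_mul, show 9 * 4 = 4 * (3 * 3) by rfl, pow_mul, pow_mul, hi, h.e3, one_pow]⟩
  obtain ⟨_, hk, y3⟩ := S.cm' hy (ex v) (y1 ▸ h3 qq)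
  obtain ⟨i, rfl⟩ := h.zp_ρ.mp hk
  rw [← h.par.add] at y3
  obtain ⟨-, k, hk, -, y4⟩ := h.fus y3
  obtain rfl := no6_V.2.1 v i j2 j3 (by rw [← y4, ip_ap hk, j2])
  rw [show v + (0, 0, 0, 0) = v from add_zero v, mul_inv_eq_iff_eq_mul] at y3
  obtain ⟨k, hk, k1⟩ := no6_V.1 v j1 j2
  obtain ⟨g, hg⟩ := h.real k hk
  obtain ⟨l, c, y5, c1, c2⟩ := h.cent (g * y * g⁻¹) (by rw [h.ez, ← k1, ← hg, conj_mul, y3, conj_mul])
  obtain ⟨c3, c4, c5⟩ := no6_V.2.2.1 (ap k (1, 1, 0, 0)) (by rw [ip_ap (W4_le hk)]; rfl)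
    (by rw [← k1, ip_ap (W4_le hk), j3])
  obtain ⟨w, hw⟩ := (h.par.mem _).mp (h.ac_inJ (c5 l (cm_of_map h.inj (mul_right_cancel (b := c) (by
    rw [mul_assoc, ← c2 _ c4, ← mul_assoc, mul_assoc (φ _) (φ l), ← y5, h.ee, ← c3, ← hg, conj_mul, hy.eq,
      conj_mul])))))
  obtain ⟨m, hm, c6⟩ := h.C0 c1 c2
  have c7 : Ac e (g * y * g⁻¹) (ap m) := y5 ▸ hw ▸ (ac_par h.par w).mul c6
  have c8 : g * y * g⁻¹ * (g * y * g⁻¹) * (g * y * g⁻¹ * (g * y * g⁻¹)) = 1 := by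
    rw [← pow_two, ← pow_two, ← pow_mul, conj_pow, y2]; simp
  obtain ⟨w, hw⟩ := (h.par.mem _).mp (h.cJ _ ((c7.mul c7).congr (no6_V.2.2.2 m hm (h.ac_one
    (((c7.mul c7).mul (c7.mul c7)).congr fun v => by rw [ap_mm, ap_mm, ap_mm]) (c8 ▸ one_mem J)))))
  have c9 := h.e3 w
  rw [pow_three, hw, c8, mul_one, conj_mul, conj_eq_one_iff] at c9
  exact s_facts.2.1 (hψ (by rw [← s_facts.2.2.1, map_mul, ← y1, ← S.mul _ _ hy hy, c9, S.one, map_one]))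

end Cfsg.Agent.O83
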