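import Cfsg.Agent.O83.CaD
import Cfsg.Agent.O83.E
import Cfsg.Agent.O83.E6
import Cfsg.Agent.P43.KL

/-! Two elements of the centraliser of the extraspecial group commute. -/

set_option autoImplicit false
set_option linter.unusedSectionVars false
set_option maxRecDepth 100000
set_option synthInstance.maxSize 4096

namespace Cfsg.Agent.O83

open Subgroup Cfsg.Agent.Char Cfsg.Agent.Local Cfsg.Agent.P43 Cfsg.Agent.P43.L Equiv

attribute [local irreducible] Mat.memN r1 r2 r3 z s sg qq eL Mat.cmul Mat.cinv W W3 W4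
attribute [local instance 10000] List.decidableBAll

universe u

section Gen

variable {X : Type*} [Group X] [Finite X]

theorem nk_ndvd {K : Subgroup X} {y t : X} (hy : orderOf y = 3) (hn : y ∈ normalizer (K : Set X))
    (hf : ∀ k ∈ K, k * y = y * k → k = 1 ∨ k = t) : ¬ 3 ∣ Nat.card K := fun h3 => by
  have : Fact (Nat.Prime 3) := ⟨Nat.prime_three⟩
  let _ := conjAction (zpowers_le.mpr hn)
  have h1 := (isPGroup_zpowers_of_orderOf_eq hy).card_modEq_card_fixedPoints K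
  have h2 : Nat.card (MulAction.fixedPoints (zpowers y) K) ≤ Nat.card ({1, t} : Set X) :=
    Nat.card_le_card_of_injective (fun c => ⟨c.1.1, by
      have := congrArg Subtype.val (c.2 ⟨y, mem_zpowers y⟩)
      rw [coe_conjAction_smul, mul_inv_eq_iff_eq_mul] at this
      exact hf _ c.1.2 this.symm⟩) fun a b ab => Subtype.ext (Subtype.ext (Subtype.mk.inj ab))
  have h4 : Nat.card ({1, t} : Set X) ≤ 2 := by
    rw [Nat.card_coe_set_eq]
    exact (Set.ncard_insert_le _ _).trans (by rw [Set.ncard_singleton])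
  have : Nonempty (MulAction.fixedPoints (zpowers y) K) := ⟨⟨1, fun g => smul_one g⟩⟩
  have h5 : 0 < Nat.card (MulAction.fixedPoints (zpowers y) K) := Nat.card_pos
  have := (Nat.modEq_zero_iff_dvd.mpr h3).symm.trans h1
  unfold Nat.ModEq at this
  omega

theorem nk_klem0 {K : Subgroup X} {s u v a b : X} (hs : ∀ g, g * s = s * g)
    (ss : s * s = 1) (uv : u * v = v * u) (hne : v * u⁻¹ ≠ 1)
    (huK : u ∈ normalizer (K : Set X)) (hvK : v ∈ normalizer (K : Set X)) (ha : a ∈ K) (hb : b ∈ K)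
    (h3 : ¬ 3 ∣ Nat.card K) (hf : ∀ k ∈ K, k * (v * u⁻¹) = v * u⁻¹ * k → k = 1 ∨ k = s)
    (hu : u ^ 3 = 1) (hv : v ^ 3 = 1) (va : v * a = a * v) (ub : u * b = b * u) (aa : a * a = 1)
    (a3 : a * (u * a * u⁻¹) * (u⁻¹ * a * u) = 1) (b3 : b * (v * b * v⁻¹) * (v⁻¹ * b * v) = 1) :
    a * b * a⁻¹ * b⁻¹ * (u * v) = u * v * (a * b * a⁻¹ * b⁻¹) := by
  obtain ⟨N, hN, hk⟩ := exists_quot hs ss
  set f := QuotientGroup.mk' N
  have h1 : ∀ g ∈ normalizer (K : Set X), f g ∈ normalizer (K.map f : Set (X ⧸ N)) := fun g hg =>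
    mem_normalizer_of_conj_mem (by
      rintro _ ⟨k, hk, rfl⟩
      exact ⟨_, conj_mem_of_mem_normalizer hg hk, by simp only [map_mul, map_inv]⟩)
  have hy : (v * u⁻¹) ^ 3 = 1 := by
    rw [(Commute.inv_right uv.symm).mul_pow, hv, inv_pow, hu, inv_one, mul_one]
  have hx : (u * v) ^ 3 = 1 := by rw [Commute.mul_pow uv, hu, hv, mul_one]
  have key : ∀ k c, c ^ 3 = 1 → f k * f c = f c * f k → k * c = c * k := fun k c hc e =>
    mul_inv_eq_iff_eq_mul.mp (eq_of_cube hs ss hk (by rw [conj_pow, hc]; group) hc (by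
      rw [map_mul, map_mul, e]; simp))
  obtain ⟨h4, h5⟩ := fpf3 (y := f (v * u⁻¹)) (K := K.map f) (orderOf_eq_prime
    (by rw [← map_pow, hy, map_one]) fun e => hne (eq_of_cube hs ss hk hy (one_pow 3) e))
    (h1 _ (mul_mem hvK (inv_mem huK))) (fun e => h3 (e.trans (card_map_dvd K f))) (by
      rintro _ ⟨k, hk', rfl⟩ e
      exact (hk k).mpr (hf k hk' (key _ _ hy e)))
  have mp : ∀ {p q : X}, p = q → f p = f q := congrArg f
  have := comm_fix (K := K.map f) (u := f u) (v := f v) (a := f a) (b := f b)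
    (by simpa only [map_mul] using mp uv) (h1 u huK) (h1 v hvK) ⟨a, ha, rfl⟩ ⟨b, hb, rfl⟩ h4
    (by simpa only [map_mul, map_inv] using h5) (by rw [← map_pow, hu, map_one])
    (by rw [← map_pow, hv, map_one]) (by simpa only [map_mul] using mp va)
    (by simpa only [map_mul] using mp ub) (by rw [← map_mul, aa, map_one])
    (by simpa only [map_mul, map_inv, map_one] using mp a3)
    (by simpa only [map_mul, map_inv, map_one] using mp b3)
  refine key _ _ hx ?_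
  simp only [map_mul, map_inv]
  exact (mul_inv_eq_iff_eq_mul.mp this).symm

theorem nk_klem {K : Subgroup X} {s u v a b : X} (hs : K ≤ centralizer {s})
    (us : u * s = s * u) (vs : v * s = s * v)
    (ss : s * s = 1) (uv : u * v = v * u) (hne : v * u⁻¹ ≠ 1)
    (huK : u ∈ normalizer (K : Set X)) (hvK : v ∈ normalizer (K : Set X)) (ha : a ∈ K) (hb : b ∈ K)
    (h3 : ¬ 3 ∣ Nat.card K) (hf : ∀ k ∈ K, k * (v * u⁻¹) = v * u⁻¹ * k → k = 1 ∨ k = s)
    (hu : u ^ 3 = 1) (hv : v ^ 3 = 1) (va : v * a = a * v) (ub : u * b = b * u) (aa : a * a = 1)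
    (a3 : a * (u * a * u⁻¹) * (u⁻¹ * a * u) = 1) (b3 : b * (v * b * v⁻¹) * (v⁻¹ * b * v) = 1) :
    a * b * a⁻¹ * b⁻¹ * (u * v) = u * v * (a * b * a⁻¹ * b⁻¹) :=
  congrArg Subtype.val (nk_klem0 (K := K.subgroupOf (centralizer {s}))
    (s := ⟨s, mem_centralizer_singleton_iff.mpr rfl⟩) (u := ⟨u, mem_centralizer_singleton_iff.mpr us⟩)
    (v := ⟨v, mem_centralizer_singleton_iff.mpr vs⟩) (a := ⟨a, hs ha⟩) (b := ⟨b, hs hb⟩)
    (fun g => Subtype.ext (mem_centralizer_singleton_iff.mp g.2)) (Subtype.ext ss) (Subtype.ext uv)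
    (fun e => hne (congrArg Subtype.val e))
    (mem_normalizer_of_conj_mem fun _ hk => conj_mem_of_mem_normalizer (N := K) huK hk)
    (mem_normalizer_of_conj_mem fun _ hk => conj_mem_of_mem_normalizer (N := K) hvK hk) ha hb
    (by rwa [Nat.card_congr (subgroupOfEquivOfLe hs).toEquiv])
    (fun k hk e => (hf k hk (congrArg Subtype.val e)).imp Subtype.ext Subtype.ext)
    (Subtype.ext hu) (Subtype.ext hv) (Subtype.ext va) (Subtype.ext ub) (Subtype.ext aa)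
    (Subtype.ext a3) (Subtype.ext b3))

end Gen

variable {G : Type u} [Group G] [Finite G] {J : Subgroup G} {e : V → G} {φ : L →* G} {g n ι w d t p a b : G}
  {X : Type u} [Group X] [Finite X] {π : G → X}

theorem B.nk_tA (h : B J e φ) {v : V} (hv : v.2.2.1 = v.2.2.2) : e v * φ s = φ s * e v :=
  (h.ac_s.comm (Prod.ext rfl (Prod.ext rfl (Prod.ext hv.symm hv)))).symm

theorem B.nk_RE (i : Fin 4) : R e t i ≤ E e t := E_eq e t ▸ le_iSup (R e t) i

theorem B.nk_ip (h : B J e φ) {v : V} (hv : v.2.2.1 = v.2.2.2) {i : Fin 4}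
    (c : ∀ x ∈ R e (φ s) i, e v * x = x * e v) : ip v (zs i) = 0 := by
  by_contra h0
  obtain ⟨k, -, k2, k3⟩ := h.exR i
  have hx : k * φ qq * k⁻¹ ∈ R e (φ s) i := h.mem_R.mpr ((k3 _).mpr ⟨qq, qq_QL.1, rfl⟩)
  have q : qq ≠ 1 ∧ qq ≠ s := by decide +kernel
  rcases h.R_fpf hv h0 hx (.inl (mul_inv_eq_iff_eq_mul.mpr (c _ hx))) with e1 | e1
  · rw [mul_inv_eq_one, mul_eq_left, ← map_one φ] at e1
    exact q.1 (h.inj e1)
  · rw [mul_inv_eq_iff_eq_mul, ← k2, mul_right_inj] at e1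
    exact q.2 (h.inj e1)

theorem B.nk_zero (h : B J e φ) {v : V} (hv : v.2.2.1 = v.2.2.2)
    (c : ∀ i, i ≠ 0 → ∀ x ∈ R e (φ s) i, e v * x = x * e v) : v = 0 :=
  (by decide +kernel : ∀ v : V, v.2.2.1 = v.2.2.2 → ip v (zs 1) = 0 → ip v (zs 2) = 0 → ip v (zs 3) = 0 → v = 0)
    v hv (h.nk_ip hv (c 1 (by decide))) (h.nk_ip hv (c 2 (by decide))) (h.nk_ip hv (c 3 (by decide)))

theorem B.nk_one (h : B J e φ) (h1 : Ac e n fun v => v) (h2 : n * φ s = φ s * n)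
    (c : ∀ i, i ≠ 0 → ∀ x ∈ R e (φ s) i, n * x = x * n) : n = 1 := by
  obtain ⟨v, rfl⟩ := (h.par.mem _).mp (h.cJ n h1)
  rw [h.nk_zero (congrArg (·.2.2.2) (h.ac_s.fix h.par h2.symm)) c, h.par.zero]

theorem B.nk_N (h : B J e φ) (h1 : n ∈ normalizer (J : Set G)) (h2 : n * φ s = φ s * n)
    (c : ∀ i, i ≠ 0 → ∀ x ∈ R e (φ s) i, n * x = x * n) : n = 1 ∨ n = φ s := by
  obtain ⟨m, -, hm⟩ := h.nor n h1
  have h3 : ∀ v, n * e (ea v) = e (ea v) * n := fun v => hm.comm (by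
    have a1 : (ap m (ea v)).2.2.1 = (ap m (ea v)).2.2.2 :=
      (congrArg (·.2.2.2) (h.cs hm h2 (ea v))).symm
    refine add_neg_eq_zero.mp (h.nk_zero ?_ fun i hi x hx => ?_)
    · change (ap m (ea v)).2.2.1 + -v.1 = (ap m (ea v)).2.2.2 + -v.1
      rw [a1]
    have a2 : (e (ea v))⁻¹ * x * (e (ea v))⁻¹⁻¹ ∈ R e (φ s) i := by
      have := h.Q8_conj (W4_le (ms_facts 0).1) ((ac_par h.par (-ea v)).congr fun w => (ms0 w).symm)
        (h.nk_tA (v := -ea v) rfl) (h.mem_R.mp hx)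
      rw [ms0, h.par.neg] at this
      exact h.mem_R.mpr this
    have a3 := (Commute.inv_left (c i hi _ a2)).eq
    rw [h.par.add, h.par.neg, ← hm]
    calc _ = n * e (ea v) * (n⁻¹ * ((e (ea v))⁻¹ * x * (e (ea v))⁻¹⁻¹)) * (e (ea v))⁻¹ := by group
      _ = n * x * e (ea v) * n⁻¹ * (e (ea v))⁻¹ := by rw [a3]; group
      _ = _ := by rw [c i hi x hx]; group)
  rcases h.cent_A h3 with h4 | h4
  · exact .inl (h.nk_one h4 h2 c)
  · have := h.nk_one (n := n * φ s) ((h4.mul h.ac_s).congr fun _ => rfl)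
      (Commute.mul_left h2 rfl).eq fun i hi x hx => (Commute.mul_left (c i hi x hx) (h.mem_R.mp hx).1.symm).eq
    exact .inr (by rw [mul_eq_one_iff_eq_inv, inv_eq_of_mul_eq_one_right h.tt] at this; exact this)

theorem B.nk_z0 (h : B J e φ) (hc : Cm e (φ s)) (h1 : ∀ x ∈ E e (φ s), g * x = x * g)
    (h2 : g * e (zs 0) = e (zs 0) * g) : g = 1 ∨ g = φ s := by
  have q := h.qf hc
  obtain ⟨x, hx, k, k1, k2, rfl⟩ := h.cent_zt0 (h1 _ (B.nk_RE 0 (q.tR 0))) (h.ez ▸ h2)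
  have h3 : x * k ∈ R e (φ s) 0 := by
    rcases h.nk_N k1 k2 fun i hi y hy => mul_left_cancel (a := x) (by
      rw [← mul_assoc, h1 y (B.nk_RE i hy), ← mul_assoc, ← mul_assoc, q.cm 0 i hi.symm x hx y hy]) with rfl | rfl
    exacts [mul_mem hx (one_mem _), mul_mem hx (q.tR 0)]
  rcases q.sq 0 _ h3 with e1 | e1 | ⟨-, y, hy, e1⟩
  exacts [.inl e1, .inr e1, (q.t1 (by rwa [h1 y (B.nk_RE 0 hy), left_eq_mul] at e1)).elim]

theorem B.nk_z (h : B J e φ) (hc : Cm e (φ s)) (h1 : ∀ x ∈ E e (φ s), g * x = x * g) (i : Fin 4)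
    (h2 : g * e (zs i) = e (zs i) * g) : g = 1 ∨ g = φ s := by
  obtain ⟨k, k1, k2, -⟩ := h.exR i
  have k3 := h.N_le_nE ⟨k1.norm h.par, mem_centralizer_singleton_iff.mpr k2⟩
  rcases h.nk_z0 (g := k⁻¹ * g * k) hc (fun x hx => by
      calc _ = k⁻¹ * (g * (k * x * k⁻¹)) * k := by group
        _ = _ := by rw [h1 _ (conj_mem_of_mem_normalizer k3 hx)]; group) (by
      rw [← (ms_facts i).2.1, ← k1] at h2
      calc _ = k⁻¹ * (g * (k * e (zs 0) * k⁻¹)) * k := by group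
        _ = _ := by rw [h2]; group) with e1 | e1
  · exact .inl (by rwa [mul_assoc, inv_mul_eq_one, right_eq_mul] at e1)
  · exact .inr (by rwa [mul_assoc, inv_mul_eq_iff_eq_mul, k2, mul_left_inj] at e1)

theorem B.kcomm (h : B J e φ) (hc : Cm e (φ s)) (aE : ∀ x ∈ E e (φ s), a * x = x * a)
    (bE : ∀ x ∈ E e (φ s), b * x = x * b) (a2 : Commute a (e (1, 1, 0, 0))) (b2 : Commute b (e (1, 1, 0, 0)))
    (av : Commute a (e (2, 1, 0, 0))) (bu : Commute b (e (0, 0, 2, 2))) (aa : a * a = 1)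
    (a3 : a * (e (0, 0, 2, 2) * a * (e (0, 0, 2, 2))⁻¹) * ((e (0, 0, 2, 2))⁻¹ * a * e (0, 0, 2, 2)) = 1)
    (b3 : b * (e (2, 1, 0, 0) * b * (e (2, 1, 0, 0))⁻¹) * ((e (2, 1, 0, 0))⁻¹ * b * e (2, 1, 0, 0)) = 1) :
    a * b = b * a := by
  obtain ⟨K, hK⟩ : ∃ K : Subgroup G, ∀ k, k ∈ K ↔ (∀ x ∈ E e (φ s), k * x = x * k) ∧
      k * e (1, 1, 0, 0) = e (1, 1, 0, 0) * k :=
    ⟨centralizer (E e (φ s) : Set G) ⊓ centralizer {e (1, 1, 0, 0)}, fun k => and_congr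
      ⟨fun c x hx => (c x hx).symm, fun c x hx => (c x hx).symm⟩ mem_centralizer_singleton_iff⟩
  have tE : φ s ∈ E e (φ s) := B.nk_RE 0 ((h.qf hc).tR 0)
  have nK : ∀ v : V, v.2.2.1 = v.2.2.2 → e v ∈ normalizer (K : Set G) := fun v hv =>
    mem_normalizer_of_conj_mem fun k hk => by
      obtain ⟨k1, k2⟩ := (hK k).mp hk
      have k3 := h.N_le_nE ⟨le_normalizer (h.par.mem' v), mem_centralizer_singleton_iff.mpr (h.nk_tA hv)⟩
      refine (hK _).mpr ⟨fun x hx => ?_, ((Commute.mul_left (h.ecm _ _) k2).mul_left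
        (Commute.inv_left (h.ecm _ _))).eq⟩
      calc _ = e v * (k * ((e v)⁻¹ * x * e v)) * (e v)⁻¹ := by group
        _ = _ := by rw [k1 _ (inv_conj_mem_of_mem_normalizer k3 hx)]; group
  have fp : ∀ (v : V) (i : Fin 4), zs i = -(v + (1, 1, 0, 0)) → ∀ k ∈ K, k * e v = e v * k →
      k = 1 ∨ k = φ s := fun v i hi k hk c => h.nk_z hc ((hK k).mp hk).1 i (by
    rw [hi, h.par.neg, h.par.add]
    exact (Commute.inv_right (Commute.mul_right c ((hK k).mp hk).2)).eq)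
  have e1 : e (2, 1, 0, 0) * (e (0, 0, 2, 2))⁻¹ = e (2, 1, 1, 1) := by rw [← h.par.neg, ← h.par.add]; rfl
  have e2 : e (0, 0, 2, 2) * e (2, 1, 0, 0) = e (2, 1, 2, 2) := by rw [← h.par.add]; rfl
  have ha := (hK a).mpr ⟨aE, a2⟩
  have hb := (hK b).mpr ⟨bE, b2⟩
  have key := nk_klem (K := K) (s := φ s) (u := e (0, 0, 2, 2)) (v := e (2, 1, 0, 0))
    (fun k hk => mem_centralizer_singleton_iff.mpr (((hK k).mp hk).1 _ tE)) (h.nk_tA rfl) (h.nk_tA rfl) h.tt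
    (h.ecm _ _) (e1 ▸ h.par.ne_one (by decide)) (nK _ rfl) (nK _ rfl) ha hb
    (nk_ndvd (h.oe (v := (2, 1, 1, 1)) (by decide)) (nK _ rfl) (fp _ 1 (by decide)))
    (e1 ▸ fp _ 1 (by decide)) (h.e3 _) (h.e3 _) av.symm.eq bu.symm.eq aa a3 b3
  rw [e2] at key
  exact comm_of_eps h.tt (h.nk_tA rfl) (aE _ tE) bu.symm.eq a3
    (fp _ 0 (by decide) _ (mul_mem (mul_mem (mul_mem ha hb) (inv_mem ha)) (inv_mem hb)) key)

end Cfsg.Agent.O83
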