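import Cfsg.Agent.O83.Cw
import Cfsg.Agent.O83.CwA
import Cfsg.Agent.O83.No6A0
import Cfsg.Agent.O83.No6B
import Cfsg.Agent.O83.No6K
import Cfsg.Agent.O83.Idx2
import Cfsg.Agent.O83.Fin
import Cfsg.Agent.O83.Iso

/-! The end of the recognition of the extensions. -/

set_option autoImplicit false
set_option linter.unusedSectionVars false
set_option maxRecDepth 100000
set_option synthInstance.maxSize 4096

namespace Cfsg.Agent.O83

open Subgroup Cfsg.Agent.Char Cfsg.Agent.Local Cfsg.Agent.P43 Cfsg.Agent.P43.L Equiv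

attribute [local irreducible] Mat.memN r1 r2 r3 z s sg qq eL Mat.cmul Mat.cinv W W3 W4
attribute [local instance 10000] List.decidableBAll

universe u

variable {G : Type u} [Group G] [Finite G] {J : Subgroup G} {e : V → G} {φ : L →* G} {w d : G}

theorem B.idx2 (h : B J e φ) (hd : Dd e φ d) (hw : Ww e φ w) : ∃ N : Subgroup G, N.Normal ∧ N.index = 2 ∧ w ∉ N := by
  obtain ⟨ι, i1, i2, i3⟩ := h.iota' hw
  obtain ⟨n, hn, i4⟩ := h.exists_n i1 i2
  obtain ⟨⟨c1, c2⟩, c3, c4⟩ := h.ca2 hw i1 i2 i3 hn i4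
  have dt : d * φ s = φ s * d := hd.cm s oL.2.1
  have hc : Cm e (φ s) := cm_of (by
    simp only [List.forall_mem_cons (a := ms 0) (l := [δ, _]), List.forall_mem_cons (a := δ), List.forall_mem_singleton,
      ms0, ap_mm]
    exact ⟨h.sym c1, fun k hk => h.tr_cm δ_mem hd.act dt (h.sym c1 k hk),
      fun k hk => h.tr_cm δ_mem hd.act dt (h.tr_cm δ_mem hd.act dt (h.sym c1 k hk))⟩)
  have hL : HL J e := c4.resolve_right fun ⟨p, hp⟩ => by
    obtain ⟨X, _, _, π, S⟩ := exists_sec (e (1, 1, 0, 0))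
    obtain ⟨ψ, hψ⟩ := h.no6a_of (fun _ _ => h.kcomm hc) hd hw i1 i2 hn i4 hp S
    exact h.no6b S ψ hψ
  have hs : Cs J e (φ s) := cs_of h.par (by
    simp only [List.forall_mem_cons (a := ms 0) (l := [δ, _]), List.forall_mem_cons (a := δ), List.forall_mem_singleton,
      ms0, ap_mm]
    exact ⟨h.sym' (c3 hL), fun k hk => h.tr_cs hd.act dt (h.sym' (c3 hL) k hk),
      fun k hk => h.tr_cs hd.act dt (h.tr_cs hd.act dt (h.sym' (c3 hL) k hk))⟩)
  obtain ⟨X, _, _, π, S'⟩ := exists_sec w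
  have S := h.sx_w hw hL S'
  obtain ⟨n2, n3⟩ := h.n23 hw
  have hx : Commute n w := h.lift_cm i1 hn.act hw.act i4 i3 (by decide +kernel)
  obtain ⟨τ, R⟩ := S.rr hx hn.act hn.nn hn.ns (ι := ι) i3.symm i1 (by decide +kernel) (h.ii i1) i2.symm i4.symm
  refine h.idx2_of hw hc (fun g g1 g2 => S.rr_cs R hx hn.act hn.ns (h.mem_T0 hw.act (hw.cm s)) (fun k k1 k2 => ?_)
    (fun k k1 k2 k3 => ?_) g2 g1) (h.n1 hw S) n2 n3 (h.n4 hc hL hn c2)
  · obtain ⟨x, hx, k3⟩ := S.cm' k1 (S.cx s) k2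
    rcases h.zp_w hw hx with rfl | rfl
    exacts [mul_inv_eq_iff_eq_mul.mp (k3.trans (mul_one _)), (n2 (isConj_iff.mpr ⟨k, k3⟩)).elim]
  · rw [S.ee'] at k3
    exact hs _ (by decide) rfl k k2 (S.cm_of_pow (h.cow hw) k1 (S.ce _) (h.e3 _) k3)

theorem B.final' (h : B J e φ) (hd : Dd e φ d) :
    ∃ N : Subgroup G, N.Normal ∧ Nonempty (N ≃* Cfsg.Omega (ZMod 2) (Cfsg.quadFormPlus 4 (ZMod 2))) ∧
      centralizer (N : Set G) = ⊥ ∧ (N.index = 3 ∨ N.index = 6) := by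
  have hI : IsoH.{u} (Cfsg.Omega (ZMod 2) (Cfsg.quadFormPlus 4 (ZMod 2))) := fun X _ _ J e φ h3 h4 =>
    h3.toB.iso' h4 (h3.cm_cs h4).1 (h3.cm_cs h4).2
  by_cases h3 : ∀ g ∈ normalizer (J : Set G), ∃ m ∈ W3, Ac e g (ap m)
  · obtain ⟨N, hN, h4, -, h5⟩ := h.fin3 hd hI h3
    exact ⟨N, hN, h5, h.cent_eq_bot (s_mem_of_three h4), .inl h4⟩
  push Not at h3
  obtain ⟨g, hg, h3⟩ := h3
  obtain ⟨m, hm, h4⟩ := h.nor g hg
  obtain ⟨w, hw⟩ := h.exists_w hd hm (fun h5 => h3 m h5 h4) h4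
  obtain ⟨X, hX, i2, wX⟩ := h.idx2 hd hw
  have ht : φ s ∈ X := s_mem_of_two i2
  have dX : d ∈ X := by
    have h5 := mul_self_mem_of_index_two i2 d
    rwa [eq_inv_of_mul_eq_one_left ((pow_three' d).symm.trans hd.d3), inv_mem_iff] at h5
  have h' := h.restrict X (h.JN ht) (h.φN ht)
  have hd' := hd.restrict (h.eN ht) (h.φN ht) dX
  have h3' : ∀ g ∈ normalizer (J.subgroupOf X : Set X), ∃ m ∈ W3,
      Ac (fun v => (⟨e v, h.eN ht v⟩ : X)) g (ap m) := fun g hg => by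
    obtain ⟨m, hm, h5⟩ := h.nor g ((norm_sub (h.JN ht)).mp hg)
    exact ⟨m, h.W3_of_mem hd hw ht dX wX g.2 hm h5, fun v => Subtype.ext (h5 v)⟩
  obtain ⟨N, hN, i3, dN, ⟨ι⟩⟩ := h'.fin3 hd' hI h3'
  have hn : (N.map X.subtype).Normal := ⟨by
    rintro _ ⟨x, hx, rfl⟩ k
    have h5 := h'.idx3_le hd' h3' (N' := N.comap (MulAut.conjNormal k).toMonoidHom) i3
      ((index_comap_of_surjective _ (MulAut.conjNormal k).surjective).trans i3) dN hx
    exact ⟨_, h5, rfl⟩⟩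
  refine ⟨N.map X.subtype, hn, ⟨(N.equivMapOfInjective _ X.subtype_injective).symm.trans ι⟩,
    h.cent_eq_bot ⟨_, s_mem_of_three (φ := φ.codRestrict X (h.φN ht)) i3, rfl⟩, .inr ?_⟩
  rw [index_map_of_injective _ X.subtype_injective, range_subtype, i3, i2]

end Cfsg.Agent.O83
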