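import Cfsg.Agent.O83.WF
import Cfsg.Agent.O83.Tr

/-! The index three subgroup and the restriction of the frame to normal subgroups. -/

set_option autoImplicit false

namespace Cfsg.Agent.O83

open Subgroup Cfsg.Agent.Char Cfsg.Agent.Local Cfsg.Agent.P43 Cfsg.Agent.P43.L

attribute [local irreducible] Mat.memN r1 r2 r3 z s sg qq eL Mat.cmul Mat.cinv

variable {G : Type*} [Group G] [Finite G] {J : Subgroup G} {e : V → G} {φ : L →* G} {d w : G}

omit [Finite G] in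
theorem Ac.mm' {g h : G} {m n : M} (h1 : Ac e g (ap m)) (h2 : Ac e h (ap n)) :
    Ac e (g * h) (ap (mm m n)) := (h1.mul h2).congr fun v => (ap_mm m n v).symm

omit [Finite G] in
theorem Ac.div' {g h : G} {f : V → V} (h1 : Ac e g f) (h2 : Ac e h f) : Ac e (g⁻¹ * h) fun v => v :=
  fun v => by
    calc _ = g⁻¹ * (h * e v * h⁻¹) * g := by group
      _ = _ := by rw [h2, ← h1]; group

section Normal

variable {N : Subgroup G} [hN : N.Normal]

theorem B.realN (h : B J e φ) (ht : φ s ∈ N) {m : M} (hm : m ∈ W4) : ∃ g ∈ N, Ac e g (ap m) := by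
  have h0 : ∃ g ∈ N, Ac e g (ap wfI) := ⟨1, one_mem _, fun v => by simp [wf_I]⟩
  have h1 : ∀ r ∈ wfRefl, ∃ g ∈ N, Ac e g (ap r) := fun r hr => by
    obtain ⟨k, hk, e1⟩ := wf_refl r hr
    obtain ⟨g, hg⟩ := h.real k hk
    refine ⟨g * φ s * g⁻¹, hN.conj_mem _ ht g, fun v => ?_⟩
    obtain ⟨u, hu⟩ := (h.par.mem _).mp (inv_conj_mem_of_mem_normalizer (hg.norm h.par) (h.par.mem' v))
    have h2 : v = ap k u := h.par.inj (by rw [← hg, hu]; group)
    calc _ = g * (φ s * (g⁻¹ * e v * g) * (φ s)⁻¹) * g⁻¹ := by group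
      _ = _ := by rw [← hu, h.ac_s, hg, h2, ← ap_mm, e1, ap_mm, wf_S]
  rw [wf_words] at hm
  obtain ⟨l, hl, rfl⟩ := List.mem_map.mp hm
  clear hl hm
  induction l with
  | nil => exact h0
  | cons i l ih =>
    obtain ⟨g, hg, h2⟩ := ih
    obtain ⟨k, hk, h3⟩ : ∃ g ∈ N, Ac e g (ap (wfRefl.getD i wfI)) := by
      rw [List.getD_eq_getElem?_getD]
      cases h4 : wfRefl[i]? with
      | none => exact h0
      | some r => exact h1 r (List.mem_of_getElem? h4)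
    exact ⟨k * g, mul_mem hk hg, h3.mm' h2⟩

theorem B.eN (h : B J e φ) (ht : φ s ∈ N) (v : V) : e v ∈ N := by
  obtain ⟨g, hg, h1⟩ := h.realN ht wf_N.1
  have h2 := mul_mem hg (hN.conj_mem _ (inv_mem hg) (e v))
  rwa [show g * (e v * g⁻¹ * (e v)⁻¹) = g * e v * g⁻¹ * (e v)⁻¹ by group, h1, wf_N.2, ← h.par.neg,
    ← h.par.add, (by decide +kernel : ∀ v : V, -v + -v = v)] at h2

theorem B.JN (h : B J e φ) (ht : φ s ∈ N) : J ≤ N := fun x hx => by
  obtain ⟨v, rfl⟩ := (h.par.mem x).mp hx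
  exact h.eN ht v

theorem B.φN (h : B J e φ) (ht : φ s ∈ N) (l : L) : φ l ∈ N := by
  have h1 : φ r1 ∈ N := by rw [← eL_val.1, h.ee]; exact h.eN ht _
  have h3 : φ r3 ∈ N := by rw [← eL_val.2.1, h.ee]; exact h.eN ht _
  have h2 : φ r2 ∈ N := by
    rw [← map_cj φ (mul_inv_eq_iff_eq_mul.mpr (rel.2.1.trans (mul_assoc _ _ _)))]
    exact hN.conj_mem _ h1 _
  have h4 : (QuotientGroup.mk' N).comp φ = 1 := homL_ext ((QuotientGroup.eq_one_iff _).mpr h1)
    ((QuotientGroup.eq_one_iff _).mpr h2) ((QuotientGroup.eq_one_iff _).mpr h3)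
  exact (QuotientGroup.eq_one_iff _).mp (DFunLike.congr_fun h4 l)

theorem B.mem_of_W4 (h : B J e φ) (ht : φ s ∈ N) {g : G} {m : M} (hm : m ∈ W4) (hg : Ac e g (ap m)) :
    g ∈ N := by
  obtain ⟨n, hn, h1⟩ := h.realN ht hm
  exact (mul_mem_cancel_left (inv_mem hn)).mp (h.JN ht (h.cJ _ (h1.div' hg)))

theorem B.mem_of_W3 (h : B J e φ) (hd : Dd e φ d) (ht : φ s ∈ N) (hdN : d ∈ N) {g : G} {m : M}
    (hm : m ∈ W3) (hg : Ac e g (ap m)) : g ∈ N := by
  rcases wf_W3 hm with h1 | h1 | h1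
  · exact h.mem_of_W4 ht h1 hg
  · exact (mul_mem_cancel_left hdN).mp (h.mem_of_W4 ht h1 (hd.act.mm' hg))
  · exact (mul_mem_cancel_left hdN).mp ((mul_mem_cancel_left hdN).mp
      (h.mem_of_W4 ht h1 (hd.act.mm' (hd.act.mm' hg))))

theorem B.W4_of_mem (h : B J e φ) (hd : Dd e φ d) (ht : φ s ∈ N) (hdN : d ∉ N) {g : G} (hgN : g ∈ N)
    {m : M} (hm : m ∈ W3) (hg : Ac e g (ap m)) : m ∈ W4 := by
  rcases wf_W3 hm with h1 | h1 | h1
  · exact h1
  · exact absurd ((mul_mem_cancel_right hgN).mp (h.mem_of_W4 ht h1 (hd.act.mm' hg))) hdN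
  · have h2 := h.mem_of_W4 ht h1 (hd.act.mm' (hd.act.mm' hg))
    rw [← mul_assoc, mul_mem_cancel_right hgN] at h2
    refine absurd (inv_mem_iff.mp ?_) hdN
    rwa [← eq_inv_of_mul_eq_one_left ((pow_three' d).symm.trans hd.d3)]

theorem B.W3_of_mem (h : B J e φ) (hd : Dd e φ d) (hw : Ww e φ w) (ht : φ s ∈ N) (hdN : d ∈ N)
    (hwN : w ∉ N) {g : G} (hgN : g ∈ N) {m : M} (hm : m ∈ W) (hg : Ac e g (ap m)) : m ∈ W3 :=
  (wf_W hm).resolve_right fun h1 => hwN ((mul_mem_cancel_right hgN).mp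
    (h.mem_of_W3 hd ht hdN h1 (Ac.mm' (hw.act.congr fun v => (wf_R v).symm) hg)))

omit hN in
theorem norm_sub (hJ : J ≤ N) {g : N} :
    g ∈ normalizer (J.subgroupOf N : Set N) ↔ (g : G) ∈ normalizer (J : Set G) :=
  ⟨fun h => mem_normalizer_of_conj_mem fun j hj =>
      (conj_mem_of_mem_normalizer h (show (⟨j, hJ hj⟩ : N) ∈ J.subgroupOf N from hj) :),
    fun h => mem_normalizer_of_conj_mem fun j hj =>
      (conj_mem_of_mem_normalizer h (show (j : G) ∈ J from hj) :)⟩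

theorem B.restrict (h : B J e φ) (N : Subgroup G) [N.Normal] (hJ : J ≤ N) (hφ : ∀ l, φ l ∈ N) :
    B (J.subgroupOf N) (fun v => (⟨e v, hJ (h.par.mem' v)⟩ : N)) (φ.codRestrict N hφ) where
  par := ⟨fun u v => Subtype.ext (h.par.add u v), fun _ _ e => h.par.inj (congrArg Subtype.val e),
    fun g => (h.par.mem g).trans (exists_congr fun _ => ⟨fun e => Subtype.ext e, congrArg Subtype.val⟩)⟩
  inj := fun _ _ e => h.inj (congrArg Subtype.val e)
  ee := fun v => Subtype.ext (h.ee v)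
  ca := fun l => Subtype.ext (h.ca l)
  cent := fun g hg => by
    obtain ⟨l, k, h1, h2, h3⟩ := h.cent g (congrArg Subtype.val hg)
    exact ⟨l, ⟨k, (mul_mem_cancel_left (hφ l)).mp (h1 ▸ g.2)⟩, Subtype.ext h1, (norm_sub hJ).mpr h2,
      fun o ho => Subtype.ext (h3 o ho)⟩
  cJ := fun g hg => h.cJ g fun v => congrArg Subtype.val (hg v)
  wj := by
    refine ⟨h.wj.pg.comap_subtype, fun a ha b hb => Subtype.ext (h.wj.comm _ ha _ hb),
      fun g _ hg => (norm_sub hJ).mpr (h.wj.wn g (mem_top _) fun j hj =>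
        (norm_sub hJ).mp (hg ⟨j, hJ hj⟩ hj)), fun K h1 h2 => ?_⟩
    refine map_eq_bot_iff_of_injective (hf := N.subtype_injective) K |>.mp
      (h.wj.sig _ (by rwa [card_subtype]) fun j hj => mem_normalizer_of_conj_mem ?_)
    rintro _ ⟨k, hk, rfl⟩
    exact ⟨_, conj_mem_of_mem_normalizer (h2 (show (⟨j, hJ hj⟩ : N) ∈ J.subgroupOf N from hj)) hk, rfl⟩
  nor := fun g hg => (h.nor g ((norm_sub hJ).mp hg)).imp fun _ h1 =>
    ⟨h1.1, fun v => Subtype.ext (h1.2 v)⟩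
  real := fun m hm => by
    obtain ⟨g, hg, h1⟩ := h.realN (hφ s) hm
    exact ⟨⟨g, hg⟩, fun v => Subtype.ext (h1 v)⟩

theorem B3.restrict (h : B3 J e φ) (N : Subgroup G) [N.Normal] (hJ : J ≤ N) (hφ : ∀ l, φ l ∈ N) :
    B3 (J.subgroupOf N) (fun v => (⟨e v, hJ (h.par.mem' v)⟩ : N)) (φ.codRestrict N hφ) where
  toB := h.toB.restrict N hJ hφ
  tw1 := by
    obtain ⟨ψ, h1, h2⟩ := h.tw1
    exact ⟨_, h1.restrict N hJ (h1.φN (h2 ▸ hφ s)), Subtype.ext h2⟩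
  tw2 := by
    obtain ⟨ψ, h1, h2⟩ := h.tw2
    exact ⟨_, h1.restrict N hJ (h1.φN (h2 ▸ hφ s)), Subtype.ext h2⟩

omit [Finite G] hN in
theorem Dd.restrict (hd : Dd e φ d) (he : ∀ v, e v ∈ N) (hφ : ∀ l, φ l ∈ N) (hdN : d ∈ N) :
    Dd (fun v => (⟨e v, he v⟩ : N)) (φ.codRestrict N hφ) ⟨d, hdN⟩ :=
  ⟨Subtype.ext hd.d3, fun v => Subtype.ext (hd.act v), fun o ho => Subtype.ext (hd.cm o ho)⟩

theorem B.cent_eq_bot (h : B J e φ) (ht : φ s ∈ N) : centralizer (N : Set G) = ⊥ := by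
  refine eq_bot_iff.mpr fun c hc => mem_bot.mpr ?_
  obtain ⟨v, rfl⟩ := (h.par.mem c).mp (h.cJ c fun v =>
    mul_inv_eq_iff_eq_mul.mpr (hc _ (h.eN ht v)).symm)
  obtain ⟨g, hg, h1⟩ := h.realN ht wf_N.1
  have h2 := h1.fix h.par (hc g hg)
  rw [wf_N.2] at h2
  rw [(by decide +kernel : ∀ v : V, -v = v → v = 0) v h2, h.par.zero]

end Normal

theorem B.exists_sylow (h : B J e φ) :
    ∃ T : Subgroup G, T ≤ normalizer (J : Set G) ∧ ¬ 3 ∣ T.index := by
  obtain ⟨T, hT, h1⟩ := exists_isSylowIn_ge h.wj.pg (le_top (a := J))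
  exact ⟨T, h.wj.wn.le_norm hT.isPGroup h1 le_top, relIndex_top_right T ▸ hT.not_dvd⟩

/-- The largest normal `3`-subgroup of the model. -/
def Q3L : Subgroup L where
  carrier := {l | inQ l}
  one_mem' := wf_Q.2.1
  mul_mem' := fun ha hb => (wf_Q.1 _ ha).1 _ hb
  inv_mem' := fun ha => (wf_Q.1 _ ha).2.1

/-- If `J` is normalised by a conjugate of `O₃(φ L)`, it contains its centre. -/
theorem B.z_mem (h : B J e φ) (h3 : ∀ g ∈ normalizer (J : Set G), ∃ m ∈ W3, Ac e g (ap m)) {g : G}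
    (hg : ∀ o, inQ o → g⁻¹ * φ o * g ∈ normalizer (J : Set G)) : g⁻¹ * φ z * g ∈ J := by
  have key : ∀ o, inQ o → ∃ m ∈ W3, m ∈ wfT ∧ Ac e (g⁻¹ * φ o * g) (ap m) := fun o ho => by
    obtain ⟨m, hm, h1⟩ := h3 _ (hg o ho)
    have h2 : g⁻¹ * φ o * g * (g⁻¹ * φ o * g * (g⁻¹ * φ o * g)) = 1 := by
      calc _ = g⁻¹ * φ (o ^ 3) * g := by rw [pow_three, map_mul, map_mul]; group
        _ = 1 := by rw [(wf_Q.1 o ho).2.2.1, map_one]; group
    have h4 : ∀ v, ap m (ap m (ap m v)) = v := (h1.mul (h1.mul h1)).uniq h.par fun v => by simp [h2]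
    exact ⟨m, hm, wf_cube m (W3_le hm) (h4 _) (h4 _) (h4 _) (h4 _), h1⟩
  have main : ∀ a b c : L, inQ a → inQ b → inQ c → a * b = c * b * a → (∀ l, l * c = c * l) →
      g⁻¹ * φ c * g ∈ J := fun a b c ha hb hc e1 e2 => by
    obtain ⟨m, m3, mT, hm⟩ := key a ha
    obtain ⟨n, n3, nT, hn⟩ := key b hb
    obtain ⟨k, k3, kT, hk⟩ := key c hc
    have cj : ∀ x y : L, g⁻¹ * φ x * g * (g⁻¹ * φ y * g) = g⁻¹ * φ (x * y) * g := fun x y => by
      rw [map_mul]; group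
    have h1 : ∀ v, ap m (ap n v) = ap k (ap n (ap m v)) := (hm.mul hn).uniq h.par (by
      rw [cj, e1, mul_assoc c, ← cj, ← cj]; exact hk.mul (hn.mul hm))
    have h2 : ∀ {x p}, Ac e (g⁻¹ * φ x * g) (ap p) → ∀ v, ap p (ap k v) = ap k (ap p v) :=
      fun {x p} hp => (hp.mul hk).uniq h.par (by rw [cj, e2, ← cj]; exact hk.mul hp)
    have h4 : fr k.1 = 0 := by
      have h5 := h1 (1, 0, 0, 0)
      have h6 := congrArg fr h5
      rw [wf_e1, wf_e1, wf_fr m3 (wf_sh1 (W3_le n3)), wf_fr k3 (wf_sh (W3_le n3) (wf_sh1 (W3_le m3))),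
        wf_fr n3 (wf_sh1 (W3_le m3))] at h6
      linear_combination -h6
    rcases wf_comm k kT h4 with rfl | h5
    · exact h.cJ _ (hk.congr wf_I)
    · exact absurd (h5 m (List.mem_filter.mpr ⟨mT, decide_eq_true (h2 hm _)⟩) n
        (List.mem_filter.mpr ⟨nT, decide_eq_true (h2 hn _)⟩)) (by simp [h1])
  have hc := Q3L.mul_mem (Q3L.mul_mem (Q3L.mul_mem wf_Q.2.2.1 wf_Q.2.2.2.1) (Q3L.inv_mem wf_Q.2.2.1))
    (Q3L.inv_mem wf_Q.2.2.2.1)
  have h1 := main _ _ _ wf_Q.2.2.1 wf_Q.2.2.2.1 hc (by group)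
  rcases wf_Q.2.2.2.2.1 with e1 | e1 <;> rw [e1] at h1
  · exact h1 z_comm
  · simpa [mul_assoc] using inv_mem (h1 fun l => (Commute.inv_right (z_comm l)).eq)

theorem B.idx3 (h : B J e φ) (hd : Dd e φ d)
    (h3 : ∀ g ∈ normalizer (J : Set G), ∃ m ∈ W3, Ac e g (ap m)) :
    ∃ N : Subgroup G, N.Normal ∧ N.index = 3 ∧ d ∉ N := by
  choose μ hμ hμ' using fun g : normalizer (J : Set G) => h3 g g.2
  have hu : ∀ (g : normalizer (J : Set G)) m, Ac e g (ap m) → μ g = m := fun g m hm =>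
    ap_ext ((hμ' g).uniq h.par hm)
  let ψ : normalizer (J : Set G) →* Multiplicative (ZMod 3) :=
    MonoidHom.mk' (fun g => Multiplicative.ofAdd (fr (μ g).1)) fun a b => by
      rw [hu (a * b) _ ((hμ' a).mm' (hμ' b)), (wf_mm3 (hμ a) (hμ b)).2, ofAdd_add]
  have dN := hd.act.norm h.par
  have hR : IsPGroup 3 (Q3L.map φ ⊔ zpowers d : Subgroup G) := by
    refine IsPGroup.to_sup_of_normal_left' (IsPGroup.map (fun l => ⟨1, Subtype.ext ?_⟩) φ)
      (IsPGroup.of_card_dvd_pow (n := 1) ?_) (zpowers_le.mpr (mem_normalizer_of_conj_mem ?_))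
    · rw [pow_one, coe_pow, (wf_Q.1 _ l.2).2.2.1, coe_one]
    · rw [Nat.card_zpowers]; exact orderOf_dvd_of_pow_eq_one hd.d3
    · rintro _ ⟨o, ho, rfl⟩
      rw [hd.cm o (wf_Q.1 o ho).2.2.2, mul_inv_cancel_right]
      exact ⟨o, ho, rfl⟩
  have hc : Q3L.map φ ⊔ zpowers d ≤ centralizer {d} := sup_le (by
    rintro _ ⟨o, ho, rfl⟩
    exact mem_centralizer_singleton_iff.mpr (hd.cm o (wf_Q.1 o ho).2.2.2).symm)
    (zpowers_le.mpr (mem_centralizer_singleton_iff.mpr rfl))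
  have h1 := transfer_const ψ (p := 3) (by decide) hd.d3 hR (mem_sup_right (mem_zpowers d))
    (fun r hr => mem_centralizer_singleton_iff.mp (hc hr)) (a := ψ ⟨d, dN⟩) fun g hg h2 => by
      have h4 := h.z_mem h3 fun o ho => h2 _ (mem_sup_left ⟨o, ho, rfl⟩)
      obtain ⟨n, -, hn, h5⟩ := h.wj.wn.fusion h.wj.pg h.wj.comm le_top (h.ez ▸ h.par.mem' _)
        (mem_top g⁻¹) (by simpa using h4)
      obtain ⟨l, k, h6, h7, -⟩ := h.cent (g * n) (by
        calc _ = g * (n * φ z * n⁻¹) * n := by group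
          _ = _ := by rw [h5]; group)
      obtain ⟨v, -, hv⟩ := wf_Q.2.2.2.2.2 l
      have h8 : φ (eL v) ∈ normalizer (J : Set G) := h.ee v ▸ le_normalizer (h.par.mem' _)
      have h9 : n * k⁻¹ * φ (eL v) ∈ normalizer (J : Set G) := mul_mem (mul_mem hn (inv_mem h7)) h8
      have h10 : g⁻¹ * d * g = n * k⁻¹ * φ (eL v) * d * (n * k⁻¹ * φ (eL v))⁻¹ := by
        have h11 : g = φ (l * eL v) * (n * k⁻¹ * φ (eL v))⁻¹ := by
          rw [map_mul, eq_mul_inv_of_mul_eq h6]; group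
        generalize n * k⁻¹ * φ (eL v) = c at h11
        calc _ = c * ((φ (l * eL v))⁻¹ * (d * φ (l * eL v))) * c⁻¹ := by rw [h11]; group
          _ = _ := by rw [hd.cm _ hv]; group
      rw [show (⟨_, hg⟩ : normalizer (J : Set G)) = ⟨_, h9⟩ * ⟨d, dN⟩ * ⟨_, h9⟩⁻¹ from Subtype.ext h10,
        map_mul, map_mul, map_inv, mul_inv_cancel_comm]
  have h2 : MonoidHom.transfer ψ d ≠ 1 := by
    obtain ⟨T, hT, h4⟩ := h.exists_sylow
    rw [h1, show ψ ⟨d, dN⟩ = Multiplicative.ofAdd 1 by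
      change Multiplicative.ofAdd (fr (μ _).1) = _
      rw [hu _ _ hd.act, wf_δ.2], Ne, ← orderOf_dvd_iff_pow_eq_one, orderOf_ofAdd_eq_addOrderOf,
      ZMod.addOrderOf_one]
    exact fun h5 => h4 (h5.trans (index_dvd_of_le hT))
  exact ⟨_, inferInstance, index_ker_prime (MonoidHom.transfer ψ) Nat.prime_three (by simp) h2, h2⟩

omit [Finite G] in
theorem s_mem_of_three {N : Subgroup G} [N.Normal] (h : N.index = 3) : φ s ∈ N := by
  have h1 := pow_index_mem N (φ s)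
  rwa [h, pow_three, ss, mul_one] at h1

omit [Finite G] in
theorem s_mem_of_two {N : Subgroup G} (h : N.index = 2) : φ s ∈ N := by
  rw [← s_facts.2.2.1, map_mul]
  exact mul_self_mem_of_index_two h _

/-- The normal subgroup of index three is unique. -/
theorem B.idx3_le (h : B J e φ) (hd : Dd e φ d)
    (h3 : ∀ g ∈ normalizer (J : Set G), ∃ m ∈ W3, Ac e g (ap m)) {N N' : Subgroup G} [N.Normal]
    [N'.Normal] (h1 : N.index = 3) (h2 : N'.index = 3) (hdN : d ∉ N) : N ≤ N' := by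
  obtain ⟨T, hT, h4⟩ := h.exists_sylow
  have h5 : T ⊔ N ⊓ N' = ⊤ := by
    rw [← index_eq_one]
    have h6 : (N ⊓ N').index ∣ 3 ^ 2 := by
      rw [← relIndex_mul_index (inf_le_right : N ⊓ N' ≤ N'), inf_relIndex_right, h2, sq]
      exact mul_dvd_mul_right (h1 ▸ relIndex_dvd_index_of_normal N N') 3
    obtain ⟨k, -, hk⟩ := (Nat.dvd_prime_pow Nat.prime_three).mp ((index_dvd_of_le le_sup_right).trans h6)
    cases k with
    | zero => exact hk
    | succ k => exact absurd ((hk ▸ dvd_pow_self 3 k.succ_ne_zero).trans (index_dvd_of_le le_sup_left)) h4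
  intro x hx
  obtain ⟨a, ha, b, hb, rfl⟩ := (mem_sup_of_normal_right (s := T) (t := N ⊓ N')).mp (h5 ▸ mem_top x)
  obtain ⟨m, hm, h6⟩ := h3 a (hT ha)
  exact mul_mem (h.mem_of_W4 (s_mem_of_three h2) (h.W4_of_mem hd (s_mem_of_three h1) hdN
    ((mul_mem_cancel_right (mem_inf.mp hb).1).mp hx) hm h6) h6) hb.2

end Cfsg.Agent.O83
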