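import Cfsg.Agent.P43.Fin

/-! The centraliser of the involution `s` in the models. -/

set_option autoImplicit false
set_option maxRecDepth 100000
set_option synthInstance.maxSize 4096

namespace Cfsg.Agent.O83

open Subgroup Cfsg.Agent.Mat Cfsg.Agent.Char Cfsg.Agent.Local Cfsg.Agent.P43 Cfsg.Agent.P43.L Equiv

attribute [local irreducible] memN r1 r2 r3 z s sg qq eL cmul cinv iL r4 nP el msP msL msW msS iP iW
  tW rho lt
attribute [local instance 10000] List.decidableBAll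

/-- A lower bound for the order of a subgroup given by words. -/
def lowW (ms : List (CP 28)) (gw Ws : List (List ℕ)) (L : List (ℕ × List ℕ)) (N : ℕ) : Bool :=
  lowChk 28 (L.map fun p => (p.1, p.2.map fun i => (Ws.map fun w => (ev (gw.map (ev ms)) w).1).getD i 0))
    (fun c => memN c (Ws.map fun w => (ev (gw.map (ev ms)) w).1)) && (L.map fun p => p.2.length).prod == N

/-- Generators of the centraliser. -/
def gwP : List (List ℕ) := [[1, 2, 5, 2, 1, 2, 5, 2], [0], [1, 2], [0, 3, 0, 5, 2, 6, 5, 2, 6, 5, 2]]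

theorem lowP : lowW msP gwP [[], [0], [1], [2], [0, 0], [0, 1], [0, 2], [1, 1], [1, 2], [2, 1], [2, 2], [3, 2], [0, 0, 1], [0, 1, 1], [0, 2, 1], [0, 2, 2], [0, 3, 2], [1, 2, 2], [1, 3, 2], [2, 1, 2], [3, 2, 1], [0, 0, 1, 1], [0, 0, 2, 1], [0, 1, 2, 2], [3], [2, 3, 2], [2, 3, 2, 3], [0, 2, 1, 3, 2], [0, 1, 1, 2, 1, 1], [1, 2, 3, 2, 1, 3], [0, 0, 1, 3, 2, 1, 1], [0, 2, 1, 3, 2, 3], [1, 1, 2, 3, 2, 1, 1, 3]]
    [(0, [0, 1, 2, 3, 4, 5, 6, 7, 8, 9, 10, 11, 12, 13, 14, 15, 16, 17, 18, 19, 20, 21, 22, 23]), (1, [0, 24, 25, 26, 27, 28, 29, 30]), (2, [0, 31, 32])] 576 = true := by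
  decide +kernel

/-- Generators of the centraliser. -/
def gwW : List (List ℕ) := [[1, 2, 5, 2, 1, 2, 5, 2], [0], [1, 2], [0, 3, 0, 5, 2, 6, 5, 2, 6, 5, 2], [8]]

theorem lowW' : lowW msW gwW [[], [0], [1], [2], [4], [0, 0], [0, 2], [0, 4], [1, 1], [1, 2], [1, 4], [2, 1], [2, 2], [2, 4], [3, 2], [0, 1, 4], [0, 2, 2], [0, 2, 4], [0, 3, 2], [1, 2, 2], [1, 2, 4], [1, 3, 2], [2, 2, 4], [3, 2, 1], [3], [2, 3, 2], [2, 3, 2, 3], [2, 4, 2, 3], [0, 2, 1, 3, 2], [3, 2, 4, 2, 3], [1, 2, 3, 2, 1, 3], [0, 2, 1, 3, 2, 3], [1, 4, 0, 2, 3, 2, 1], [3, 4, 0, 1]]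
    [(0, [0, 1, 2, 3, 4, 5, 6, 7, 8, 9, 10, 11, 12, 13, 14, 15, 16, 17, 18, 19, 20, 21, 22, 23]), (1, [0, 24, 25, 26, 27, 28, 29, 30]), (2, [0, 31, 32]), (5, [0, 33])] 1152 = true := by
  decide +kernel

/-- Generators of the centraliser. -/
def gwS : List (List ℕ) := [[1, 2, 5, 2, 1, 2, 5, 2], [0], [1, 2], [0, 3, 0, 5, 2, 6, 5, 2, 6, 5, 2], [8], [9]]

theorem lowS : lowW msS gwS [[], [0], [1], [2], [4], [5], [0, 0], [0, 2], [0, 4], [0, 5], [1, 1], [1, 2], [1, 4], [1, 5], [2, 1], [2, 4], [2, 5], [4, 5], [0, 0, 5], [0, 1, 4], [0, 2, 4], [0, 2, 5], [0, 4, 5], [1, 2, 5], [3], [2, 2, 5], [2, 3, 2], [2, 2, 3, 5], [2, 3, 2, 3], [2, 4, 2, 3], [0, 1, 2, 4, 5], [0, 2, 1, 2, 5], [0, 2, 1, 3, 2], [1, 4, 2, 1, 5], [3, 2, 4, 2, 3], [0, 0, 1, 2, 1, 5], [0, 1, 3, 2, 4, 5], [1, 2, 3, 2, 1, 3], [1, 3, 2, 1, 2, 5], [0, 5, 0, 0], [3, 4, 0, 1], [3, 4, 0, 5, 1], [0, 2, 3, 2, 4, 1], [0, 2, 3, 2, 4, 5,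 1], [1, 4, 0, 2, 3, 2, 1]]
    [(0, [0, 1, 2, 3, 4, 5, 6, 7, 8, 9, 10, 11, 12, 13, 14, 15, 16, 17, 18, 19, 20, 21, 22, 23]), (1, [0, 24, 25, 26, 27, 28, 29, 30, 31, 32, 33, 34, 35, 36, 37, 38]), (5, [0, 39, 40, 41, 42, 43]), (2, [0, 44])] 4608 = true := by
  decide +kernel

theorem cent_le {ms : List (CP 28)} {x : cl ms} {cs : List ℕ} {W gw Ws : List (List ℕ)} {L : List (ℕ × List ℕ)}
    {N : ℕ} (h1 : clsChk ms x.1 cs W = true) (hd : all2 Nat.blt cs.dropLast cs.tail = true)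
    (h2 : lowW ms gw Ws L N = true) (h4 : ∀ u ∈ gw, el ms u * x = x * el ms u)
    (h5 : Nat.card (cl ms) ≤ N * cs.length) {H : Subgroup (cl ms)} (hH : ∀ u ∈ gw, el ms u ∈ H) :
    centralizer {x} ≤ H := by
  simp only [lowW, Bool.and_eq_true, beq_iff_eq] at h2
  simp only [clsChk, Bool.and_eq_true, decide_eq_true_eq] at h1
  have h3 := le_card_of_words rfl h2.1
  rw [List.map_map, show ((fun p : ℕ × List ℕ => p.2.length) ∘ _) = fun p : ℕ × List ℕ => p.2.length from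
    funext fun p => by simp, h2.2] at h3
  have h6 : cl (gw.map (ev ms)) ≤ (H ⊓ centralizer {x}).map (cl ms).subtype := (closure_le _).mpr fun a ha => by
    obtain ⟨u, hu, rfl⟩ := List.mem_map.mp ha
    exact ⟨el ms u, ⟨hH u hu, mem_centralizer_singleton_iff.mpr (h4 u hu)⟩, by unfold el; rfl⟩
  have h7 := card_le_of_le h6
  rw [card_map_of_injective (cl ms).subtype_injective] at h7
  have h8 : (W.map fun w => el ms w * x * (el ms w)⁻¹).map (·.1.1) = cs := by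
    rw [h1.1.1, List.map_map]; unfold el; rfl
  refine (count_cls (C := H ⊓ centralizer {x}) inf_le_right (l := W.map fun w => el ms w * x * (el ms w)⁻¹)
    (List.Nodup.of_map _ (h8 ▸ nodup_of_lt hd)) (fun y hy => ?_) ?_).2.1.trans inf_le_left
  · obtain ⟨w, -, rfl⟩ := List.mem_map.mp hy
    exact isConj_cj _ _
  · rw [← h8, List.length_map] at h5
    exact h5.trans (Nat.mul_le_mul_right _ (h3.trans h7))

theorem wP : el msP [0, 3, 0, 3] = iL s ∧ el msP [1, 2, 5, 2, 1, 2, 5, 2] = iL z ∧ el msP [0] = iL r1 ∧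
    el msP [1, 2] = iL qq ∧ el msP [0, 3, 0, 5, 2, 6, 5, 2, 6, 5, 2] = nP ∧
    el msP [2, 5, 6, 3, 5, 0] * nP * (el msP [2, 5, 6, 3, 5, 0])⁻¹ = iL qq * (nP * iL qq * nP⁻¹) := by
  decide +kernel

theorem wW : el msW [0, 3, 0, 3] = iP (iL s) ∧ el msW [1, 2, 5, 2, 1, 2, 5, 2] = iP (iL z) ∧
    el msW [0] = iP (iL r1) ∧ el msW [1, 2] = iP (iL qq) ∧ el msW [0, 3, 0, 5, 2, 6, 5, 2, 6, 5, 2] = iP nP ∧
    el msW [8] = tW := by
  decide +kernel

theorem wS : el msS [0, 3, 0, 3] = iW (iP (iL s)) ∧ el msS [1, 2, 5, 2, 1, 2, 5, 2] = iW (iP (iL z)) ∧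
    el msS [0] = iW (iP (iL r1)) ∧ el msS [1, 2] = iW (iP (iL qq)) ∧
    el msS [0, 3, 0, 5, 2, 6, 5, 2, 6, 5, 2] = iW (iP nP) ∧ el msS [8] = iW tW ∧ el msS [9] = rho := by
  decide +kernel

theorem csP {H : Subgroup P} (h1 : iL z ∈ H) (h2 : iL r1 ∈ H) (h3 : iL qq ∈ H) (h4 : nP ∈ H) :
    centralizer {iL s} ≤ H := by
  obtain ⟨w1, w2, w3, w4, w5, -⟩ := wP
  rw [← w1]
  refine cent_le (x := el msP [0, 3, 0, 3]) (by unfold el; exact clsP_chk) (by decide +kernel) lowP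
    (by decide +kernel) (by rw [P_cls.1]; decide +kernel) ?_
  simp only [gwP, List.forall_mem_cons, w2, w3, w4, w5]
  exact ⟨h1, h2, h3, h4, by simp⟩

theorem csW {H : Subgroup W6} (h1 : iP (iL z) ∈ H) (h2 : iP (iL r1) ∈ H) (h3 : iP (iL qq) ∈ H) (h4 : iP nP ∈ H)
    (h5 : tW ∈ H) : centralizer {iP (iL s)} ≤ H := by
  obtain ⟨w1, w2, w3, w4, w5, w6⟩ := wW
  rw [← w1]
  refine cent_le (x := el msW [0, 3, 0, 3]) (by unfold el; exact clsW_chk) (by decide +kernel) lowW'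
    (by decide +kernel) (by rw [card_W]; decide +kernel) ?_
  simp only [gwW, List.forall_mem_cons, w2, w3, w4, w5, w6]
  exact ⟨h1, h2, h3, h4, h5, by simp⟩

theorem csS {H : Subgroup S7} (h1 : iW (iP (iL z)) ∈ H) (h2 : iW (iP (iL r1)) ∈ H) (h3 : iW (iP (iL qq)) ∈ H)
    (h4 : iW (iP nP) ∈ H) (h5 : iW tW ∈ H) (h6 : rho ∈ H) : centralizer {iW (iP (iL s))} ≤ H := by
  obtain ⟨w1, w2, w3, w4, w5, w6, w7⟩ := wS
  rw [← w1]
  refine cent_le (x := el msS [0, 3, 0, 3]) (by unfold el; exact clsS_chk) (by decide +kernel) lowS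
    (by decide +kernel) (by rw [card_S.1]; decide +kernel) ?_
  simp only [gwS, List.forall_mem_cons, w2, w3, w4, w5, w6, w7]
  exact ⟨h1, h2, h3, h4, h5, h6, by simp⟩

variable {G : Type*} [Group G] [Finite G] {φ : L →* G} {n t : G}

omit [Finite G] in
theorem cent_of_surj {M : Type*} [Group M] {f : M →* G} (h1 : Function.Injective f) (h2 : Function.Surjective f)
    {x : M} {H : Subgroup G} (h : centralizer {x} ≤ H.comap f) : centralizer {f x} ≤ H := fun g hg => by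
  obtain ⟨y, rfl⟩ := h2 g
  exact h (mem_centralizer_singleton_iff.mpr (h1 (by
    simpa only [map_mul] using mem_centralizer_singleton_iff.mp hg)))

theorem HN_hom (h : HN φ n) (hc : φ qq * (n * φ qq * n⁻¹) = n * φ qq * n⁻¹ * φ qq) : ∃ f : P →* G,
    Function.Injective f ∧ (∀ l, f (iL l) = φ l) ∧ f r4 = n * φ r2 * n⁻¹ ∧ f nP = n := by
  obtain ⟨f, a1, a2, a3, -⟩ := h.exists_hom hc
  obtain ⟨-, -, -, -, -, -, -, -, -, -, w1, w2, w3⟩ := S_words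
  refine ⟨f, a1, a2, a3, ?_⟩
  obtain ⟨w, e⟩ := h.coset h.act (c := f nP) (fun v => by
    rw [ee, ee, ← a2, ← a2, ← P_facts.2.2.2.2.2.1, map_mul, map_mul, map_inv]) (by decide)
  have e1 : f (iL (eL w) * nP) = n := by rw [map_mul, a2, e, ee]
  rw [← e1, w3 w (a1 (by rw [map_mul, e1, h.nn, map_one]))
    (a1 (by rw [map_mul, map_mul f _ (iL r2), map_inv, e1, a2, a3])), eL_zero]
  simp

theorem HN_conj (h : HN φ n) (hc : φ qq * (n * φ qq * n⁻¹) = n * φ qq * n⁻¹ * φ qq) :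
    IsConj n (φ qq * (n * φ qq * n⁻¹)) := by
  obtain ⟨f, -, a2, -, a4⟩ := HN_hom h hc
  have := congrArg f wP.2.2.2.2.2
  simp only [map_mul, map_inv, a2, a4] at this
  exact isConj_iff.mpr ⟨_, this⟩

theorem NR_cs (h : NR φ n) {H : Subgroup G} (h1 : φ z ∈ H) (h2 : φ r1 ∈ H) (h3 : φ qq ∈ H) (h4 : n ∈ H) :
    centralizer {φ s} ≤ H := by
  obtain ⟨M, K, -, -, -, -, -, -, -, -, k5⟩ := h.exists_K
  obtain ⟨f, a1, a2, -, a4⟩ := HN_hom h.toHN k5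
  obtain ⟨θ⟩ := h.iso
  rw [← a2] at h1 h2 h3 ⊢
  exact cent_of_surj a1 ((Nat.bijective_iff_injective_and_card f).mpr ⟨a1, Nat.card_congr θ.symm.toEquiv⟩).2
    (csP h1 h2 h3 (by rwa [← a4] at h4))

theorem RR_cs (h : RR φ n t) {H : Subgroup G} (h1 : φ z ∈ H) (h2 : φ r1 ∈ H) (h3 : φ qq ∈ H) (h4 : n ∈ H)
    (h5 : t ∈ H) (h6 : ∀ g, g * φ s = φ s * g → g * ee φ (0, 2, 2) = ee φ (0, 2, 2) * g → g ∈ H) :
    centralizer {φ s} ≤ H := by
  obtain ⟨m1, m2, m3⟩ := h.main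
  have hp := h.par
  obtain ⟨f, a1, a2, a3, a4⟩ := HN_hom h.toHN m2
  obtain ⟨-, -, -, -, -, -, -, -, -, -, w1, w2, w3⟩ := S_words
  obtain ⟨F, b1, b2⟩ := exists_homW f h.ht.tt (by
    simp only [List.forall_mem_cons, a2, a3]
    refine ⟨by rw [← ee_r1, h.ht.act, hp.neg], h.ht.tr, by rw [← ee_r3, h.ht.act, hp.neg], ?_,
      by simp⟩
    rw [conj_inv, ← h.ht.tr, show t * (n * φ r2 * n⁻¹) * t⁻¹ = t * n * φ r2 * (t * n)⁻¹ by group,
      h.tn]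
    group)
  have b3 : ∀ l, F (iP (iL l)) = φ l := fun l => (b1 _).trans (a2 l)
  have b4 : F (iP nP) = n := (b1 _).trans a4
  have z1 : φ z ≠ 1 := fun e => by simpa [e] using h.oz
  have hy : ∀ {H : Subgroup G}, normalizer (JJ φ : Set G) ≤ H → centralizer {ee φ (1, 2, 2)} ≤ H :=
    fun hN g hg => hN (h.cent_y (mem_centralizer_singleton_iff.mp hg)).1
  rcases h.dich with hD | ⟨X, ψ, hD⟩
  · have hL : ∀ l, φ l ∈ F.range := fun l => ⟨_, b3 l⟩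
    have hN := h.norm_le hL ⟨_, b4⟩ ⟨_, b2⟩
    have i1 := injW (b3 z ▸ z1)
    obtain ⟨θ⟩ := h.top edW i1 (b3 s) hL ⟨_, b4⟩ hN
      (fun g hg => hN (hD g (mem_centralizer_singleton_iff.mp hg))) (hy hN) (m1 _ hL)
    rw [← b3] at h1 h2 h3 ⊢
    exact cent_of_surj i1 ((Nat.bijective_iff_injective_and_card F).mpr ⟨i1, Nat.card_congr θ.symm.toEquiv⟩).2
      (csW h1 h2 h3 (by rwa [← b4] at h4) (by rwa [← b2] at h5))
  have c1 : F tauW = tau φ n t := by simp only [tauW, tau, map_mul, map_inv, b2, b3, b4]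
  have c2 : ψ (swap 1 2) = n * φ (s * eL (1, 2, 2)) := by
    rw [map_mul, ← mul_assoc, ← hD.s1, ← ee, ← hD.y, ← map_mul]
    exact congrArg ψ (by decide)
  have c3 : ψ (swap 3 4) = φ (eL (0, 1, 2) * s) := by
    rw [map_mul, ← hD.s5, ← ee, ← hD.w, ← map_mul]
    exact congrArg ψ (by decide)
  have c4 : ψ t6 = tau φ n t := by
    obtain ⟨p, e⟩ := (hD.ran _).mp (hD.inv (h.acts_tau.comm rfl) (pow_four_of_sq h.tau2))
    have d1 := congrArg F w1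
    have d2 := congrArg F w2
    simp only [map_mul F, map_mul iP, map_inv, c1, b3, b4] at d1 d2
    rw [← e, (s6_facts p).2.2.1 (hD.inj (by rw [map_mul, map_mul, map_inv, e, hD.s5, d1, c2]))
      (hD.inj (by rw [map_mul, map_mul, map_inv, e, hD.s1, d2, c3]))
      (hD.inj (by rw [map_mul, e, h.tau2, map_one]))]
  have c5 : Commute (ψ (v6 * swap 4 5)) n := by
    rw [← hD.n6]; exact Commute.map (show _ * n6 = n6 * _ by decide) ψ
  have c6 : n * ψ (v6 * swap 4 5) = ψ (swap 2 3) := by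
    rw [← hD.n6, ← map_mul]; exact congrArg ψ (by decide)
  obtain ⟨E, d1, d2⟩ := exists_homS F (c := ψ (v6 * swap 4 5))
    (by rw [← map_mul, ← map_one ψ]; exact congrArg ψ (by decide)) (by
      simp only [List.forall_mem_cons, b2, b3, b4]
      refine ⟨?_, hD.cx _, ?_, c5, by simp⟩
      · rw [map_mul, hD.s5]
        exact Commute.mul_left (m3 X ψ hD).symm (map_cm φ s_facts.2.2.2.1.symm)
      · rw [← mul_inv_cancel_right t n]
        exact Commute.mul_right (hD.ca _).symm c5.inv_right)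
    (by rw [b4, b3, c6, ← c3, ← map_mul, ← map_pow, ← map_one ψ]; exact congrArg ψ (by decide))
    (by rw [c1, ← c4, ← map_mul, ← map_pow, ← map_one ψ]; exact congrArg ψ (by decide))
  have b5 : ∀ l, E (iW (iP (iL l))) = φ l := fun l => (d1 _).trans (b3 l)
  have i1 : Function.Injective E := injS (by rwa [b5])
  have i2 : Nat.card S7 ≤ Nat.card G := Nat.card_le_card_of_injective E i1
  obtain ⟨⟨θ⟩⟩ | ⟨⟨θ⟩⟩ := h.iso
  · rw [Nat.card_congr θ.toEquiv, card_W, card_S.1] at i2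
    omega
  have h7 := h6 _ (by rw [← hD.s5, ← map_mul, ← map_mul]; exact congrArg ψ (by decide)) (hD.cx (v6 * swap 4 5))
  rw [← b5] at h1 h2 h3 ⊢
  exact cent_of_surj i1 ((Nat.bijective_iff_injective_and_card E).mpr ⟨i1, Nat.card_congr θ.symm.toEquiv⟩).2
    (csS h1 h2 h3 (by rwa [← b4, ← d1] at h4) (by rwa [← b2, ← d1] at h5) (by rwa [← d2] at h7))

end Cfsg.Agent.O83
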