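import Cfsg.Agent.O83.No6A0
import Cfsg.Agent.O83.No6K

/-! A copy of the Weyl group of type `E₆` in the section. -/

set_option autoImplicit false
set_option linter.unusedSectionVars false
set_option linter.unusedVariables false

namespace Cfsg.Agent.O83

open Subgroup Cfsg.Agent.Char Cfsg.Agent.Local Cfsg.Agent.P43 Cfsg.Agent.P43.L Equiv

universe u

variable {G : Type u} [Group G] [Finite G] {J : Subgroup G} {e : V → G} {φ : L →* G} {g n ι w d t p a b : G}
  {X : Type u} [Group X] [Finite X] {π : G → X}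

theorem B.no6a (h : B J e φ) (hd : Dd e φ d) (hw : Ww e φ w) (hc : Cm e (φ s)) (i1 : Ac e ι fun v => -v)
    (i2 : φ s * ι = ι * φ s) (hn : Nn e φ n) (i4 : n * ι = ι * n) (hp : S6G e φ n p)
    (S : Sec (e (1, 1, 0, 0)) π) : ∃ ψ : L →* X, Function.Injective ψ :=
  h.no6a_of (fun _ _ => h.kcomm hc) hd hw i1 i2 hn i4 hp S

end Cfsg.Agent.O83
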