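import Cfsg.Agent.O83.Basic
import Cfsg.Agent.O83.Mod

/-! The sections `C(x)/⟨x⟩`. -/

set_option autoImplicit false
set_option linter.unusedSectionVars false
set_option maxRecDepth 100000
set_option synthInstance.maxSize 4096

namespace Cfsg.Agent.O83

open Subgroup Cfsg.Agent.Char Cfsg.Agent.Local Cfsg.Agent.P43 Cfsg.Agent.P43.L

attribute [local irreducible] Mat.memN r1 r2 r3 z s sg qq eL Mat.cmul Mat.cinv W W3 W4
attribute [local instance 10000] List.decidableBAll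

universe u

variable {G : Type u} [Group G] {X : Type u} [Group X]

/-- `π` is the projection of the centraliser of `x` onto its quotient by `⟨x⟩`. -/
structure Sec (x : G) (π : G → X) : Prop where
  mul : ∀ a b, Commute a x → Commute b x → π (a * b) = π a * π b
  surj : ∀ q, ∃ g, Commute g x ∧ π g = q
  ker : ∀ g, Commute g x → (π g = 1 ↔ g ∈ zpowers x)

theorem exists_sec [Finite G] (x : G) : ∃ (X : Type u) (_ : Group X) (_ : Finite X) (π : G → X), Sec x π := by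
  classical
  have hN : ((zpowers x).subgroupOf (centralizer {x})).Normal := ⟨fun n hn g => by
    obtain ⟨k, hk⟩ := mem_subgroupOf.mp hn
    have h1 : Commute (g : G) n := hk ▸ Commute.zpow_right (mem_centralizer_singleton_iff.mp g.2) k
    exact mem_subgroupOf.mpr ⟨k, hk.trans (by simp [h1.eq])⟩⟩
  have m : ∀ {g}, Commute g x → g ∈ centralizer {x} := fun h => mem_centralizer_singleton_iff.mpr h
  refine ⟨centralizer {x} ⧸ (zpowers x).subgroupOf (centralizer {x}), inferInstance, inferInstance,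
    fun g => if h : g ∈ centralizer {x} then QuotientGroup.mk ⟨g, h⟩ else 1, fun a b ha hb => ?_, fun q => ?_,
    fun g hg => ?_⟩
  · rw [dif_pos (m ha), dif_pos (m hb), dif_pos (m (ha.mul_left hb))]; rfl
  · obtain ⟨g, rfl⟩ := QuotientGroup.mk_surjective q
    exact ⟨g, mem_centralizer_singleton_iff.mp g.2, dif_pos g.2⟩
  · rw [dif_pos (m hg), QuotientGroup.eq_one_iff, mem_subgroupOf]

namespace Sec

variable {x a b g : G} {π : G → X} (S : Sec x π)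
include S

theorem one : π 1 = 1 := (S.ker 1 (Commute.one_left x)).mpr (one_mem _)

theorem inv (ha : Commute a x) : π a⁻¹ = (π a)⁻¹ :=
  eq_inv_of_mul_eq_one_left (by rw [← S.mul _ _ ha.inv_left ha, inv_mul_cancel, S.one])

theorem pow (ha : Commute a x) (n : ℕ) : π (a ^ n) = π a ^ n := by
  induction n with
  | zero => simpa using S.one
  | succ n ih => rw [pow_succ, S.mul _ _ (ha.pow_left n) ha, ih, pow_succ]

theorem cj (hg : Commute g x) (ha : Commute a x) : π (g * a * g⁻¹) = π g * π a * (π g)⁻¹ := by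
  rw [S.mul _ _ (hg.mul_left ha) hg.inv_left, S.mul _ _ hg ha, S.inv hg]

theorem eq (ha : Commute a x) (hb : Commute b x) (h : π a = π b) : ∃ k ∈ zpowers x, a = b * k :=
  ⟨b⁻¹ * a, (S.ker _ (hb.inv_left.mul_left ha)).mp (by rw [S.mul _ _ hb.inv_left ha, S.inv hb, h, inv_mul_cancel]),
    by rw [mul_inv_cancel_left]⟩

theorem cm (ha : Commute a x) (hb : Commute b x) (h : a * b = b * a) : π a * π b = π b * π a := by
  rw [← S.mul _ _ ha hb, h, S.mul _ _ hb ha]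

theorem cm' (ha : Commute a x) (hb : Commute b x) (h : π a * π b = π b * π a) :
    ∃ k ∈ zpowers x, a * b * a⁻¹ = b * k :=
  S.eq ((ha.mul_left hb).mul_left ha.inv_left) hb (by rw [S.cj ha hb, h, mul_inv_cancel_right])

/-- Elements whose orders are prime to the order of `x` are determined by their images. -/
theorem eq_of_pow {n : ℕ} (hn : (orderOf x).Coprime n) (ha : Commute a x) (hb : Commute b x) (a1 : a ^ n = 1)
    (b1 : b ^ n = 1) (h : π a = π b) : a = b := by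
  obtain ⟨k, ⟨i, rfl⟩, rfl⟩ := S.eq ha hb h
  rw [(hb.zpow_right i).mul_pow, b1, one_mul] at a1
  rw [orderOf_eq_one_iff.mp (Nat.eq_one_of_dvd_coprimes hn (orderOf_dvd_of_mem_zpowers ⟨i, rfl⟩)
    (orderOf_dvd_of_pow_eq_one a1)), mul_one]

theorem cm_of_pow {n : ℕ} (hn : (orderOf x).Coprime n) (ha : Commute a x) (hb : Commute b x) (b1 : b ^ n = 1)
    (h : π a * π b = π b * π a) : a * b = b * a :=
  mul_inv_eq_iff_eq_mul.mp (S.eq_of_pow hn ((ha.mul_left hb).mul_left ha.inv_left) hb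
    (by rw [conj_pow, b1]; simp) b1 (by rw [S.cj ha hb, h, mul_inv_cancel_right]))

/-- The preimage of a subgroup. -/
def pre (K : Subgroup X) : Subgroup G where
  carrier := {g | Commute g x ∧ π g ∈ K}
  mul_mem' := fun ha hb => ⟨ha.1.mul_left hb.1, S.mul _ _ ha.1 hb.1 ▸ mul_mem ha.2 hb.2⟩
  one_mem' := ⟨Commute.one_left x, S.one ▸ one_mem K⟩
  inv_mem' := fun ha => ⟨ha.1.inv_left, S.inv ha.1 ▸ inv_mem ha.2⟩

/-- The image of a subgroup. -/
def img (H : Subgroup G) : Subgroup X where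
  carrier := {q | ∃ g ∈ H, Commute g x ∧ π g = q}
  mul_mem' := by
    rintro _ _ ⟨a, a1, a2, rfl⟩ ⟨b, b1, b2, rfl⟩
    exact ⟨a * b, mul_mem a1 b1, a2.mul_left b2, S.mul _ _ a2 b2⟩
  one_mem' := ⟨1, one_mem _, Commute.one_left x, S.one⟩
  inv_mem' := by
    rintro _ ⟨a, a1, a2, rfl⟩
    exact ⟨a⁻¹, inv_mem a1, a2.inv_left, S.inv a2⟩

theorem of_img {H : Subgroup G} (hx : x ∈ H) (hg : Commute g x) (h : π g ∈ S.img H) : g ∈ H := by
  obtain ⟨a, a1, a2, a3⟩ := h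
  obtain ⟨k, hk, rfl⟩ := S.eq hg a2 a3.symm
  exact mul_mem a1 (zpowers_le.mpr hx hk)

theorem pre_norm [Finite G] {K : Subgroup X} (hg : Commute g x) (h : π g ∈ normalizer (K : Set X)) :
    g ∈ normalizer (S.pre K : Set G) :=
  mem_normalizer_of_conj_mem fun _ ha => ⟨(hg.mul_left ha.1).mul_left hg.inv_left,
    S.cj hg ha.1 ▸ conj_mem_of_mem_normalizer h ha.2⟩

theorem pre_three [Finite X] {K : Subgroup X} (h3 : ¬ 3 ∣ Nat.card K) {k : ℕ} (hg : g ∈ S.pre K)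
    (h : g ^ 3 ^ k = 1) : g ∈ zpowers x :=
  (S.ker g hg.1).mp (orderOf_eq_one_iff.mp (Nat.eq_one_of_dvd_coprimes
    (((Nat.Prime.coprime_iff_not_dvd Nat.prime_three).mpr h3).pow_left k)
    (orderOf_dvd_of_pow_eq_one (by rw [← S.pow hg.1, h, S.one])) (orderOf_dvd_card_of_mem hg.2)))

theorem bot_of {K : Subgroup X} (h : S.pre K ≤ zpowers x) : K = ⊥ :=
  eq_bot_iff.mpr fun q hq => by
    obtain ⟨g, hg, rfl⟩ := S.surj q
    exact (S.ker g hg).mpr (h ⟨hg, hq⟩)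

/-- The induced homomorphism. -/
def hom (φ : L →* G) (h : ∀ l, Commute (φ l) x) : L →* X :=
  MonoidHom.mk' (fun l => π (φ l)) fun a b => by rw [map_mul, S.mul _ _ (h a) (h b)]

end Sec

variable [Finite G] [Finite X] {J : Subgroup G} {e : V → G} {φ : L →* G} {x g n ι w : G} {π : G → X}

/-- The common hypotheses for `x = a` and `x = w`. -/
structure Sx (J : Subgroup G) (e : V → G) (φ : L →* G) (x : G) (π : G → X) : Prop extends B J e φ, Sec x π where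
  cx : ∀ l, Commute (φ l) x
  base : Base (toSec.hom φ cx)
  nl : ∀ g, Commute g x → (∀ v, ∃ u, ∃ k ∈ zpowers x, g * e (emb v) * g⁻¹ = e (emb u) * k) →
    g ∈ normalizer (J : Set G)
  fix : ∀ g m, Commute g x → m ∈ W → Ac e g (ap m) → m.1 = (1, 0, 0, 0) ∨ m.1 = (2, 0, 0, 0)

namespace Sx

variable (S : Sx J e φ x π)
include S

/-- The induced homomorphism. -/
abbrev ψ : L →* X := S.toSec.hom φ S.cx

theorem ψ_apply (l : L) : S.ψ l = π (φ l) := rfl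

theorem ce (v : V27) : Commute (e (emb v)) x := S.ee v ▸ S.cx _

theorem ee' (v : V27) : P43.ee S.ψ v = π (e (emb v)) := by rw [← S.ee]; rfl

theorem acts {f : V → V} {f' : V27 → V27} (hg : Commute g x) (h : Ac e g f) (hf : ∀ v, f (emb v) = emb (f' v)) :
    Acts (P43.ee S.ψ) (π g) f' := fun v => by
  rw [S.ee', S.ee', ← S.cj hg (S.ce v), h, hf]

theorem nrm (hg : Commute g x) (h : π g ∈ normalizer (JJ S.ψ : Set X)) : g ∈ normalizer (J : Set G) :=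
  S.nl g hg fun v => by
    obtain ⟨u, hu⟩ := conj_mem_of_mem_normalizer h (⟨v, rfl⟩ : P43.ee S.ψ v ∈ JJ S.ψ)
    rw [S.ee', S.ee', ← S.cj hg (S.ce v)] at hu
    exact ⟨u, S.eq ((hg.mul_left (S.ce v)).mul_left hg.inv_left) (S.ce u) hu.symm⟩

theorem hn (hx : Commute n x) (h1 : Ac e n (ap (ms 1))) (h2 : n * n = 1) (h3 : n * φ s = φ s * n) :
    HN S.ψ (π n) :=
  ⟨S.base, by rw [← S.mul _ _ hx hx, h2, S.one], S.cm hx (S.cx s) h3, S.acts hx h1 (by decide +kernel)⟩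

theorem nor48 (q : X) (hq : q ∈ normalizer (JJ S.ψ : Set X)) : ∃ u ∈ act48, Acts (P43.ee S.ψ) q (lin u) := by
  obtain ⟨g, hg, rfl⟩ := S.surj q
  obtain ⟨m, hm, h1⟩ := S.nor g (S.nrm hg hq)
  obtain ⟨h2, h3⟩ := (by decide +kernel : ∀ m ∈ W, m.1 = (1, 0, 0, 0) ∨ m.1 = (2, 0, 0, 0) →
    (pr (ap m (emb (1, 0, 0))), pr (ap m (emb (0, 1, 0))), pr (ap m (emb (0, 0, 1)))) ∈ act48 ∧ ∀ v, ap m (emb v) =
      emb (lin (pr (ap m (emb (1, 0, 0))), pr (ap m (emb (0, 1, 0))), pr (ap m (emb (0, 0, 1)))) v)) m hm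
        (S.fix g m hg hm h1)
  exact ⟨_, h2, S.acts hg h1 h3⟩

theorem rr (hx : Commute n x) (h1 : Ac e n (ap (ms 1))) (h2 : n * n = 1) (h3 : n * φ s = φ s * n)
    {f : V → V} (i0 : Commute ι x) (i1 : Ac e ι f) (hf : ∀ v, f (emb v) = emb (-v)) (i2 : ι * ι = 1)
    (i3 : ι * φ s = φ s * ι) (i4 : ι * n = n * ι) : ∃ t, RR S.ψ (π n) t := by
  obtain ⟨t, k1, k2⟩ := HT.norm (φ := S.ψ) (t := π ι)
    ⟨S.base, by rw [← S.mul _ _ i0 i0, i2, S.one], S.cm i0 (S.cx s) i3, S.acts i0 i1 hf⟩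
  have := S.hn hx h1 h2 h3
  exact ⟨t, this, k1, k2 _ this (S.cm i0 hx i4), S.nor48⟩

theorem qn (hx : Commute n x) :
    π n * S.ψ qq * (π n)⁻¹ = π (n * φ qq * n⁻¹) := (S.cj hx (S.cx qq)).symm

theorem mem_img (l : L) (hl : φ l ∈ T0 J e (φ s)) : S.ψ l ∈ S.img (T0 J e (φ s)) := ⟨_, hl, S.cx l, rfl⟩

theorem gens : S.ψ z ∈ S.img (T0 J e (φ s)) ∧ S.ψ r1 ∈ S.img (T0 J e (φ s)) ∧ S.ψ qq ∈ S.img (T0 J e (φ s)) :=
  ⟨S.mem_img z (S.toB.ez ▸ S.toB.mem_T0 (ac_par S.par _) (S.toB.ac_s.comm rfl).symm),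
    S.mem_img r1 (by
      rw [← eL_val.1, S.ee]; exact S.toB.mem_T0 (ac_par S.par _) (S.toB.ac_s.comm rfl).symm),
    S.mem_img qq (S.toB.R_le_T0 0 (S.toB.mem_R.mpr (S.toB.q8.mpr ⟨qq, qq_QL.1.1, qq_QL.1.2, rfl⟩)))⟩

/-- The centraliser of `t` in the section, real case. -/
theorem rr_cs {t : X} (R : RR S.ψ (π n) t) (hx : Commute n x) (h1 : Ac e n (ap (ms 1))) (h3 : n * φ s = φ s * n)
    (xT : x ∈ T0 J e (φ s)) (ls : ∀ g, Commute g x → π g * π (φ s) = π (φ s) * π g → g * φ s = φ s * g)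
    (h6 : ∀ g, Commute g x → g * φ s = φ s * g → π g * P43.ee S.ψ (0, 2, 2) = P43.ee S.ψ (0, 2, 2) * π g →
      g ∈ T0 J e (φ s)) (hg : Commute g x) (gs : g * φ s = φ s * g) : g ∈ T0 J e (φ s) := by
  refine S.of_img xT hg (RR_cs R S.gens.1 S.gens.2.1 S.gens.2.2 ⟨n, S.toB.mem_T0 h1 h3, hx, rfl⟩ ?_
    (fun q q1 q2 => ?_) (mem_centralizer_singleton_iff.mpr (S.cm hg (S.cx s) gs)))
  · obtain ⟨k, hk, rfl⟩ := S.surj t
    exact ⟨k, mem_sup_right ⟨S.nrm hk (R.ht.act.norm R.par), mem_centralizer_singleton_iff.mpr (ls k hk R.ht.ts)⟩,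
      hk, rfl⟩
  · obtain ⟨k, hk, rfl⟩ := S.surj q
    exact ⟨k, h6 k hk (ls k hk q1) q2, hk, rfl⟩

end Sx

namespace B

variable (h : B J e φ)
include h

theorem fus {u v : V} (h1 : g * e u * g⁻¹ = e v) : ∃ k, ∃ m ∈ W, Ac e k (ap m) ∧ ap m u = v := by
  obtain ⟨k, -, k1, k2⟩ := h.wj.wn.fusion h.wj.pg h.wj.comm le_top (h.par.mem' u) (mem_top g) (h1 ▸ h.par.mem' v)
  obtain ⟨m, hm, k3⟩ := h.nor k k1
  exact ⟨k, m, hm, k3, h.par.inj (by rw [← k3, k2, h1])⟩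

theorem zp_a {k : G} (hk : k ∈ zpowers (e (1, 0, 0, 0))) : ∃ i, k = e (i, 0, 0, 0) := by
  rcases mem_zpowers_three (h.oe (by decide)) hk with rfl | rfl | rfl
  exacts [⟨0, h.par.zero.symm⟩, ⟨1, rfl⟩, ⟨-1, (h.par.neg (1, 0, 0, 0)).symm⟩]

theorem a_zp (i : ZMod 3) : e (i, 0, 0, 0) ∈ zpowers (e (1, 0, 0, 0)) := by
  obtain rfl | rfl | rfl := (by decide : ∀ k : ZMod 3, k = 0 ∨ k = 1 ∨ k = -1) i
  exacts [(show e (0, 0, 0, 0) = 1 from h.par.zero) ▸ one_mem _, mem_zpowers _,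
    (show e (-1, 0, 0, 0) = _ from h.par.neg (1, 0, 0, 0)) ▸ inv_mem (mem_zpowers _)]

theorem sx_a (S : Sec (e (1, 0, 0, 0)) π) : Sx J e φ (e (1, 0, 0, 0)) π := by
  have nl : ∀ g, Commute g (e (1, 0, 0, 0)) → (∀ v, ∃ u, ∃ k ∈ zpowers (e (1, 0, 0, 0)),
      g * e (emb v) * g⁻¹ = e (emb u) * k) → g ∈ normalizer (J : Set G) := fun g hg h1 =>
    mem_normalizer_of_conj_mem fun j hj => by
      obtain ⟨v, rfl⟩ := (h.par.mem j).mp hj
      obtain ⟨u, k, hk, h2⟩ := h1 (pr v)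
      obtain ⟨i, hi⟩ := h.a_zp v.1
      rw [emb_pr v, h.par.add, ← conj_mul, h2, ← hi, mul_inv_eq_iff_eq_mul.mpr (hg.zpow_right i).eq]
      exact mul_mem (zpow_mem (h.par.mem' _) _) (mul_mem (h.par.mem' _) (zpowers_le.mpr (h.par.mem' _) hk))
  refine ⟨h, S, h.ca, ⟨(injective_iff_map_eq_one _).mpr fun l hl => ?_, fun q hq => ?_, fun K h3 hK => ?_⟩, nl,
    fun g m hg hm h1 => .inl (by simpa [ap] using h1.fix h.par hg.eq)⟩
  · obtain ⟨i, hi⟩ := h.zp_a ((S.ker _ (h.ca l)).mp hl)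
    obtain ⟨rfl, rfl⟩ : i = 0 ∧ _ := h.mem_L hi
    exact eL_zero
  · obtain ⟨g, hg, rfl⟩ := S.surj q
    obtain ⟨k, hk, h1⟩ := S.cm' hg (h.ca z) hq
    obtain ⟨i, rfl⟩ := h.zp_a hk
    rw [h.ez, ← h.par.add] at h1
    obtain ⟨-, m, hm, -, h2⟩ := h.fus h1
    obtain rfl := (by decide : ∀ i : ZMod 3, ip ((0, 1, 1, 1) + (i, 0, 0, 0)) ((0, 1, 1, 1) + (i, 0, 0, 0)) =
      ip (0, 1, 1, 1) (0, 1, 1, 1) → i = 0) i (by rw [← h2, ip_ap hm])
    obtain ⟨l, j, rfl⟩ := h.cent_za (h.ez ▸ mul_inv_eq_iff_eq_mul.mp h1) hg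
    obtain ⟨i, hi⟩ := h.a_zp j
    have c : Commute (e (j, 0, 0, 0)) (e (1, 0, 0, 0)) := h.ecm _ _
    exact ⟨l, by rw [S.mul _ _ (h.ca l) c, (S.ker _ c).mpr (h.a_zp j), mul_one]; rfl⟩
  · have h1 : IsSylowIn 3 (zpowers (e (1, 0, 0, 0))) (S.pre K) :=
      isSylowIn_of_maximal (zpowers_le.mpr ⟨Commute.refl _, (S.ker _ (Commute.refl _)).mpr (mem_zpowers _) ▸
        one_mem K⟩) (isPGroup_zpowers_of_orderOf_eq (h.oe (by decide))) fun Q hQ h1 h2 =>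
          le_antisymm (fun g hg => (hQ ⟨g, hg⟩).elim fun k hk => S.pre_three h3 (h2 hg) (congrArg Subtype.val hk)) h1
    have h2 : HasNPC 3 (S.pre K) := hasNPC_of_fusion h1 fun _ ⟨i, hi⟩ g hg _ => ⟨1, one_mem _, by
      rw [← hi, mul_inv_eq_iff_eq_mul.mpr (hg.1.zpow_right i).eq]; simp⟩
    refine S.bot_of ?_
    rw [← h2.sup_compl h1, h.wj.sig h2.compl ((Nat.Prime.coprime_iff_not_dvd Nat.prime_three).mp
      (h2.coprime_card Nat.prime_three).symm) (fun j hj => h2.normalizer_le ?_), sup_bot_eq]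
    obtain ⟨v, rfl⟩ := (h.par.mem j).mp hj
    rw [emb_pr v, h.par.add]
    exact mul_mem (le_normalizer (h1.le (h.a_zp _))) (S.pre_norm (h.ecm _ _) (hK ⟨pr v, by rw [← h.ee]; rfl⟩))

end B

end Cfsg.Agent.O83
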